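import Cfsg.Agent.Lib.BaseCop.Small.Search

/-!
The certificate for p = 5, dimension 4.
-/

set_option autoImplicit false

namespace CfsgLib.BaseCop.Small

/-- the pair -/
def dataFiveFour : List (List ℕ × List ℕ) :=
  [([0, 0, 3, 4, 4, 4, 3, 2, 4, 2, 3, 0, 3, 1, 1, 1], [])]

set_option maxRecDepth 100000 in
set_option maxHeartbeats 2000000 in
theorem checkFiveFour : check 5 4 1 [] dataFiveFour = true := by decide +kernel

end CfsgLib.BaseCop.Small
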