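import Cfsg.Agent.Lib.BaseCop.Small.Parts

/-!
The certificate for p = 5, dimension 3, in parts.
-/

set_option autoImplicit false
set_option maxRecDepth 100000
set_option maxHeartbeats 2000000
set_option Elab.async false

namespace CfsgLib.BaseCop.Small

/-- the pairs -/
def dataFiveThree : List (List ℕ × List ℕ) :=
  [([0, 4, 1, 4, 3, 0, 4, 2], []),
    ([0, 4, 1, 4, 3, 0, 4, 2], [57, 7, 57, 32, 29]),
    ([0, 4, 1, 4, 3, 0, 4, 2], [62, 2]),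
    ([0, 4, 1, 4, 3, 0, 4, 2], [29, 40, 48, 13, 9, 52]),
    ([0, 4, 1, 4, 3, 0, 4, 2], [19, 41]),
    ([0, 4, 1, 4, 3, 0, 4, 2], [35, 43]),
    ([0, 4, 1, 4, 3, 0, 4, 2], [12, 6, 24, 29, 59]),
    ([0, 3, 0, 3, 0, 1, 3, 1], [25, 41])]

theorem fiveThreePart0 : part 5 3 ([0, 4, 1, 4, 3, 0, 4, 2], [])
    [[6, 5, 4, 16, 8, 56], [6, 2, 3, 36, 60, 11], [1, 5, 3, 60, 36, 19]] = true := by decide +kernel

theorem fiveThreePart1 : part 5 3 ([0, 4, 1, 4, 3, 0, 4, 2], [57, 7, 57, 32, 29])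
    [[38, 37, 31, 52, 44, 59], [1, 37, 17, 58, 5, 18], [38, 2, 10, 6, 57, 9]] = true := by decide +kernel

theorem fiveThreePart2 : part 5 3 ([0, 4, 1, 4, 3, 0, 4, 2], [62, 2])
    [[34, 33, 30, 18, 41, 32], [20, 46, 17, 36, 16, 25], [55, 13, 11, 62, 41, 25]] = true := by decide +kernel

theorem fiveThreePart3 : part 5 3 ([0, 4, 1, 4, 3, 0, 4, 2], [29, 40, 48, 13, 9, 52])
    [[1, 2, 4, 8, 20, 34], [7, 2, 4, 8, 24, 40], [7, 2, 4, 8, 28, 42]] = true := by decide +kernel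

theorem fiveThreePart4 : part 5 3 ([0, 4, 1, 4, 3, 0, 4, 2], [19, 41])
    [[1, 32, 16, 8, 4, 2], [21, 41, 16, 28, 4, 11], [21, 11, 4, 28, 16, 41]] = true := by decide +kernel

theorem fiveThreePart5 : part 5 3 ([0, 4, 1, 4, 3, 0, 4, 2], [35, 43])
    [[37, 38, 28, 8, 16, 56], [37, 2, 12, 8, 16, 40], [1, 38, 20, 8, 16, 48]] = true := by decide +kernel

theorem fiveThreePart6 : part 5 3 ([0, 4, 1, 4, 3, 0, 4, 2], [12, 6, 24, 29, 59])
    [[1, 37, 19, 56, 32, 16], [1, 36, 18, 8, 32, 16], [1, 3, 5, 56, 16, 32]] = true := by decide +kernel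

theorem fiveThreePart7 : part 5 3 ([0, 3, 0, 3, 0, 1, 3, 1], [25, 41])
    [[1, 5, 3, 62, 33, 17], [55, 41, 25, 62, 13, 11], [55, 46, 30, 8, 60, 58], [1, 35, 20, 24, 16, 32], [1, 21, 34, 31, 33, 17], [48, 15, 9, 52, 16, 17], [48, 57, 63, 51, 33, 32], [48, 46, 25, 36, 16, 17], [48, 41, 30, 18, 33, 32], [6, 5, 4, 18, 13, 58], [6, 2, 3, 36, 60, 11]] = true := by decide +kernel

/-- the other candidate lists -/
def fiveThreeRest : List (List (List ℕ)) :=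
  [[[38, 37, 31, 52, 44, 59], [1, 37, 17, 58, 5, 18], [38, 2, 10, 6, 57, 9]],
    [[34, 33, 30, 18, 41, 32], [20, 46, 17, 36, 16, 25], [55, 13, 11, 62, 41, 25]],
    [[1, 2, 4, 8, 20, 34], [7, 2, 4, 8, 24, 40], [7, 2, 4, 8, 28, 42]],
    [[1, 32, 16, 8, 4, 2], [21, 41, 16, 28, 4, 11], [21, 11, 4, 28, 16, 41]],
    [[37, 38, 28, 8, 16, 56], [37, 2, 12, 8, 16, 40], [1, 38, 20, 8, 16, 48]],
    [[1, 37, 19, 56, 32, 16], [1, 36, 18, 8, 32, 16], [1, 3, 5, 56, 16, 32]],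
    [[1, 5, 3, 62, 33, 17], [55, 41, 25, 62, 13, 11], [55, 46, 30, 8, 60, 58], [1, 35, 20, 24, 16, 32], [1, 21, 34, 31, 33, 17], [48, 15, 9, 52, 16, 17], [48, 57, 63, 51, 33, 32], [48, 46, 25, 36, 16, 17], [48, 41, 30, 18, 33, 32], [6, 5, 4, 18, 13, 58], [6, 2, 3, 36, 60, 11]]]

/-- witnesses -/
def fiveThreeTree0 : Tr :=
  .node [.node [.node [.leaf 7 2, .node [.leaf 7 3, .leaf 13 2, .node [.leaf 13 2, .leaf 14 1, .leaf 14 3]], .leaf 7 2], .node [.node [.leaf 7 2, .leaf 7 3, .leaf 13 2], .node [.leaf 7 2, .leaf 7 3,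
      .node [.node [.leaf 13 2, .leaf 31 1, .leaf 31 2], .leaf 18 1, .leaf 25 2]], .node [.leaf 7 2, .leaf 7 3, .node [.leaf 13 3, .leaf 18 1, .leaf 11 1]]], .node [.leaf 7 3, .node [.node [.leaf 13 3,
      .leaf 13 2, .leaf 18 1], .node [.leaf 13 3, .leaf 13 2, .leaf 14 3], .node [.leaf 13 3, .leaf 18 1, .leaf 14 3]], .node [.leaf 14 2, .node [.leaf 13 3, .leaf 25 2, .leaf 11 1],
      .leaf 14 1]]], .node [.node [.leaf 7 3, .leaf 7 2, .node [.leaf 7 3, .leaf 7 1, .leaf 14 3]], .node [.node [.node [.leaf 7 1, .leaf 11 3, .leaf 7 3], .node [.leaf 7 1, .leaf 24 1, .leaf 7 3],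
      .leaf 7 1], .node [.leaf 13 2, .leaf 11 1, .leaf 7 1], .node [.node [.leaf 7 1, .leaf 24 2, .leaf 7 3], .node [.leaf 7 1, .leaf 21 3, .leaf 7 3], .leaf 7 1]], .node [.leaf 7 2,
      .node [.node [.leaf 14 1, .leaf 11 1, .leaf 20 3], .leaf 11 1, .leaf 7 3], .node [.leaf 14 3, .leaf 14 1, .leaf 7 3]]], .node [.node [.node [.leaf 11 2, .leaf 14 2, .node [.leaf 13 1, .leaf 7 2,
      .leaf 11 1]], .node [.node [.leaf 7 2, .leaf 7 2, .leaf 24 3], .leaf 14 1, .leaf 14 3], .leaf 7 3], .node [.node [.leaf 11 2, .node [.leaf 13 1, .node [.leaf 20 1, .leaf 11 2, .leaf 7 2],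
      .leaf 11 1], .leaf 13 2], .node [.leaf 13 2, .node [.leaf 21 1, .leaf 25 1, .leaf 25 3], .leaf 14 3], .node [.node [.leaf 25 2, .leaf 14 1, .leaf 21 3], .leaf 14 1, .node [.leaf 21 2,
      .leaf 14 1, .leaf 25 2]]], .node [.node [.leaf 11 2, .leaf 13 2, .leaf 13 2], .leaf 7 2, .leaf 7 2]]]

theorem fiveThreeFirst0 : chkT 5 6 3 fiveThreeRest [] [6, 5, 4, 16, 8, 56] fiveThreeTree0 = true := by decide +kernel

/-- witnesses -/
def fiveThreeTree1 : Tr :=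
  .node [.node [.node [.leaf 7 2, .node [.leaf 11 2, .leaf 13 2, .leaf 7 2], .node [.leaf 13 3, .node [.leaf 20 2, .leaf 11 3, .leaf 14 2], .leaf 7 2]], .node [.node [.leaf 13 1, .leaf 7 3, .leaf 14 2],
      .node [.leaf 7 2, .leaf 13 1, .leaf 13 1], .node [.leaf 13 1, .leaf 7 3, .node [.node [.leaf 7 2, .leaf 7 2, .leaf 14 2], .leaf 24 2, .leaf 25 2]]], .node [.node [.leaf 11 2, .leaf 13 3,
      .leaf 13 1], .leaf 7 2, .node [.leaf 14 2, .leaf 13 3, .leaf 13 1]]], .node [.node [.node [.leaf 13 3, .leaf 13 3, .node [.leaf 20 2, .leaf 23 2, .leaf 18 2]], .node [.leaf 11 2, .leaf 13 2,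
      .leaf 13 2], .node [.leaf 13 3, .node [.leaf 20 2, .leaf 18 3, .leaf 20 2], .leaf 13 3]], .node [.leaf 7 3, .leaf 7 3, .node [.leaf 13 1, .node [.leaf 14 1, .leaf 18 3, .leaf 14 3],
      .leaf 14 1]], .node [.node [.node [.leaf 13 2, .node [.leaf 21 1, .leaf 14 2, .leaf 18 1], .leaf 25 1], .leaf 7 3, .leaf 13 1], .leaf 7 2, .node [.leaf 14 3, .leaf 14 1, .leaf 13 1]]],
      .node [.node [.node [.leaf 7 2, .leaf 14 2, .leaf 7 2], .node [.leaf 7 2, .leaf 14 1, .leaf 7 2], .node [.leaf 7 2, .node [.leaf 20 2, .leaf 14 2, .leaf 24 1], .leaf 7 2]], .node [.node [.leaf 13 1,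
      .node [.leaf 21 1, .node [.leaf 38 2, .leaf 29 1, .leaf 11 1], .leaf 11 3], .leaf 7 2], .leaf 7 3, .leaf 7 1], .node [.node [.node [.leaf 13 2, .leaf 18 2, .leaf 25 1], .leaf 13 3,
      .leaf 13 1], .node [.node [.leaf 11 3, .leaf 18 2, .leaf 18 2], .node [.leaf 11 3, .leaf 23 1, .node [.leaf 20 1, .leaf 11 1, .leaf 23 1]], .node [.leaf 20 2, .leaf 23 2, .leaf 18 3]],
      .leaf 7 2]]]

theorem fiveThreeFirst1 : chkT 5 6 3 fiveThreeRest [] [6, 2, 3, 36, 60, 11] fiveThreeTree1 = true := by decide +kernel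

/-- witnesses -/
def fiveThreeTree2 : Tr :=
  .node [.node [.node [.node [.node [.node [.leaf 34 2, .leaf 11 2, .node [.leaf 31 1, .leaf 11 2, .leaf 59 1, .leaf 31 1, .leaf 30 1, .leaf 25 1, .leaf 12 1, .leaf 52 1, .leaf 31 1, .leaf 25 1,
      .leaf 14 2]], .leaf 24 2, .leaf 7 2], .leaf 7 2, .node [.node [.leaf 20 1, .leaf 40 1, .node [.leaf 31 1, .leaf 11 2, .leaf 59 1, .leaf 24 1, .leaf 25 1, .leaf 31 1,
      .leaf 12 1, .leaf 24 1, .leaf 31 1, .leaf 18 1, .leaf 14 2]], .leaf 23 2, .leaf 7 2]], .leaf 7 2, .leaf 7 3], .node [.leaf 7 1, .node [.leaf 13 2, .leaf 11 3,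
      .leaf 11 2], .leaf 7 3], .node [.node [.leaf 14 2, .node [.leaf 20 2, .leaf 7 2, .leaf 25 2], .node [.leaf 25 2, .leaf 7 2, .leaf 18 3]], .leaf 7 2, .node [.leaf 14 2, .node [.leaf 20 2,
      .leaf 7 2, .leaf 25 2], .leaf 14 1]]], .node [.node [.leaf 7 2, .node [.leaf 7 1, .leaf 14 2, .leaf 13 3], .node [.leaf 7 1, .node [.node [.leaf 13 3, .leaf 20 1, .leaf 13 1], .leaf 18 1,
      .leaf 7 2], .leaf 13 3]], .node [.leaf 7 3, .leaf 7 3, .node [.leaf 13 3, .node [.leaf 13 1, .leaf 18 1, .leaf 7 1], .leaf 14 1]], .node [.node [.leaf 11 2, .leaf 7 1, .node [.leaf 25 2,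
      .leaf 23 2, .node [.leaf 11 1, .leaf 20 1, .leaf 7 1]]], .node [.leaf 7 3, .leaf 7 1, .node [.leaf 14 1, .leaf 14 3, .node [.leaf 11 1, .leaf 20 1, .leaf 7 1]]], .node [.leaf 7 3,
      .leaf 7 1, .node [.leaf 25 2, .leaf 25 2, .node [.leaf 38 1, .leaf 20 1, .leaf 7 1]]]]], .node [.node [.node [.leaf 11 3, .leaf 14 2, .leaf 7 2], .node [.leaf 13 2, .leaf 14 1, .leaf 7 2],
      .leaf 7 3], .node [.node [.leaf 11 3, .node [.leaf 7 1, .node [.leaf 38 2, .leaf 32 2, .leaf 14 2], .leaf 13 1], .leaf 11 2], .leaf 7 1, .leaf 7 3], .node [.node [.leaf 11 3, .leaf 14 3,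
      .leaf 7 2], .leaf 7 2, .node [.node [.leaf 25 1, .leaf 7 2, .leaf 25 3], .leaf 14 1, .leaf 7 2]]]]

theorem fiveThreeFirst2 : chkT 5 6 3 fiveThreeRest [] [1, 5, 3, 60, 36, 19] fiveThreeTree2 = true := by decide +kernel

theorem baseFiveThree [Fact (Nat.Prime 5)] {G : Type*} [Group G] [Finite G] [DistribMulAction G (V 5 3)]
    (hG : ¬5 ∣ Nat.card G) (hf : ∀ g : G, (∀ x : V 5 3, g • x = x) → g = 1)
    (hnorm : ∀ (g : G) b c, ∃ s b' c', ∀ x : V 5 3, g • mon 1 b c x = mon s b' c' (g • x)) :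
    ∃ v w : V 5 3, ∀ g : G, g • v = v → g • w = w → g = 1 :=
  exists_base_of_parts (by norm_num) hG hf hnorm dataFiveThree [[6, 5, 4, 16, 8, 56], [6, 2, 3, 36, 60, 11], [1, 5, 3, 60, 36, 19]] fiveThreeRest 3
    (.cons fiveThreePart0 (.cons fiveThreePart1 (.cons fiveThreePart2 (.cons fiveThreePart3 (.cons fiveThreePart4 (.cons fiveThreePart5 (.cons fiveThreePart6 (.cons fiveThreePart7 (.nil)))))))))
    (List.forall_iff_forall_mem.2 (by
      simp only [List.forall_mem_cons]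
      exact ⟨⟨_, fiveThreeFirst0⟩, ⟨_, fiveThreeFirst1⟩, ⟨_, fiveThreeFirst2⟩, by simp⟩))

end CfsgLib.BaseCop.Small
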