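import Cfsg.Agent.Lib.BaseCop.Small.Search

/-!
The certificate for p = 5, dimension 2.
-/

set_option autoImplicit false

namespace CfsgLib.BaseCop.Small

/-- the pairs -/
def dataFiveTwo : List (List ℕ × List ℕ) :=
  [([0, 3, 0, 3], []),
    ([0, 3, 0, 3], [1, 7, 3]),
    ([0, 3, 0, 3], [14]),
    ([0, 3, 0, 3], [12, 8]),
    ([0, 3, 0, 3], [13, 6, 5, 1]),
    ([0, 3, 0, 3], [2, 6, 10, 2])]

set_option maxRecDepth 100000 in
set_option maxHeartbeats 2000000 in
theorem checkFiveTwo : check 5 2 4 [2, 2, 2, 3, 3] dataFiveTwo = true := by decide +kernel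

end CfsgLib.BaseCop.Small
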