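import Cfsg.Agent.Lib.BaseCop.Small.Minus

/-!
The certificate for minus type.
-/

set_option autoImplicit false
set_option Elab.async false

namespace CfsgLib.BaseCop.Small.Minus

/-- first pair -/
def datA : Dat :=
  { v := [0, 2, 0, 0, 0, 2, 1, 0], c₀ := 0, c₁ := 1, c₂ := 1,
    Bi := [[0, 1, 2, 0, 0, 1, 0, 0], [1, 0, 0, 1, 1, 0, 0, 0], [2, 0, 0, 1, 0, 0, 0, 1], [0, 1, 1, 0, 0, 0, 1, 0], [0, 1, 0, 0, 0, 1, 2, 0], [1, 0, 0, 0, 1, 0, 0, 1], [0, 0, 0, 1, 2, 0, 0, 1], [0, 0, 1, 0, 0, 1, 1, 0]],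
    tbl := [1221, 4538, 1950, 2351, 1707, 2270, 978, 4457, 3326, 4301, 6242, 5759, 6404, 5435, 3488, 3977, 4509, 1962, 2295, 1224, 2403, 990, 4563, 1710, 4014, 6309, 5490, 3357, 5796, 3555, 4356, 6435, 501, 218, 510, 191, 258, 137, 267, 110, 446, 701, 482, 719, 608, 377, 644, 395, 4429, 1482, 2215, 744, 2242, 753, 4402, 1473, 3694, 5909, 5170, 2957, 5152, 2993, 3712, 5873] }

/-- second pair -/
def datB : Dat :=
  { v := [2, 0, 2, 1, 0, 0, 2, 0], c₀ := 0, c₁ := 1, c₂ := 0,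
    Bi := [[1, 2, 1, 1, 0, 2, 1, 2], [2, 2, 1, 2, 2, 0, 2, 2], [1, 1, 1, 2, 1, 2, 0, 2], [1, 2, 2, 2, 2, 2, 2, 0], [0, 2, 1, 2, 1, 2, 1, 1], [2, 0, 2, 2, 2, 2, 1, 2], [1, 2, 0, 2, 1, 1, 1, 2], [2, 2, 2, 0, 1, 2, 2, 2]],
    tbl := [1505, 2226, 794, 4449, 776, 4413, 1523, 2262, 5867, 5128, 2978, 3661, 2951, 3670, 5894, 5119, 185, 274, 176, 301, 104, 517, 95, 544, 723, 632, 687, 614, 399, 470, 363, 452, 3825, 3186, 5274, 6129, 5202, 6345, 3735, 3456, 2907, 2088, 5058, 1341, 4770, 1197, 2547, 1908, 1865, 2514, 1136, 4701, 1298, 5025, 2027, 2838, 6083, 5272, 3167, 3814, 3410, 3733, 6326, 5191] }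

set_option maxRecDepth 100000 in
set_option maxHeartbeats 2000000 in
theorem badsA : bads datA =
    [[[2, 0, 1, 0, 1, 1, 2, 2], [2, 1, 1, 2, 0, 2, 0, 1], [1, 0, 1, 0, 1, 1, 1, 1], [1, 2, 1, 2, 0, 2, 0, 2], [1, 1, 1, 1, 1, 0, 1, 0], [0, 2, 0, 2, 1, 2, 1, 2], [2, 2, 1, 1, 1, 0, 2, 0], [0, 1, 0, 2, 1, 2, 2, 1]]] := by decide +kernel

set_option maxRecDepth 100000 in
set_option maxHeartbeats 2000000 in
theorem badsB : bads datB =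
    [[[2, 0, 0, 1, 2, 0, 0, 2], [0, 2, 2, 0, 0, 2, 1, 0], [0, 2, 2, 0, 0, 1, 2, 0], [1, 0, 0, 2, 2, 0, 0, 2], [2, 0, 0, 2, 2, 0, 0, 1], [0, 2, 1, 0, 0, 2, 2, 0], [0, 1, 2, 0, 0, 2, 2, 0], [2, 0, 0, 2, 1, 0, 0, 2]]] := by decide +kernel

set_option maxRecDepth 100000 in
theorem checkMinus : check datA datB = true := by
  rw [check, badsA, badsB]
  decide +kernel

end CfsgLib.BaseCop.Small.Minus
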