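import Cfsg.Agent.Lib.BaseCop.Small.Parts

/-!
The certificate for p = 3, dimension 4, in parts.
-/

set_option autoImplicit false
set_option maxRecDepth 100000
set_option maxHeartbeats 2000000
set_option Elab.async false

namespace CfsgLib.BaseCop.Small

/-- the pairs -/
def dataThreeFour : List (List ℕ × List ℕ) :=
  [([0, 2, 1, 0, 1, 2, 2, 0, 1, 1, 1, 1, 2, 0, 0, 0], []),
    ([0, 2, 1, 0, 1, 2, 2, 0, 1, 1, 1, 1, 2, 0, 0, 0], [79, 68, 58, 167, 218, 77, 77]),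
    ([0, 2, 1, 0, 1, 2, 2, 0, 1, 1, 1, 1, 2, 0, 0, 0], [209, 53, 27]),
    ([0, 2, 1, 0, 1, 2, 2, 0, 1, 1, 1, 1, 2, 0, 0, 0], [209, 233, 229, 142]),
    ([0, 2, 1, 0, 1, 2, 2, 0, 1, 1, 1, 1, 2, 0, 0, 0], [70, 54, 233, 124, 141, 58, 248, 238])]

theorem threeFourPart0 : part 3 4 ([0, 2, 1, 0, 1, 2, 2, 0, 1, 1, 1, 1, 2, 0, 0, 0], [])
    [[1, 4, 2, 14, 22, 205, 171, 134], [2, 1, 4, 8, 44, 28, 67, 131], [4, 2, 1, 10, 64, 160, 16, 128], [1, 4, 2, 9, 148, 72, 41, 134], [1, 2, 4, 15, 146, 165, 194, 128], [2, 1, 4, 15, 174, 153, 193, 131], [4, 2, 1, 13, 194, 37, 146, 128]] = true := by decide +kernel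

theorem threeFourPart1 : part 3 4 ([0, 2, 1, 0, 1, 2, 2, 0, 1, 1, 1, 1, 2, 0, 0, 0], [79, 68, 58, 167, 218, 77, 77])
    [[1, 72, 174, 66, 16, 192, 64, 96], [15, 12, 10, 8, 16, 80, 48, 240], [5, 130, 4, 44, 16, 32, 208, 128], [161, 88, 174, 82, 16, 192, 64, 96], [161, 18, 4, 24, 16, 32, 64, 128], [175, 28, 10, 24, 16, 80, 48, 240], [165, 146, 4, 60, 16, 32, 208, 128]] = true := by decide +kernel

theorem threeFourPart2 : part 3 4 ([0, 2, 1, 0, 1, 2, 2, 0, 1, 1, 1, 1, 2, 0, 0, 0], [209, 53, 27])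
    [[32, 16, 4, 8, 2, 1, 64, 128], [8, 11, 13, 1, 236, 32, 73, 117], [1, 133, 5, 32, 112, 8, 104, 6], [32, 88, 45, 8, 74, 1, 64, 225], [1, 74, 45, 8, 88, 32, 64, 225], [8, 67, 36, 1, 164, 32, 73, 20], [1, 205, 44, 32, 56, 8, 104, 103]] = true := by decide +kernel

theorem threeFourPart3 : part 3 4 ([0, 2, 1, 0, 1, 2, 2, 0, 1, 1, 1, 1, 2, 0, 0, 0], [209, 233, 229, 142])
    [[230, 213, 52, 56, 32, 16, 112, 128], [224, 220, 59, 55, 206, 193, 161, 97], [1, 2, 4, 8, 26, 37, 66, 129], [230, 213, 52, 56, 44, 28, 123, 135], [1, 2, 4, 8, 28, 44, 75, 135], [224, 220, 59, 55, 194, 205, 170, 102], [1, 2, 4, 8, 22, 41, 73, 134]] = true := by decide +kernel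

theorem threeFourPart4 : part 3 4 ([0, 2, 1, 0, 1, 2, 2, 0, 1, 1, 1, 1, 2, 0, 0, 0], [70, 54, 233, 124, 141, 58, 248, 238])
    [[237, 222, 52, 56, 16, 32, 112, 176], [1, 193, 174, 97, 186, 73, 64, 67], [7, 4, 2, 13, 150, 85, 179, 128], [110, 93, 183, 75, 224, 208, 112, 176], [130, 129, 135, 123, 224, 208, 64, 128], [130, 66, 45, 18, 74, 185, 64, 67], [132, 135, 129, 126, 102, 165, 179, 128]] = true := by decide +kernel

/-- the other candidate lists -/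
def threeFourRest : List (List (List ℕ)) :=
  [[[1, 72, 174, 66, 16, 192, 64, 96], [15, 12, 10, 8, 16, 80, 48, 240], [5, 130, 4, 44, 16, 32, 208, 128], [161, 88, 174, 82, 16, 192, 64, 96], [161, 18, 4, 24, 16, 32, 64, 128], [175, 28, 10, 24, 16, 80, 48, 240], [165, 146, 4, 60, 16, 32, 208, 128]],
    [[32, 16, 4, 8, 2, 1, 64, 128], [8, 11, 13, 1, 236, 32, 73, 117], [1, 133, 5, 32, 112, 8, 104, 6], [32, 88, 45, 8, 74, 1, 64, 225], [1, 74, 45, 8, 88, 32, 64, 225], [8, 67, 36, 1, 164, 32, 73, 20], [1, 205, 44, 32, 56, 8, 104, 103]],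
    [[230, 213, 52, 56, 32, 16, 112, 128], [224, 220, 59, 55, 206, 193, 161, 97], [1, 2, 4, 8, 26, 37, 66, 129], [230, 213, 52, 56, 44, 28, 123, 135], [1, 2, 4, 8, 28, 44, 75, 135], [224, 220, 59, 55, 194, 205, 170, 102], [1, 2, 4, 8, 22, 41, 73, 134]],
    [[237, 222, 52, 56, 16, 32, 112, 176], [1, 193, 174, 97, 186, 73, 64, 67], [7, 4, 2, 13, 150, 85, 179, 128], [110, 93, 183, 75, 224, 208, 112, 176], [130, 129, 135, 123, 224, 208, 64, 128], [130, 66, 45, 18, 74, 185, 64, 67], [132, 135, 129, 126, 102, 165, 179, 128]]]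

/-- witnesses -/
def threeFourTree0 : Tr :=
  .node [.node [.leaf 2 1, .leaf 2 1, .leaf 1 2, .leaf 1 2, .leaf 1 1, .leaf 1 2, .leaf 2 1], .node [.leaf 2 1, .leaf 2 1, .leaf 1 2, .leaf 1 2, .leaf 1 1,
      .leaf 1 2, .leaf 2 1], .leaf 1 2, .leaf 1 2, .leaf 1 1, .leaf 1 2, .node [.leaf 2 1, .leaf 2 1, .leaf 1 2, .leaf 1 2, .leaf 1 1, .leaf 1 2,
      .leaf 2 1]]

theorem threeFourFirst0 : chkT 3 8 1 threeFourRest [] [1, 4, 2, 14, 22, 205, 171, 134] threeFourTree0 = true := by decide +kernel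

/-- witnesses -/
def threeFourTree1 : Tr :=
  .node [.node [.leaf 2 1, .leaf 2 1, .leaf 1 2, .leaf 1 2, .leaf 1 1, .leaf 1 2, .leaf 2 1], .node [.leaf 2 1, .leaf 2 1, .leaf 1 2, .leaf 1 2, .leaf 1 1,
      .leaf 1 2, .leaf 2 1], .leaf 1 2, .leaf 1 2, .leaf 1 1, .leaf 1 2, .node [.leaf 2 1, .leaf 2 1, .leaf 1 2, .leaf 1 2, .leaf 1 1, .leaf 1 2,
      .leaf 2 1]]

theorem threeFourFirst1 : chkT 3 8 1 threeFourRest [] [2, 1, 4, 8, 44, 28, 67, 131] threeFourTree1 = true := by decide +kernel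

/-- witnesses -/
def threeFourTree2 : Tr :=
  .node [.leaf 1 2, .leaf 1 2, .leaf 1 2, .leaf 1 2, .node [.leaf 2 1, .leaf 2 1, .leaf 1 2, .leaf 1 2, .leaf 2 1, .leaf 1 2, .leaf 2 1], .leaf 1 2,
      .leaf 1 2]

theorem threeFourFirst2 : chkT 3 8 1 threeFourRest [] [4, 2, 1, 10, 64, 160, 16, 128] threeFourTree2 = true := by decide +kernel

/-- witnesses -/
def threeFourTree3 : Tr :=
  .node [.leaf 1 2, .leaf 1 2, .leaf 1 2, .leaf 1 2, .node [.leaf 2 1, .leaf 2 1, .leaf 1 2, .leaf 1 2, .leaf 2 1, .leaf 1 2, .leaf 2 1], .leaf 1 2,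
      .leaf 1 2]

theorem threeFourFirst3 : chkT 3 8 1 threeFourRest [] [1, 4, 2, 9, 148, 72, 41, 134] threeFourTree3 = true := by decide +kernel

/-- witnesses -/
def threeFourTree4 : Tr :=
  .node [.leaf 1 1, .leaf 1 1, .node [.leaf 1 1, .leaf 1 1, .leaf 2 2, .leaf 2 2, .leaf 1 1, .node [.leaf 3 2, .node [.leaf 4 1, .leaf 4 1, .leaf 3 2, .leaf 2 2,
      .leaf 4 1, .leaf 2 2, .leaf 2 2], .leaf 3 2, .leaf 2 2, .leaf 2 2, .leaf 2 2, .leaf 2 2], .leaf 1 1], .node [.leaf 1 1, .leaf 1 1, .leaf 2 2,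
      .node [.leaf 3 2, .leaf 3 2, .leaf 2 2, .leaf 2 2, .leaf 2 2, .leaf 2 2, .leaf 3 2], .leaf 1 1, .leaf 2 2, .leaf 1 1], .leaf 1 1, .node [.leaf 1 1,
      .leaf 1 1, .node [.leaf 2 2, .node [.leaf 4 1, .leaf 4 1, .leaf 2 2, .leaf 2 2, .leaf 4 1, .leaf 3 2, .leaf 2 2], .node [.leaf 2 2, .leaf 4 2, .leaf 2 2,
      .leaf 2 2, .leaf 3 2, .leaf 3 2, .leaf 2 2], .leaf 3 2, .leaf 2 2, .leaf 2 2, .leaf 2 2], .leaf 2 2, .leaf 1 1, .leaf 2 2, .leaf 1 1],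
      .leaf 1 1]

theorem threeFourFirst4 : chkT 3 8 1 threeFourRest [] [1, 2, 4, 15, 146, 165, 194, 128] threeFourTree4 = true := by decide +kernel

/-- witnesses -/
def threeFourTree5 : Tr :=
  .node [.leaf 1 2, .leaf 1 2, .leaf 1 2, .leaf 1 2, .node [.leaf 2 1, .leaf 2 1, .leaf 1 2, .leaf 1 2, .leaf 2 1, .leaf 1 2, .leaf 2 1], .leaf 1 2,
      .leaf 1 2]

theorem threeFourFirst5 : chkT 3 8 1 threeFourRest [] [2, 1, 4, 15, 174, 153, 193, 131] threeFourTree5 = true := by decide +kernel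

/-- witnesses -/
def threeFourTree6 : Tr :=
  .node [.node [.leaf 2 1, .leaf 2 1, .leaf 1 2, .leaf 1 2, .leaf 1 1, .leaf 1 2, .leaf 2 1], .node [.leaf 2 1, .leaf 2 1, .leaf 1 2, .leaf 1 2, .leaf 1 1,
      .leaf 1 2, .leaf 2 1], .leaf 1 2, .leaf 1 2, .leaf 1 1, .leaf 1 2, .node [.leaf 2 1, .leaf 2 1, .leaf 1 2, .leaf 1 2, .leaf 1 1, .leaf 1 2,
      .leaf 2 1]]

theorem threeFourFirst6 : chkT 3 8 1 threeFourRest [] [4, 2, 1, 13, 194, 37, 146, 128] threeFourTree6 = true := by decide +kernel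

theorem baseThreeFour [Fact (Nat.Prime 3)] {G : Type*} [Group G] [Finite G] [DistribMulAction G (V 3 4)]
    (hG : ¬3 ∣ Nat.card G) (hf : ∀ g : G, (∀ x : V 3 4, g • x = x) → g = 1)
    (hnorm : ∀ (g : G) b c, ∃ s b' c', ∀ x : V 3 4, g • mon 1 b c x = mon s b' c' (g • x)) :
    ∃ v w : V 3 4, ∀ g : G, g • v = v → g • w = w → g = 1 :=
  exists_base_of_parts (by norm_num) hG hf hnorm dataThreeFour [[1, 4, 2, 14, 22, 205, 171, 134], [2, 1, 4, 8, 44, 28, 67, 131], [4, 2, 1, 10, 64, 160, 16, 128], [1, 4, 2, 9, 148, 72, 41, 134], [1, 2, 4, 15, 146, 165, 194, 128], [2, 1, 4, 15, 174, 153, 193, 131], [4, 2, 1, 13, 194, 37, 146, 128]] threeFourRest 1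
    (.cons threeFourPart0 (.cons threeFourPart1 (.cons threeFourPart2 (.cons threeFourPart3 (.cons threeFourPart4 (.nil))))))
    (List.forall_iff_forall_mem.2 (by
      simp only [List.forall_mem_cons]
      exact ⟨⟨_, threeFourFirst0⟩, ⟨_, threeFourFirst1⟩, ⟨_, threeFourFirst2⟩, ⟨_, threeFourFirst3⟩, ⟨_, threeFourFirst4⟩, ⟨_, threeFourFirst5⟩, ⟨_, threeFourFirst6⟩, by simp⟩))

end CfsgLib.BaseCop.Small
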