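import Cfsg.Agent.Lib.BaseCop.Small.Parts

/-!
The certificate for p = 3, dimension 3, in parts.
-/

set_option autoImplicit false
set_option maxRecDepth 100000
set_option maxHeartbeats 2000000
set_option Elab.async false

namespace CfsgLib.BaseCop.Small

/-- the pairs -/
def dataThreeThree : List (List ℕ × List ℕ) :=
  [([0, 1, 0, 1, 0, 1, 1, 1], []),
    ([0, 1, 0, 1, 0, 1, 1, 1], [36, 22, 63]),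
    ([0, 1, 0, 1, 0, 1, 1, 1], [26, 37]),
    ([0, 1, 0, 1, 0, 1, 1, 1], [19, 50, 19, 63, 30]),
    ([0, 1, 0, 1, 0, 1, 1, 1], [22, 51, 15, 37]),
    ([0, 1, 0, 1, 0, 1, 1, 1], [53, 38, 57, 25, 39, 22]),
    ([0, 2, 0, 0, 0, 1, 1, 2], [50, 23, 46]),
    ([0, 1, 0, 1, 0, 1, 1, 1], [51, 11]),
    ([0, 2, 0, 0, 0, 1, 1, 2], [60, 63, 26]),
    ([0, 1, 0, 1, 0, 1, 1, 1], [30, 44, 63, 43])]

theorem threeThreePart0 : part 3 3 ([0, 1, 0, 1, 0, 1, 1, 1], [])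
    [[1, 2, 4, 14, 17, 33], [1, 4, 2, 8, 32, 16], [1, 4, 2, 14, 33, 17], [1, 3, 4, 24, 16, 32], [1, 3, 4, 31, 17, 33], [1, 2, 5, 40, 16, 32], [1, 2, 5, 47, 17, 33], [1, 3, 5, 56, 16, 32], [1, 3, 5, 62, 17, 33], [1, 5, 3, 56, 32, 16], [1, 5, 3, 62, 33, 17]] = true := by decide +kernel

theorem threeThreePart1 : part 3 3 ([0, 1, 0, 1, 0, 1, 1, 1], [36, 22, 63])
    [[17, 14, 4, 8, 16, 48], [1, 6, 4, 8, 16, 48], [17, 10, 4, 8, 16, 32], [34, 2, 8, 4, 28, 3], [62, 14, 8, 4, 28, 31], [54, 14, 8, 4, 28, 27], [42, 2, 8, 4, 28, 7], [21, 14, 4, 8, 16, 56], [5, 2, 4, 8, 16, 40], [21, 10, 4, 8, 16, 40], [5, 6, 4, 8, 16, 56]] = true := by decide +kernel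

theorem threeThreePart2 : part 3 3 ([0, 1, 0, 1, 0, 1, 1, 1], [26, 37])
    [[34, 33, 31, 48, 40, 32], [1, 33, 17, 62, 5, 3], [34, 2, 10, 6, 61, 3], [16, 8, 4, 2, 1, 32], [40, 48, 31, 33, 34, 32], [5, 6, 4, 12, 20, 59], [61, 62, 31, 47, 55, 59], [20, 12, 4, 6, 5, 59], [55, 47, 31, 62, 61, 59], [20, 47, 17, 48, 16, 24], [55, 12, 10, 8, 40, 24]] = true := by decide +kernel

theorem threeThreePart3 : part 3 3 ([0, 1, 0, 1, 0, 1, 1, 1], [19, 50, 19, 63, 30])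
    [[33, 2, 14, 8, 48, 32], [3, 2, 6, 8, 56, 32], [35, 2, 12, 8, 24, 32], [1, 2, 7, 40, 48, 32], [33, 2, 45, 40, 16, 32], [1, 2, 5, 40, 16, 32], [33, 2, 47, 40, 48, 32], [1, 2, 6, 8, 48, 32], [33, 2, 12, 8, 16, 32], [3, 2, 4, 8, 24, 32], [35, 2, 14, 8, 56, 32]] = true := by decide +kernel

theorem threeThreePart4 : part 3 3 ([0, 1, 0, 1, 0, 1, 1, 1], [22, 51, 15, 37])
    [[7, 4, 2, 14, 45, 27], [1, 2, 4, 14, 21, 35], [7, 4, 2, 8, 40, 24], [35, 32, 27, 42, 45, 2], [24, 27, 32, 17, 16, 4], [32, 35, 24, 20, 16, 1], [27, 24, 35, 47, 45, 7], [2, 1, 7, 54, 45, 35], [4, 7, 1, 48, 16, 24], [2, 1, 7, 48, 40, 32], [4, 7, 1, 54, 21, 27]] = true := by decide +kernel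

theorem threeThreePart5 : part 3 3 ([0, 1, 0, 1, 0, 1, 1, 1], [53, 38, 57, 25, 39, 22])
    [[6, 2, 3, 32, 56, 8], [4, 2, 1, 32, 16, 8], [3, 2, 6, 8, 56, 32], [1, 2, 4, 14, 17, 33], [6, 2, 3, 33, 62, 14], [1, 2, 4, 12, 20, 35], [6, 2, 3, 35, 59, 12], [1, 2, 4, 10, 21, 34], [6, 2, 3, 34, 61, 10], [4, 2, 1, 34, 21, 10], [3, 2, 6, 10, 61, 34]] = true := by decide +kernel

theorem threeThreePart6 : part 3 3 ([0, 2, 0, 0, 0, 1, 1, 2], [50, 23, 46])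
    [[54, 42, 27, 32, 56, 8], [20, 42, 17, 32, 16, 8], [35, 2, 14, 8, 56, 32], [1, 7, 4, 24, 16, 48], [20, 47, 17, 48, 16, 24], [54, 45, 28, 16, 8, 56], [1, 5, 3, 56, 32, 16], [1, 2, 6, 8, 48, 32], [35, 2, 12, 8, 24, 32]] = true := by decide +kernel

theorem threeThreePart7 : part 3 3 ([0, 1, 0, 1, 0, 1, 1, 1], [51, 11])
    [[7, 2, 4, 8, 28, 42], [7, 2, 4, 8, 24, 40], [1, 2, 4, 8, 20, 34], [35, 2, 14, 8, 56, 32], [47, 2, 14, 8, 62, 42], [33, 2, 14, 8, 48, 32], [45, 2, 14, 8, 54, 42], [3, 2, 4, 8, 24, 32], [5, 2, 4, 8, 20, 42], [5, 2, 4, 8, 16, 40], [3, 2, 4, 8, 28, 34]] = true := by decide +kernel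

theorem threeThreePart8 : part 3 3 ([0, 2, 0, 0, 0, 1, 1, 2], [60, 63, 26])
    [[2, 1, 4, 20, 12, 35], [6, 5, 4, 16, 8, 56], [5, 6, 4, 12, 20, 59], [49, 42, 28, 8, 16, 32], [54, 45, 28, 16, 8, 56], [35, 32, 24, 8, 12, 2], [32, 35, 24, 20, 16, 1], [1, 6, 4, 12, 16, 49], [5, 2, 4, 8, 20, 42]] = true := by decide +kernel

theorem threeThreePart9 : part 3 3 ([0, 1, 0, 1, 0, 1, 1, 1], [30, 44, 63, 43])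
    [[20, 8, 4, 2, 5, 42], [54, 42, 27, 32, 56, 8], [35, 32, 27, 42, 45, 2], [1, 33, 17, 62, 5, 3], [20, 62, 17, 33, 16, 28], [1, 3, 4, 28, 16, 33], [20, 28, 4, 3, 5, 62], [1, 32, 17, 42, 5, 2], [20, 42, 17, 32, 16, 8], [54, 8, 14, 2, 45, 42], [35, 2, 14, 8, 56, 32]] = true := by decide +kernel

/-- the other candidate lists -/
def threeThreeRest : List (List (List ℕ)) :=
  [[[17, 14, 4, 8, 16, 48], [1, 6, 4, 8, 16, 48], [17, 10, 4, 8, 16, 32], [34, 2, 8, 4, 28, 3], [62, 14, 8, 4, 28, 31], [54, 14, 8, 4, 28, 27], [42, 2, 8, 4, 28, 7], [21, 14, 4, 8, 16, 56], [5, 2, 4, 8, 16, 40], [21, 10, 4, 8, 16, 40], [5, 6, 4, 8, 16, 56]],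
    [[34, 33, 31, 48, 40, 32], [1, 33, 17, 62, 5, 3], [34, 2, 10, 6, 61, 3], [16, 8, 4, 2, 1, 32], [40, 48, 31, 33, 34, 32], [5, 6, 4, 12, 20, 59], [61, 62, 31, 47, 55, 59], [20, 12, 4, 6, 5, 59], [55, 47, 31, 62, 61, 59], [20, 47, 17, 48, 16, 24], [55, 12, 10, 8, 40, 24]],
    [[33, 2, 14, 8, 48, 32], [3, 2, 6, 8, 56, 32], [35, 2, 12, 8, 24, 32], [1, 2, 7, 40, 48, 32], [33, 2, 45, 40, 16, 32], [1, 2, 5, 40, 16, 32], [33, 2, 47, 40, 48, 32], [1, 2, 6, 8, 48, 32], [33, 2, 12, 8, 16, 32], [3, 2, 4, 8, 24, 32], [35, 2, 14, 8, 56, 32]],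
    [[7, 4, 2, 14, 45, 27], [1, 2, 4, 14, 21, 35], [7, 4, 2, 8, 40, 24], [35, 32, 27, 42, 45, 2], [24, 27, 32, 17, 16, 4], [32, 35, 24, 20, 16, 1], [27, 24, 35, 47, 45, 7], [2, 1, 7, 54, 45, 35], [4, 7, 1, 48, 16, 24], [2, 1, 7, 48, 40, 32], [4, 7, 1, 54, 21, 27]],
    [[6, 2, 3, 32, 56, 8], [4, 2, 1, 32, 16, 8], [3, 2, 6, 8, 56, 32], [1, 2, 4, 14, 17, 33], [6, 2, 3, 33, 62, 14], [1, 2, 4, 12, 20, 35], [6, 2, 3, 35, 59, 12], [1, 2, 4, 10, 21, 34], [6, 2, 3, 34, 61, 10], [4, 2, 1, 34, 21, 10], [3, 2, 6, 10, 61, 34]],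
    [[54, 42, 27, 32, 56, 8], [20, 42, 17, 32, 16, 8], [35, 2, 14, 8, 56, 32], [1, 7, 4, 24, 16, 48], [20, 47, 17, 48, 16, 24], [54, 45, 28, 16, 8, 56], [1, 5, 3, 56, 32, 16], [1, 2, 6, 8, 48, 32], [35, 2, 12, 8, 24, 32]],
    [[7, 2, 4, 8, 28, 42], [7, 2, 4, 8, 24, 40], [1, 2, 4, 8, 20, 34], [35, 2, 14, 8, 56, 32], [47, 2, 14, 8, 62, 42], [33, 2, 14, 8, 48, 32], [45, 2, 14, 8, 54, 42], [3, 2, 4, 8, 24, 32], [5, 2, 4, 8, 20, 42], [5, 2, 4, 8, 16, 40], [3, 2, 4, 8, 28, 34]],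
    [[2, 1, 4, 20, 12, 35], [6, 5, 4, 16, 8, 56], [5, 6, 4, 12, 20, 59], [49, 42, 28, 8, 16, 32], [54, 45, 28, 16, 8, 56], [35, 32, 24, 8, 12, 2], [32, 35, 24, 20, 16, 1], [1, 6, 4, 12, 16, 49], [5, 2, 4, 8, 20, 42]],
    [[20, 8, 4, 2, 5, 42], [54, 42, 27, 32, 56, 8], [35, 32, 27, 42, 45, 2], [1, 33, 17, 62, 5, 3], [20, 62, 17, 33, 16, 28], [1, 3, 4, 28, 16, 33], [20, 28, 4, 3, 5, 62], [1, 32, 17, 42, 5, 2], [20, 42, 17, 32, 16, 8], [54, 8, 14, 2, 45, 42], [35, 2, 14, 8, 56, 32]]]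

/-- witnesses -/
def threeThreeTree0 : Tr :=
  .node [.leaf 1 1, .node [.leaf 1 1, .node [.leaf 1 1, .leaf 2 1, .leaf 1 1, .leaf 2 1, .leaf 1 2, .node [.leaf 2 1, .leaf 3 1, .leaf 2 1, .leaf 1 1, .leaf 1 2,
      .leaf 1 1, .leaf 1 2, .leaf 2 1, .leaf 4 1, .leaf 2 1, .leaf 3 1], .leaf 1 2, .leaf 2 1, .leaf 1 1, .leaf 3 1, .leaf 1 1], .leaf 1 1,
      .leaf 1 1, .leaf 2 2, .node [.leaf 1 1, .leaf 2 1, .leaf 1 1, .leaf 2 1, .leaf 1 2, .leaf 3 1, .leaf 1 2, .leaf 2 1, .leaf 1 1, .node [.leaf 2 1,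
      .node [.leaf 2 1, .leaf 3 1, .leaf 2 1, .node [.leaf 2 1, .leaf 1 1, .leaf 1 1, .leaf 4 1, .leaf 1 1, .leaf 4 1, .leaf 2 1, .leaf 2 1, .leaf 1 1],
      .leaf 2 2, .node [.leaf 2 1, .leaf 1 1, .leaf 1 1, .leaf 4 1, .leaf 1 1, .leaf 4 1, .leaf 2 1, .leaf 2 1, .leaf 1 1], .leaf 2 2, .node [.leaf 2 1,
      .leaf 1 1, .leaf 1 1, .leaf 4 1, .leaf 1 1, .leaf 4 1, .leaf 2 1, .leaf 2 1, .leaf 1 1], .leaf 2 1, .leaf 3 1, .leaf 2 1], .leaf 2 1,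
      .leaf 1 1, .leaf 1 2, .leaf 1 1, .leaf 1 2, .leaf 2 1, .leaf 3 1, .leaf 2 1, .leaf 3 1], .leaf 1 1], .leaf 1 2, .leaf 1 1, .leaf 2 1,
      .leaf 1 1, .leaf 2 1], .leaf 1 1, .leaf 1 1, .node [.leaf 1 1, .leaf 2 2, .leaf 1 1, .leaf 1 1, .node [.leaf 1 1, .leaf 2 2, .leaf 1 1, .leaf 2 2,
      .leaf 1 2, .node [.leaf 4 1, .leaf 3 2, .leaf 4 1, .leaf 1 1, .leaf 2 1, .leaf 1 1, .leaf 1 2, .leaf 2 2, .leaf 4 1, .leaf 2 2, .leaf 4 1],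
      .leaf 1 2, .leaf 2 2, .leaf 1 1, .leaf 3 2, .leaf 1 1], .leaf 2 2, .leaf 1 2, .leaf 1 1, .node [.leaf 1 1, .leaf 2 2, .leaf 1 1, .leaf 2 2,
      .leaf 1 2, .leaf 3 1, .leaf 1 2, .leaf 3 1, .leaf 1 1, .leaf 3 1, .leaf 1 1], .leaf 1 1, .leaf 2 2], .node [.leaf 1 1, .node [.leaf 1 1, .leaf 2 1,
      .leaf 1 1, .node [.leaf 3 1, .leaf 3 1, .node [.leaf 3 1, .leaf 2 1, .leaf 2 1, .node [.leaf 4 1, .leaf 1 1, .leaf 1 1, .leaf 2 1, .leaf 1 1, .leaf 5 1,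
      .leaf 4 1, .leaf 2 1, .leaf 1 1], .leaf 3 2, .leaf 2 1, .leaf 2 2, .leaf 2 1, .leaf 2 1, .leaf 3 1, .leaf 5 1], .leaf 1 1, .leaf 1 2,
      .leaf 1 1, .leaf 1 2, .leaf 3 1, .node [.leaf 3 1, .leaf 2 1, .leaf 2 1, .node [.leaf 4 1, .leaf 1 1, .leaf 1 1, .leaf 2 1, .leaf 1 1, .leaf 5 1,
      .leaf 4 1, .leaf 2 1, .leaf 1 1], .leaf 3 2, .leaf 2 1, .leaf 2 2, .leaf 2 1, .leaf 2 1, .leaf 3 1, .node [.leaf 4 1, .leaf 1 1, .leaf 1 1,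
      .leaf 2 1, .leaf 1 1, .leaf 5 1, .leaf 4 1, .leaf 2 1, .leaf 1 1]], .node [.leaf 3 1, .leaf 2 1, .leaf 2 1, .node [.leaf 4 1, .leaf 1 1, .leaf 1 1,
      .leaf 2 1, .leaf 1 1, .node [.leaf 3 1, .leaf 4 1, .leaf 3 1, .leaf 1 1, .leaf 1 2, .leaf 1 1, .leaf 1 2, .leaf 3 1, .leaf 4 1, .leaf 3 1,
      .leaf 5 1], .leaf 4 1, .leaf 2 1, .leaf 1 1], .leaf 3 2, .leaf 2 1, .leaf 2 2, .leaf 2 1, .leaf 2 1, .leaf 3 1, .leaf 5 1], .leaf 3 1],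
      .leaf 1 2, .leaf 2 1, .leaf 1 2, .leaf 2 1, .leaf 1 1, .leaf 3 1, .leaf 1 1], .leaf 1 1, .leaf 1 1, .node [.leaf 1 1, .leaf 2 1, .leaf 1 1,
      .node [.node [.leaf 4 1, .leaf 2 1, .leaf 2 1, .node [.leaf 4 1, .leaf 1 1, .leaf 1 1, .leaf 2 1, .leaf 1 1, .leaf 3 2, .leaf 4 1, .leaf 2 1, .leaf 1 1],
      .leaf 4 2, .leaf 2 1, .leaf 2 2, .leaf 2 1, .leaf 2 1, .leaf 4 1, .leaf 5 1], .leaf 3 2, .leaf 3 2, .leaf 1 1, .leaf 1 2, .leaf 1 1,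
      .leaf 1 2, .leaf 3 2, .leaf 3 2, .node [.leaf 4 1, .leaf 2 1, .leaf 2 1, .node [.leaf 4 1, .leaf 1 1, .leaf 1 1, .leaf 2 1, .leaf 1 1, .leaf 3 2,
      .leaf 4 1, .leaf 2 1, .leaf 1 1], .leaf 4 2, .leaf 2 1, .leaf 2 2, .leaf 2 1, .leaf 2 1, .leaf 4 1, .leaf 5 1], .node [.leaf 4 1, .leaf 2 1,
      .leaf 2 1, .node [.leaf 4 1, .leaf 1 1, .leaf 1 1, .leaf 2 1, .leaf 1 1, .leaf 3 2, .leaf 4 1, .leaf 2 1, .leaf 1 1], .leaf 4 2, .leaf 2 1,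
      .leaf 2 2, .leaf 2 1, .leaf 2 1, .leaf 4 1, .leaf 3 2]], .leaf 1 2, .leaf 2 1, .leaf 1 2, .leaf 2 1, .leaf 1 1, .leaf 3 2, .leaf 1 1],
      .leaf 2 1, .leaf 1 2, .leaf 1 1, .leaf 2 1, .leaf 1 1, .leaf 2 1], .leaf 1 2, .leaf 1 1, .node [.leaf 1 1, .leaf 2 1, .leaf 1 1, .leaf 1 1,
      .leaf 2 2, .node [.leaf 1 1, .leaf 3 1, .leaf 1 1, .leaf 2 1, .leaf 1 2, .leaf 2 1, .leaf 1 2, .leaf 3 1, .leaf 1 1, .node [.leaf 3 1, .node [.leaf 2 1,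
      .leaf 2 1, .leaf 3 1, .node [.leaf 2 1, .leaf 1 1, .leaf 1 1, .leaf 4 1, .leaf 1 1, .leaf 4 1, .leaf 2 1, .leaf 3 1, .leaf 1 1], .leaf 2 2,
      .node [.leaf 2 1, .leaf 1 1, .leaf 1 1, .leaf 4 1, .leaf 1 1, .leaf 4 1, .leaf 2 1, .leaf 3 1, .leaf 1 1], .leaf 2 2, .node [.leaf 2 1, .leaf 1 1,
      .leaf 1 1, .leaf 4 1, .leaf 1 1, .leaf 4 1, .leaf 2 1, .leaf 3 1, .leaf 1 1], .leaf 2 1, .leaf 2 1, .leaf 3 1], .leaf 3 1, .leaf 1 1,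
      .leaf 1 2, .leaf 1 1, .leaf 1 2, .leaf 2 1, .leaf 2 1, .leaf 2 1, .leaf 2 1], .leaf 1 1], .leaf 1 2, .leaf 1 1, .leaf 2 1, .leaf 1 1,
      .node [.leaf 1 1, .leaf 3 1, .leaf 1 1, .leaf 2 1, .leaf 1 2, .leaf 2 1, .leaf 1 2, .leaf 3 1, .leaf 1 1, .node [.node [.leaf 2 1, .leaf 2 1, .leaf 3 1,
      .node [.leaf 2 1, .leaf 1 1, .leaf 1 1, .leaf 4 1, .leaf 1 1, .leaf 3 1, .leaf 2 1, .leaf 3 1, .leaf 1 1], .leaf 2 2, .leaf 3 1, .leaf 2 2,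
      .leaf 3 1, .leaf 2 1, .leaf 2 1, .leaf 5 1], .node [.leaf 2 1, .leaf 2 1, .leaf 3 1, .node [.leaf 2 1, .leaf 1 1, .leaf 1 1, .leaf 4 1, .leaf 1 1,
      .leaf 3 1, .leaf 2 1, .leaf 3 1, .leaf 1 1], .leaf 2 2, .leaf 3 1, .leaf 2 2, .leaf 3 1, .leaf 2 1, .leaf 2 1, .node [.leaf 2 1, .leaf 1 1,
      .leaf 1 1, .leaf 4 1, .leaf 1 1, .leaf 3 1, .leaf 2 1, .leaf 3 1, .leaf 1 1]], .node [.leaf 2 1, .leaf 2 1, .leaf 3 1, .node [.leaf 2 1, .leaf 1 1,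
      .leaf 1 1, .leaf 4 1, .leaf 1 1, .leaf 3 1, .leaf 2 1, .leaf 3 1, .leaf 1 1], .leaf 2 2, .leaf 3 1, .leaf 2 2, .leaf 3 1, .leaf 2 1,
      .leaf 2 1, .leaf 5 1], .leaf 1 1, .leaf 1 2, .leaf 1 1, .leaf 1 2, .leaf 2 1, .leaf 2 1, .leaf 2 1, .leaf 2 1], .leaf 1 1]], .leaf 1 1,
      .node [.leaf 1 1, .leaf 2 1, .leaf 1 1, .leaf 1 1, .node [.leaf 1 1, .leaf 2 1, .leaf 1 1, .node [.leaf 2 1, .leaf 3 2, .leaf 2 1, .leaf 1 1, .leaf 1 2,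
      .leaf 1 1, .leaf 1 2, .leaf 3 2, .leaf 2 1, .node [.leaf 4 1, .leaf 2 1, .leaf 2 1, .node [.leaf 4 1, .leaf 1 1, .leaf 1 1, .leaf 4 1, .leaf 1 1,
      .leaf 3 2, .leaf 4 1, .leaf 2 1, .leaf 1 1], .leaf 4 2, .node [.leaf 4 1, .leaf 1 1, .leaf 1 1, .leaf 4 1, .leaf 1 1, .leaf 3 2, .leaf 4 1,
      .leaf 2 1, .leaf 1 1], .leaf 4 2, .node [.leaf 4 1, .leaf 1 1, .leaf 1 1, .leaf 4 1, .leaf 1 1, .leaf 3 2, .leaf 4 1, .leaf 2 1, .leaf 1 1],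
      .leaf 4 1, .leaf 2 1, .leaf 2 1], .leaf 2 1], .leaf 1 2, .leaf 2 1, .leaf 1 2, .leaf 2 1, .leaf 1 1, .leaf 3 2, .leaf 1 1], .node [.leaf 1 1,
      .leaf 2 1, .leaf 1 1, .node [.leaf 2 1, .node [.leaf 4 1, .leaf 2 1, .leaf 2 1, .node [.leaf 4 1, .leaf 1 1, .leaf 1 1, .leaf 4 1, .leaf 1 1, .leaf 5 1,
      .leaf 4 1, .leaf 2 1, .leaf 1 1], .leaf 4 2, .node [.leaf 4 1, .leaf 1 1, .leaf 1 1, .leaf 4 1, .leaf 1 1, .leaf 5 1, .leaf 4 1, .leaf 2 1,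
      .leaf 1 1], .leaf 4 2, .node [.leaf 4 1, .leaf 1 1, .leaf 1 1, .leaf 4 1, .leaf 1 1, .leaf 5 1, .leaf 4 1, .leaf 2 1, .leaf 1 1], .leaf 4 1,
      .leaf 2 1, .leaf 2 1], .leaf 2 1, .leaf 1 1, .leaf 1 2, .leaf 1 1, .leaf 1 2, .node [.leaf 4 1, .leaf 2 1, .leaf 2 1, .node [.leaf 4 1, .leaf 1 1,
      .leaf 1 1, .leaf 4 1, .leaf 1 1, .leaf 5 1, .leaf 4 1, .leaf 2 1, .leaf 1 1], .leaf 4 2, .node [.leaf 4 1, .leaf 1 1, .leaf 1 1, .leaf 4 1,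
      .leaf 1 1, .leaf 5 1, .leaf 4 1, .leaf 2 1, .leaf 1 1], .leaf 4 2, .node [.leaf 4 1, .leaf 1 1, .leaf 1 1, .leaf 4 1, .leaf 1 1, .leaf 5 1,
      .leaf 4 1, .leaf 2 1, .leaf 1 1], .leaf 4 1, .leaf 2 1, .leaf 2 1], .leaf 2 1, .node [.leaf 4 1, .leaf 2 1, .leaf 2 1, .node [.leaf 4 1, .leaf 1 1,
      .leaf 1 1, .leaf 4 1, .leaf 1 1, .node [.leaf 4 1, .leaf 4 1, .leaf 7 1, .leaf 1 1, .leaf 1 2, .leaf 1 1, .leaf 1 2, .leaf 5 1, .leaf 4 1,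
      .leaf 4 1, .leaf 5 1], .leaf 4 1, .leaf 2 1, .leaf 1 1], .leaf 4 2, .node [.leaf 4 1, .leaf 1 1, .leaf 1 1, .leaf 4 1, .leaf 1 1, .node [.leaf 4 1,
      .leaf 4 1, .leaf 7 1, .leaf 1 1, .leaf 1 2, .leaf 1 1, .leaf 1 2, .leaf 5 1, .leaf 4 1, .leaf 4 1, .leaf 5 1], .leaf 4 1, .leaf 2 1,
      .leaf 1 1], .leaf 4 2, .node [.leaf 4 1, .leaf 1 1, .leaf 1 1, .leaf 4 1, .leaf 1 1, .node [.leaf 4 1, .leaf 4 1, .leaf 7 1, .leaf 1 1, .leaf 1 2,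
      .leaf 1 1, .leaf 1 2, .leaf 5 1, .leaf 4 1, .leaf 4 1, .leaf 5 1], .leaf 4 1, .leaf 2 1, .leaf 1 1], .leaf 4 1, .leaf 2 1, .leaf 2 1],
      .leaf 2 1], .leaf 1 2, .leaf 2 1, .leaf 1 2, .leaf 2 1, .leaf 1 1, .node [.leaf 2 1, .node [.node [.leaf 5 1, .leaf 1 1, .leaf 1 1, .leaf 4 1, .leaf 1 1,
      .leaf 4 1, .leaf 4 1, .leaf 2 1, .leaf 1 1], .leaf 2 1, .leaf 2 1, .node [.leaf 5 1, .leaf 1 1, .leaf 1 1, .leaf 4 1, .leaf 1 1, .leaf 4 1,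
      .leaf 4 1, .leaf 2 1, .leaf 1 1], .node [.leaf 5 1, .leaf 1 1, .leaf 1 1, .leaf 4 1, .leaf 1 1, .leaf 4 1, .leaf 4 1, .leaf 2 1, .leaf 1 1],
      .node [.leaf 5 1, .leaf 1 1, .leaf 1 1, .leaf 4 1, .leaf 1 1, .leaf 4 1, .leaf 4 1, .leaf 2 1, .leaf 1 1], .node [.leaf 5 1, .leaf 1 1, .leaf 1 1,
      .leaf 4 1, .leaf 1 1, .leaf 4 1, .leaf 4 1, .leaf 2 1, .leaf 1 1], .node [.leaf 5 1, .leaf 1 1, .leaf 1 1, .leaf 4 1, .leaf 1 1, .leaf 4 1,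
      .leaf 4 1, .leaf 2 1, .leaf 1 1], .node [.leaf 5 1, .leaf 1 1, .leaf 1 1, .leaf 4 1, .leaf 1 1, .leaf 4 1, .leaf 4 1, .leaf 2 1, .leaf 1 1],
      .leaf 2 1, .leaf 2 1], .leaf 2 1, .leaf 1 1, .leaf 1 2, .leaf 1 1, .leaf 1 2, .leaf 4 1, .leaf 2 1, .leaf 4 1, .leaf 2 1], .leaf 1 1],
      .leaf 1 2, .leaf 1 1, .node [.leaf 1 1, .leaf 2 1, .leaf 1 1, .node [.leaf 2 1, .leaf 3 1, .leaf 2 1, .leaf 1 1, .leaf 1 2, .leaf 1 1, .leaf 1 2,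
      .leaf 3 1, .leaf 2 1, .node [.leaf 4 1, .leaf 2 1, .leaf 2 1, .node [.leaf 3 1, .leaf 1 1, .leaf 1 1, .leaf 4 1, .leaf 1 1, .leaf 3 1, .leaf 4 1,
      .leaf 2 1, .leaf 1 1], .leaf 4 2, .node [.leaf 3 1, .leaf 1 1, .leaf 1 1, .leaf 4 1, .leaf 1 1, .leaf 3 1, .leaf 4 1, .leaf 2 1, .leaf 1 1],
      .leaf 4 2, .node [.leaf 3 1, .leaf 1 1, .leaf 1 1, .leaf 4 1, .leaf 1 1, .leaf 3 1, .leaf 4 1, .leaf 2 1, .leaf 1 1], .leaf 4 1, .leaf 2 1,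
      .leaf 2 1], .leaf 2 1], .leaf 1 2, .leaf 2 1, .leaf 1 2, .leaf 2 1, .leaf 1 1, .leaf 3 1, .leaf 1 1], .leaf 1 1, .leaf 2 1]]

theorem threeThreeFirst0 : chkT 3 6 1 threeThreeRest [] [1, 2, 4, 14, 17, 33] threeThreeTree0 = true := by decide +kernel

/-- witnesses -/
def threeThreeTree1 : Tr :=
  .node [.leaf 1 1, .leaf 1 1, .node [.node [.leaf 1 1, .leaf 1 1, .leaf 3 1, .leaf 1 1, .node [.leaf 2 1, .leaf 2 1, .leaf 4 2, .leaf 1 1, .leaf 1 2, .leaf 1 1,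
      .leaf 1 2, .leaf 2 1, .leaf 4 2, .node [.leaf 3 1, .leaf 1 1, .leaf 1 1, .leaf 2 1, .leaf 4 1, .leaf 4 2, .leaf 3 2, .leaf 2 1, .leaf 2 1,
      .leaf 1 1, .leaf 1 1], .leaf 2 1], .node [.leaf 2 1, .leaf 2 1, .leaf 4 1, .leaf 1 1, .leaf 1 2, .leaf 1 1, .leaf 1 2, .leaf 2 1, .leaf 4 1,
      .node [.leaf 3 1, .leaf 1 1, .leaf 1 1, .leaf 2 1, .leaf 2 2, .node [.leaf 3 1, .leaf 1 1, .leaf 1 1, .leaf 1 1, .leaf 4 1, .leaf 4 1, .leaf 3 1,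
      .leaf 1 1, .leaf 3 1], .leaf 3 2, .leaf 2 1, .leaf 2 1, .leaf 1 1, .leaf 1 1], .leaf 2 1], .leaf 1 2, .leaf 1 1, .node [.leaf 2 1, .leaf 2 1,
      .node [.leaf 3 1, .leaf 1 1, .leaf 1 1, .leaf 2 1, .leaf 2 2, .leaf 4 1, .leaf 3 2, .leaf 2 1, .leaf 2 1, .leaf 1 1, .leaf 1 1], .leaf 1 1,
      .leaf 1 2, .leaf 1 1, .leaf 1 2, .leaf 2 1, .node [.leaf 3 1, .leaf 1 1, .leaf 1 1, .leaf 2 1, .leaf 2 2, .leaf 4 1, .leaf 3 2, .leaf 2 1,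
      .leaf 2 1, .leaf 1 1, .leaf 1 1], .node [.leaf 3 1, .leaf 1 1, .leaf 1 1, .leaf 2 1, .leaf 2 2, .leaf 4 1, .leaf 3 2, .leaf 2 1, .leaf 2 1,
      .leaf 1 1, .leaf 1 1], .leaf 2 1], .leaf 3 1, .leaf 1 1], .leaf 2 1, .leaf 2 1, .leaf 1 1, .leaf 1 2, .leaf 1 1, .leaf 1 2, .leaf 2 1,
      .leaf 2 1, .node [.leaf 1 1, .leaf 1 1, .leaf 3 1, .leaf 1 1, .leaf 3 2, .leaf 3 1, .leaf 1 2, .leaf 1 1, .node [.leaf 2 1, .leaf 2 1, .node [.leaf 5 1,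
      .leaf 1 1, .leaf 1 1, .leaf 2 1, .leaf 2 2, .leaf 3 1, .leaf 3 2, .leaf 2 1, .leaf 2 1, .leaf 1 1, .leaf 1 1], .leaf 1 1, .leaf 1 2,
      .leaf 1 1, .leaf 1 2, .leaf 2 1, .node [.node [.node [.leaf 3 1, .leaf 6 1, .leaf 3 1, .leaf 1 1, .leaf 1 2, .leaf 1 1, .leaf 1 2, .leaf 3 1, .leaf 5 1,
      .leaf 3 1, .leaf 5 1], .leaf 1 1, .leaf 1 1, .leaf 1 1, .node [.leaf 3 1, .leaf 6 1, .leaf 3 1, .leaf 1 1, .leaf 1 2, .leaf 1 1, .leaf 1 2,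
      .leaf 3 1, .leaf 5 1, .leaf 3 1, .leaf 5 1], .leaf 3 1, .leaf 3 1, .leaf 1 1, .leaf 3 1], .leaf 1 1, .leaf 1 1, .leaf 2 1, .leaf 2 2,
      .leaf 3 1, .leaf 3 2, .leaf 2 1, .leaf 2 1, .leaf 1 1, .leaf 1 1], .node [.leaf 5 1, .leaf 1 1, .leaf 1 1, .leaf 2 1, .leaf 2 2, .leaf 3 1,
      .leaf 3 2, .leaf 2 1, .leaf 2 1, .leaf 1 1, .leaf 1 1], .leaf 2 1], .leaf 3 1, .leaf 1 1], .node [.leaf 1 1, .leaf 1 1, .node [.leaf 2 1, .leaf 2 1,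
      .node [.leaf 3 1, .leaf 1 1, .leaf 1 1, .leaf 2 1, .leaf 2 2, .leaf 3 1, .leaf 4 2, .leaf 2 1, .leaf 2 1, .leaf 1 1, .leaf 1 1], .leaf 1 1,
      .leaf 1 2, .leaf 1 1, .leaf 1 2, .leaf 2 1, .leaf 4 1, .leaf 4 1, .leaf 2 1], .leaf 1 1, .leaf 3 2, .leaf 3 1, .leaf 1 2, .leaf 1 1,
      .node [.leaf 2 1, .leaf 2 1, .node [.leaf 3 1, .leaf 1 1, .leaf 1 1, .leaf 2 1, .leaf 2 2, .leaf 3 1, .leaf 4 2, .leaf 2 1, .leaf 2 1, .leaf 1 1,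
      .leaf 1 1], .leaf 1 1, .leaf 1 2, .leaf 1 1, .leaf 1 2, .leaf 2 1, .node [.leaf 3 1, .leaf 1 1, .leaf 1 1, .leaf 2 1, .leaf 2 2, .leaf 3 1,
      .leaf 4 2, .leaf 2 1, .leaf 2 1, .leaf 1 1, .leaf 1 1], .node [.leaf 3 1, .leaf 1 1, .leaf 1 1, .leaf 2 1, .leaf 2 2, .leaf 3 1, .leaf 4 2,
      .leaf 2 1, .leaf 2 1, .leaf 1 1, .leaf 1 1], .leaf 2 1], .node [.leaf 2 1, .leaf 2 1, .node [.leaf 3 1, .leaf 1 1, .leaf 1 1, .leaf 2 1, .leaf 2 2,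
      .leaf 3 1, .leaf 5 2, .leaf 2 1, .leaf 2 1, .leaf 1 1, .leaf 1 1], .leaf 1 1, .leaf 1 2, .leaf 1 1, .leaf 1 2, .leaf 2 1, .leaf 4 1,
      .leaf 4 1, .leaf 2 1], .leaf 1 1]], .leaf 1 1, .node [.leaf 2 2, .leaf 2 2, .node [.leaf 1 1, .leaf 1 1, .leaf 3 1, .leaf 1 1, .leaf 3 2, .node [.leaf 3 1,
      .leaf 3 1, .leaf 4 1, .leaf 1 1, .leaf 2 1, .leaf 1 1, .leaf 1 2, .leaf 3 1, .leaf 4 1, .leaf 2 2, .leaf 3 1], .leaf 1 2, .leaf 1 1,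
      .leaf 3 1, .node [.leaf 3 1, .leaf 3 1, .node [.leaf 5 1, .leaf 1 1, .leaf 1 1, .leaf 3 1, .leaf 3 2, .leaf 3 1, .leaf 2 2, .leaf 2 2, .leaf 5 1,
      .leaf 1 1, .leaf 1 1], .leaf 1 1, .leaf 2 1, .leaf 1 1, .leaf 1 2, .leaf 3 1, .leaf 4 1, .leaf 4 1, .leaf 3 1], .leaf 1 1], .leaf 1 1,
      .leaf 1 2, .leaf 1 1, .leaf 1 2, .leaf 2 2, .node [.leaf 1 1, .leaf 1 1, .leaf 2 2, .leaf 1 1, .node [.leaf 3 1, .leaf 3 1, .leaf 4 2, .leaf 1 1,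
      .leaf 2 1, .leaf 1 1, .leaf 1 2, .leaf 3 1, .leaf 2 2, .leaf 2 2, .leaf 3 1], .leaf 3 1, .leaf 1 2, .leaf 1 1, .leaf 3 1, .leaf 3 1,
      .leaf 1 1], .node [.leaf 1 1, .leaf 1 1, .leaf 3 1, .leaf 1 1, .leaf 3 2, .leaf 3 1, .leaf 1 2, .leaf 1 1, .leaf 2 2, .leaf 3 1, .leaf 1 1],
      .leaf 2 2], .node [.node [.leaf 1 1, .leaf 1 1, .leaf 2 1, .leaf 1 1, .node [.node [.leaf 3 1, .leaf 1 1, .leaf 1 1, .leaf 3 1, .leaf 4 1, .leaf 2 1, .leaf 2 2,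
      .leaf 2 1, .leaf 2 1, .leaf 1 1, .leaf 1 1], .leaf 4 2, .leaf 4 2, .leaf 1 1, .leaf 1 2, .leaf 1 1, .leaf 1 2, .leaf 4 2, .leaf 4 2,
      .node [.leaf 3 1, .leaf 1 1, .leaf 1 1, .leaf 3 1, .leaf 4 1, .leaf 2 1, .leaf 2 2, .leaf 2 1, .leaf 2 1, .leaf 1 1, .leaf 1 1], .node [.leaf 3 1,
      .leaf 1 1, .leaf 1 1, .leaf 3 1, .leaf 4 1, .leaf 2 1, .leaf 2 2, .leaf 2 1, .leaf 2 1, .leaf 1 1, .leaf 1 1]], .leaf 2 1, .leaf 1 2,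
      .leaf 1 1, .leaf 2 1, .leaf 3 1, .leaf 1 1], .node [.leaf 1 1, .leaf 1 1, .leaf 2 1, .leaf 1 1, .leaf 3 2, .leaf 2 1, .leaf 1 2, .leaf 1 1,
      .leaf 2 1, .leaf 3 1, .leaf 1 1], .node [.leaf 1 1, .leaf 1 1, .leaf 2 1, .leaf 1 1, .leaf 3 2, .leaf 2 1, .leaf 1 2, .leaf 1 1, .leaf 2 1,
      .node [.leaf 3 1, .leaf 3 1, .node [.leaf 5 1, .leaf 1 1, .leaf 1 1, .leaf 3 1, .leaf 3 2, .leaf 2 1, .leaf 2 2, .leaf 2 1, .leaf 2 1, .leaf 1 1,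
      .leaf 1 1], .leaf 1 1, .leaf 1 2, .leaf 1 1, .leaf 1 2, .leaf 3 1, .leaf 4 1, .leaf 4 1, .leaf 3 1], .leaf 1 1], .leaf 1 1, .leaf 1 2,
      .leaf 1 1, .leaf 1 2, .leaf 2 1, .leaf 2 1, .leaf 2 1, .leaf 2 1], .leaf 1 2, .leaf 1 1, .node [.leaf 2 1, .leaf 2 1, .node [.leaf 1 1, .leaf 1 1,
      .leaf 3 1, .leaf 1 1, .leaf 2 2, .leaf 2 1, .leaf 1 2, .leaf 1 1, .leaf 3 1, .node [.leaf 3 1, .leaf 3 1, .node [.leaf 2 1, .leaf 1 1, .leaf 1 1,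
      .leaf 3 1, .leaf 2 2, .leaf 3 1, .leaf 2 2, .node [.leaf 2 1, .leaf 1 1, .leaf 1 1, .leaf 1 1, .leaf 2 1, .leaf 4 1, .leaf 2 1, .leaf 1 1,
      .leaf 3 1], .leaf 2 1, .leaf 1 1, .leaf 1 1], .leaf 1 1, .leaf 1 2, .leaf 1 1, .leaf 1 2, .leaf 2 1, .leaf 2 1, .leaf 2 1, .leaf 2 1],
      .leaf 1 1], .leaf 1 1, .leaf 1 2, .leaf 1 1, .leaf 1 2, .node [.leaf 1 1, .leaf 1 1, .leaf 3 1, .leaf 1 1, .leaf 2 2, .leaf 2 1, .leaf 1 2,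
      .leaf 1 1, .leaf 3 1, .node [.leaf 3 1, .leaf 3 1, .node [.leaf 2 1, .leaf 1 1, .leaf 1 1, .leaf 3 1, .leaf 2 2, .node [.leaf 2 1, .leaf 1 1, .leaf 1 1,
      .leaf 1 1, .leaf 2 1, .leaf 3 1, .leaf 2 1, .leaf 1 1, .leaf 3 1], .leaf 2 2, .leaf 3 1, .leaf 2 1, .leaf 1 1, .leaf 1 1], .leaf 1 1,
      .leaf 1 2, .leaf 1 1, .leaf 1 2, .leaf 2 1, .leaf 2 1, .leaf 2 1, .leaf 2 1], .leaf 1 1], .leaf 2 1, .leaf 2 1, .node [.leaf 1 1, .leaf 1 1,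
      .node [.leaf 4 1, .leaf 4 1, .node [.leaf 2 1, .leaf 1 1, .leaf 1 1, .leaf 4 1, .leaf 2 2, .leaf 3 1, .leaf 2 2, .leaf 3 1, .leaf 2 1, .leaf 1 1,
      .leaf 1 1], .leaf 1 1, .leaf 1 2, .leaf 1 1, .leaf 1 2, .leaf 2 1, .leaf 2 1, .leaf 2 1, .leaf 2 1], .leaf 1 1, .leaf 2 2, .leaf 2 1,
      .leaf 1 2, .leaf 1 1, .node [.leaf 4 1, .leaf 4 1, .node [.leaf 2 1, .leaf 1 1, .leaf 1 1, .leaf 4 1, .leaf 2 2, .leaf 3 1, .leaf 2 2, .leaf 3 1,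
      .leaf 2 1, .leaf 1 1, .leaf 1 1], .leaf 1 1, .leaf 1 2, .leaf 1 1, .leaf 1 2, .leaf 2 1, .leaf 2 1, .leaf 2 1, .leaf 2 1], .node [.node [.leaf 2 1,
      .leaf 1 1, .leaf 1 1, .node [.leaf 2 1, .leaf 1 1, .leaf 1 1, .leaf 1 1, .leaf 2 1, .leaf 3 1, .leaf 2 1, .leaf 1 1, .leaf 5 1], .leaf 2 2,
      .leaf 3 1, .leaf 2 2, .leaf 3 1, .leaf 2 1, .leaf 1 1, .leaf 1 1], .node [.leaf 2 1, .leaf 1 1, .leaf 1 1, .node [.leaf 2 1, .leaf 1 1, .leaf 1 1,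
      .leaf 1 1, .leaf 2 1, .leaf 3 1, .leaf 2 1, .leaf 1 1, .leaf 5 1], .leaf 2 2, .leaf 3 1, .leaf 2 2, .leaf 3 1, .leaf 2 1, .leaf 1 1,
      .leaf 1 1], .node [.leaf 2 1, .leaf 1 1, .leaf 1 1, .node [.leaf 2 1, .leaf 1 1, .leaf 1 1, .leaf 1 1, .leaf 2 1, .leaf 3 1, .leaf 2 1, .leaf 1 1,
      .leaf 6 1], .leaf 2 2, .leaf 3 1, .leaf 2 2, .leaf 3 1, .leaf 2 1, .leaf 1 1, .leaf 1 1], .leaf 1 1, .leaf 1 2, .leaf 1 1, .leaf 1 2,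
      .leaf 2 1, .leaf 2 1, .leaf 2 1, .leaf 2 1], .leaf 1 1]], .node [.leaf 2 1, .node [.leaf 1 1, .leaf 1 1, .node [.leaf 2 1, .leaf 2 1, .node [.leaf 2 1, .leaf 1 1,
      .leaf 1 1, .leaf 2 1, .leaf 3 2, .leaf 3 1, .leaf 2 2, .leaf 2 1, .leaf 5 1, .leaf 1 1, .leaf 1 1], .leaf 1 1, .leaf 1 2, .leaf 1 1,
      .leaf 1 2, .leaf 3 1, .leaf 2 1, .leaf 2 1, .leaf 3 1], .leaf 1 1, .leaf 2 2, .leaf 2 1, .leaf 1 2, .leaf 1 1, .leaf 3 1, .leaf 3 1,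
      .leaf 1 1], .leaf 2 1, .leaf 1 1, .leaf 1 2, .leaf 1 1, .leaf 1 2, .leaf 2 1, .node [.leaf 1 1, .leaf 1 1, .node [.leaf 2 1, .leaf 2 1, .node [.leaf 2 1,
      .leaf 1 1, .leaf 1 1, .leaf 2 1, .leaf 4 2, .leaf 4 1, .leaf 2 2, .leaf 2 1, .leaf 5 1, .leaf 1 1, .leaf 1 1], .leaf 1 1, .leaf 1 2,
      .leaf 1 1, .leaf 1 2, .leaf 3 1, .leaf 2 1, .leaf 2 1, .leaf 3 1], .leaf 1 1, .leaf 2 2, .leaf 2 1, .leaf 1 2, .leaf 1 1, .leaf 3 1,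
      .leaf 3 1, .leaf 1 1], .leaf 2 1, .node [.leaf 1 1, .leaf 1 1, .node [.leaf 2 1, .leaf 2 1, .node [.leaf 2 1, .leaf 1 1, .leaf 1 1, .leaf 2 1, .leaf 3 2,
      .leaf 3 1, .leaf 2 2, .leaf 2 1, .leaf 5 1, .leaf 1 1, .leaf 1 1], .leaf 1 1, .leaf 1 2, .leaf 1 1, .leaf 1 2, .node [.leaf 2 1, .leaf 1 1,
      .leaf 1 1, .leaf 2 1, .leaf 3 2, .leaf 3 1, .leaf 2 2, .leaf 2 1, .leaf 5 1, .leaf 1 1, .leaf 1 1], .leaf 2 1, .leaf 2 1, .node [.leaf 2 1,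
      .leaf 1 1, .leaf 1 1, .leaf 2 1, .leaf 3 2, .leaf 3 1, .leaf 2 2, .leaf 2 1, .node [.leaf 2 1, .leaf 1 1, .leaf 1 1, .leaf 1 1, .leaf 2 1,
      .leaf 3 1, .leaf 2 1, .leaf 1 1, .node [.leaf 6 1, .leaf 6 1, .node [.leaf 1 1, .leaf 3 1, .leaf 1 1, .leaf 5 1, .leaf 3 1, .leaf 8 1, .leaf 1 1,
      .leaf 1 1, .leaf 5 1], .leaf 1 1, .leaf 1 2, .leaf 1 1, .leaf 1 2, .leaf 5 1, .leaf 5 1, .leaf 5 1, .leaf 5 1]], .leaf 1 1, .leaf 1 1]],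
      .leaf 1 1, .leaf 2 2, .leaf 2 1, .leaf 1 2, .leaf 1 1, .node [.leaf 2 1, .leaf 2 1, .node [.leaf 2 1, .leaf 1 1, .leaf 1 1, .leaf 2 1, .leaf 3 2,
      .leaf 3 1, .leaf 2 2, .leaf 2 1, .leaf 5 1, .leaf 1 1, .leaf 1 1], .leaf 1 1, .leaf 1 2, .leaf 1 1, .leaf 1 2, .leaf 4 1, .leaf 2 1,
      .leaf 2 1, .leaf 4 1], .node [.leaf 2 1, .leaf 2 1, .node [.leaf 2 1, .leaf 1 1, .leaf 1 1, .leaf 2 1, .leaf 3 2, .leaf 3 1, .leaf 2 2, .leaf 2 1,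
      .leaf 5 1, .leaf 1 1, .leaf 1 1], .leaf 1 1, .leaf 1 2, .leaf 1 1, .leaf 1 2, .leaf 4 1, .leaf 2 1, .leaf 2 1, .leaf 4 1], .leaf 1 1]],
      .leaf 1 1]

theorem threeThreeFirst1 : chkT 3 6 1 threeThreeRest [] [1, 4, 2, 8, 32, 16] threeThreeTree1 = true := by decide +kernel

/-- witnesses -/
def threeThreeTree2 : Tr :=
  .node [.node [.leaf 1 1, .leaf 2 1, .leaf 1 1, .leaf 2 1, .leaf 1 2, .leaf 1 1, .leaf 2 2, .leaf 1 1, .node [.leaf 2 1, .leaf 1 1, .leaf 1 1, .leaf 1 1,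
      .leaf 1 2, .leaf 3 1, .leaf 2 2, .leaf 1 1, .leaf 1 1, .leaf 3 1, .leaf 2 1], .leaf 1 1, .leaf 2 1], .leaf 1 1, .leaf 1 1, .node [.leaf 1 1,
      .node [.leaf 2 1, .leaf 1 1, .leaf 1 1, .leaf 1 1, .leaf 1 2, .node [.leaf 3 1, .leaf 2 1, .leaf 2 1, .leaf 2 1, .leaf 2 2, .leaf 3 1, .leaf 4 2,
      .leaf 2 1, .leaf 2 1, .node [.leaf 3 1, .leaf 1 1, .leaf 1 1, .leaf 2 1, .leaf 2 2, .leaf 2 1, .leaf 2 2, .leaf 3 1, .leaf 4 1, .leaf 1 1,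
      .leaf 1 1], .leaf 3 1], .leaf 2 2, .leaf 1 1, .leaf 1 1, .leaf 3 1, .leaf 2 1], .leaf 1 1, .leaf 2 1, .leaf 1 2, .leaf 1 1, .leaf 2 2,
      .leaf 1 1, .node [.leaf 2 1, .leaf 1 1, .leaf 1 1, .leaf 1 1, .leaf 1 2, .leaf 3 1, .leaf 2 2, .leaf 1 1, .leaf 1 1, .leaf 3 1, .leaf 2 1],
      .leaf 1 1, .node [.leaf 2 1, .leaf 1 1, .leaf 1 1, .leaf 1 1, .leaf 1 2, .leaf 3 1, .leaf 2 2, .leaf 1 1, .leaf 1 1, .node [.node [.leaf 3 1, .leaf 1 1,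
      .leaf 1 1, .leaf 2 1, .leaf 2 2, .leaf 2 1, .leaf 2 2, .leaf 3 1, .leaf 5 1, .leaf 1 1, .leaf 1 1], .leaf 2 1, .leaf 2 1, .leaf 2 1,
      .leaf 2 2, .leaf 3 1, .leaf 3 2, .leaf 2 1, .leaf 2 1, .leaf 4 1, .leaf 4 1], .leaf 2 1]], .node [.leaf 1 1, .leaf 2 2, .leaf 1 1, .node [.node [.node [.leaf 3 1,
      .leaf 1 1, .leaf 1 1, .leaf 3 1, .leaf 4 2, .leaf 4 1, .leaf 2 2, .leaf 3 1, .leaf 5 1, .leaf 1 1, .leaf 1 1], .leaf 3 1, .leaf 3 1,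
      .leaf 2 2, .leaf 2 1, .leaf 3 1, .leaf 3 2, .leaf 3 1, .leaf 3 1, .leaf 2 2, .leaf 2 2], .leaf 1 1, .leaf 1 1, .leaf 1 1, .leaf 1 2,
      .node [.leaf 4 1, .leaf 3 1, .leaf 3 1, .leaf 2 2, .leaf 2 1, .leaf 3 1, .leaf 3 2, .leaf 3 1, .leaf 3 1, .leaf 2 2, .leaf 4 1], .leaf 2 2,
      .leaf 1 1, .leaf 1 1, .node [.node [.leaf 3 1, .leaf 1 1, .leaf 1 1, .leaf 3 1, .leaf 5 2, .leaf 2 2, .leaf 2 2, .leaf 3 1, .leaf 5 1, .leaf 1 1,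
      .leaf 1 1], .leaf 3 1, .leaf 3 1, .leaf 2 2, .leaf 2 1, .leaf 3 1, .leaf 3 2, .leaf 3 1, .leaf 3 1, .leaf 4 1, .leaf 4 1], .node [.node [.leaf 3 1,
      .leaf 1 1, .leaf 1 1, .leaf 3 1, .leaf 4 2, .leaf 4 1, .leaf 2 2, .leaf 3 1, .leaf 5 1, .leaf 1 1, .leaf 1 1], .leaf 3 1, .leaf 3 1,
      .leaf 2 2, .leaf 2 1, .leaf 3 1, .leaf 3 2, .leaf 3 1, .leaf 3 1, .leaf 4 1, .leaf 4 1]], .leaf 1 2, .leaf 1 1, .leaf 2 2, .leaf 1 1,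
      .node [.node [.leaf 3 1, .leaf 3 1, .leaf 4 1, .leaf 3 1, .leaf 2 1, .leaf 4 1, .leaf 3 2, .leaf 3 1, .leaf 4 1, .leaf 2 2, .leaf 3 1], .leaf 1 1,
      .leaf 1 1, .leaf 1 1, .leaf 1 2, .leaf 3 1, .leaf 2 2, .leaf 1 1, .leaf 1 1, .leaf 3 1, .leaf 3 1], .leaf 1 1, .leaf 2 2], .node [.leaf 1 1,
      .node [.leaf 3 1, .leaf 1 1, .leaf 1 1, .leaf 1 1, .leaf 1 2, .leaf 2 1, .leaf 2 2, .leaf 1 1, .leaf 1 1, .leaf 3 1, .node [.leaf 3 1, .leaf 3 1,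
      .leaf 4 1, .node [.leaf 3 1, .leaf 1 1, .leaf 1 1, .leaf 4 1, .leaf 3 2, .leaf 2 1, .leaf 2 2, .leaf 2 1, .leaf 2 1, .leaf 1 1, .leaf 1 1],
      .leaf 3 2, .leaf 3 1, .node [.leaf 3 1, .leaf 1 1, .leaf 1 1, .leaf 4 1, .leaf 3 2, .leaf 2 1, .leaf 2 2, .leaf 2 1, .leaf 2 1, .leaf 1 1,
      .leaf 1 1], .leaf 3 1, .node [.leaf 3 1, .leaf 1 1, .leaf 1 1, .leaf 4 1, .leaf 3 2, .leaf 2 1, .leaf 2 2, .leaf 2 1, .leaf 2 1, .leaf 1 1,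
      .leaf 1 1], .leaf 4 1, .leaf 3 1]], .leaf 1 1, .node [.node [.node [.leaf 3 1, .leaf 1 1, .leaf 1 1, .leaf 3 1, .leaf 4 2, .leaf 2 1, .leaf 2 2, .leaf 2 1,
      .leaf 2 1, .leaf 1 1, .leaf 1 1], .leaf 3 1, .leaf 3 1, .node [.leaf 3 1, .leaf 1 1, .leaf 1 1, .leaf 3 1, .leaf 4 2, .leaf 2 1, .leaf 2 2,
      .leaf 2 1, .leaf 2 1, .leaf 1 1, .leaf 1 1], .node [.leaf 3 1, .leaf 1 1, .leaf 1 1, .leaf 3 1, .leaf 4 2, .leaf 2 1, .leaf 2 2, .leaf 2 1,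
      .leaf 2 1, .leaf 1 1, .leaf 1 1], .leaf 3 1, .leaf 3 2, .leaf 3 1, .leaf 3 1, .node [.leaf 3 1, .leaf 1 1, .leaf 1 1, .leaf 3 1, .leaf 4 2,
      .leaf 2 1, .leaf 2 2, .leaf 2 1, .leaf 2 1, .leaf 1 1, .leaf 1 1], .node [.leaf 3 1, .leaf 1 1, .leaf 1 1, .leaf 3 1, .leaf 4 2, .leaf 2 1,
      .leaf 2 2, .leaf 2 1, .leaf 2 1, .leaf 1 1, .leaf 1 1]], .leaf 1 1, .leaf 1 1, .leaf 1 1, .leaf 1 2, .leaf 2 1, .leaf 2 2, .leaf 1 1,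
      .leaf 1 1, .node [.node [.leaf 3 1, .leaf 1 1, .leaf 1 1, .leaf 3 1, .leaf 5 2, .leaf 2 1, .leaf 2 2, .leaf 2 1, .leaf 2 1, .leaf 1 1, .leaf 1 1],
      .leaf 3 1, .leaf 3 1, .node [.leaf 3 1, .leaf 1 1, .leaf 1 1, .leaf 3 1, .leaf 5 2, .leaf 2 1, .leaf 2 2, .leaf 2 1, .leaf 2 1, .leaf 1 1,
      .leaf 1 1], .node [.leaf 3 1, .leaf 1 1, .leaf 1 1, .leaf 3 1, .leaf 5 2, .leaf 2 1, .leaf 2 2, .leaf 2 1, .leaf 2 1, .leaf 1 1, .leaf 1 1],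
      .leaf 3 1, .leaf 3 2, .leaf 3 1, .leaf 3 1, .leaf 4 1, .leaf 4 1], .node [.node [.leaf 3 1, .leaf 1 1, .leaf 1 1, .leaf 3 1, .leaf 4 2, .leaf 2 1,
      .leaf 2 2, .leaf 2 1, .leaf 2 1, .leaf 1 1, .leaf 1 1], .leaf 3 1, .leaf 3 1, .node [.leaf 3 1, .leaf 1 1, .leaf 1 1, .leaf 3 1, .leaf 4 2,
      .leaf 2 1, .leaf 2 2, .leaf 2 1, .leaf 2 1, .leaf 1 1, .leaf 1 1], .node [.leaf 3 1, .leaf 1 1, .leaf 1 1, .leaf 3 1, .leaf 4 2, .leaf 2 1,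
      .leaf 2 2, .leaf 2 1, .leaf 2 1, .leaf 1 1, .leaf 1 1], .leaf 3 1, .leaf 3 2, .leaf 3 1, .leaf 3 1, .leaf 4 1, .leaf 4 1]], .leaf 1 2,
      .leaf 1 1, .leaf 2 2, .leaf 1 1, .leaf 2 1, .leaf 1 1, .leaf 2 1], .node [.leaf 1 1, .leaf 2 2, .leaf 1 1, .leaf 2 2, .leaf 1 2, .leaf 1 1,
      .leaf 2 1, .leaf 1 1, .leaf 2 2, .leaf 1 1, .node [.leaf 3 1, .leaf 1 1, .leaf 1 1, .leaf 1 1, .leaf 1 2, .leaf 3 1, .leaf 2 1, .leaf 1 1,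
      .leaf 1 1, .node [.node [.leaf 3 1, .leaf 1 1, .leaf 1 1, .leaf 2 2, .leaf 2 2, .leaf 3 1, .leaf 2 1, .leaf 3 1, .leaf 5 1, .leaf 1 1, .leaf 1 1],
      .leaf 2 2, .leaf 2 2, .leaf 3 1, .leaf 3 2, .leaf 3 1, .leaf 3 2, .leaf 4 1, .leaf 4 1, .leaf 4 1, .leaf 4 1], .leaf 3 1]], .node [.leaf 1 1,
      .node [.leaf 2 1, .leaf 1 1, .leaf 1 1, .leaf 1 1, .leaf 1 2, .leaf 2 1, .leaf 3 2, .leaf 1 1, .leaf 1 1, .leaf 3 1, .leaf 2 1], .leaf 1 1,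
      .leaf 2 1, .leaf 1 2, .leaf 1 1, .node [.leaf 2 1, .leaf 1 1, .leaf 1 1, .leaf 1 1, .leaf 1 2, .leaf 2 1, .leaf 3 1, .leaf 1 1, .leaf 1 1,
      .leaf 3 2, .leaf 2 1], .leaf 1 1, .leaf 2 1, .leaf 1 1, .leaf 2 1], .node [.leaf 1 1, .leaf 2 1, .leaf 1 1, .node [.node [.node [.leaf 2 1, .leaf 1 1, .leaf 1 1,
      .leaf 3 1, .leaf 2 2, .leaf 4 1, .leaf 2 2, .leaf 3 1, .leaf 2 1, .leaf 1 1, .leaf 1 1], .leaf 3 1, .leaf 3 1, .leaf 2 1, .leaf 2 2,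
      .leaf 3 1, .leaf 3 2, .leaf 2 1, .leaf 2 1, .leaf 2 1, .leaf 2 1], .leaf 1 1, .leaf 1 1, .leaf 1 1, .leaf 1 2, .leaf 2 1, .leaf 2 2,
      .leaf 1 1, .leaf 1 1, .node [.node [.leaf 2 1, .leaf 1 1, .leaf 1 1, .leaf 3 1, .leaf 2 2, .node [.leaf 2 1, .leaf 2 1, .leaf 6 1, .leaf 1 1, .leaf 1 1,
      .leaf 3 1, .leaf 2 1, .leaf 1 1, .leaf 1 1], .leaf 2 2, .leaf 3 1, .leaf 2 1, .leaf 1 1, .leaf 1 1], .leaf 3 1, .leaf 3 1, .leaf 2 1,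
      .leaf 2 2, .leaf 3 1, .leaf 3 2, .leaf 2 1, .leaf 2 1, .leaf 2 1, .leaf 2 1], .node [.node [.leaf 2 1, .leaf 1 1, .leaf 1 1, .leaf 3 1, .leaf 2 2,
      .leaf 4 1, .leaf 2 2, .leaf 3 1, .leaf 2 1, .leaf 1 1, .leaf 1 1], .leaf 3 1, .leaf 3 1, .leaf 2 1, .leaf 2 2, .leaf 3 1, .leaf 3 2,
      .leaf 2 1, .leaf 2 1, .leaf 2 1, .leaf 2 1]], .leaf 1 2, .leaf 1 1, .leaf 2 2, .leaf 1 1, .leaf 2 1, .leaf 1 1, .node [.leaf 3 1, .leaf 1 1,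
      .leaf 1 1, .leaf 1 1, .leaf 1 2, .leaf 2 1, .leaf 2 2, .leaf 1 1, .leaf 1 1, .node [.node [.leaf 2 1, .leaf 1 1, .leaf 1 1, .node [.leaf 2 1, .leaf 2 1,
      .leaf 3 1, .leaf 1 1, .leaf 1 1, .leaf 3 1, .leaf 2 1, .leaf 1 1, .leaf 1 1], .leaf 2 2, .leaf 3 1, .leaf 2 2, .leaf 3 1, .leaf 2 1,
      .leaf 1 1, .leaf 1 1], .node [.leaf 2 1, .leaf 1 1, .leaf 1 1, .node [.leaf 2 1, .leaf 2 1, .leaf 3 1, .leaf 1 1, .leaf 1 1, .leaf 3 1, .leaf 2 1,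
      .leaf 1 1, .leaf 1 1], .leaf 2 2, .leaf 3 1, .leaf 2 2, .leaf 3 1, .leaf 2 1, .leaf 1 1, .leaf 1 1], .node [.leaf 2 1, .leaf 1 1, .leaf 1 1,
      .node [.leaf 2 1, .leaf 2 1, .leaf 3 1, .leaf 1 1, .leaf 1 1, .leaf 3 1, .leaf 2 1, .leaf 1 1, .leaf 1 1], .leaf 2 2, .leaf 3 1, .leaf 2 2,
      .leaf 3 1, .leaf 2 1, .leaf 1 1, .leaf 1 1], .leaf 2 1, .leaf 2 2, .leaf 3 1, .leaf 3 2, .leaf 2 1, .leaf 2 1, .leaf 2 1, .leaf 2 1],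
      .leaf 3 1]], .leaf 1 1, .leaf 1 1]

theorem threeThreeFirst2 : chkT 3 6 1 threeThreeRest [] [1, 4, 2, 14, 33, 17] threeThreeTree2 = true := by decide +kernel

/-- witnesses -/
def threeThreeTree3 : Tr :=
  .node [.node [.leaf 1 1, .leaf 2 1, .leaf 1 1, .leaf 2 1, .leaf 1 2, .node [.leaf 2 1, .leaf 1 1, .leaf 1 1, .leaf 2 1, .node [.leaf 1 1, .leaf 2 1, .leaf 1 1,
      .leaf 1 1, .leaf 3 2, .leaf 4 2, .leaf 1 2, .leaf 1 1, .leaf 3 1, .leaf 1 1, .leaf 2 1], .leaf 3 1, .leaf 2 2, .leaf 2 1, .leaf 3 1,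
      .leaf 1 1, .leaf 1 1], .leaf 1 2, .leaf 2 1, .leaf 1 1, .node [.leaf 2 1, .leaf 1 1, .leaf 1 1, .leaf 2 1, .leaf 3 2, .leaf 3 1, .leaf 2 2,
      .leaf 2 1, .node [.leaf 1 1, .leaf 2 1, .leaf 1 1, .leaf 1 1, .leaf 4 2, .leaf 4 1, .leaf 1 2, .leaf 1 1, .node [.leaf 1 1, .node [.leaf 1 1, .node [.leaf 1 1,
      .leaf 1 1, .leaf 3 1, .leaf 1 1, .leaf 2 2, .leaf 2 1, .leaf 1 2, .leaf 1 1, .leaf 5 1, .leaf 3 1, .leaf 1 1], .leaf 1 1, .node [.leaf 1 1,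
      .leaf 1 1, .leaf 3 1, .leaf 1 1, .leaf 2 2, .leaf 2 1, .leaf 1 2, .leaf 1 1, .leaf 5 1, .leaf 3 1, .leaf 1 1], .node [.leaf 1 1, .leaf 1 1,
      .leaf 3 1, .leaf 1 1, .leaf 2 2, .leaf 2 1, .leaf 1 2, .leaf 1 1, .leaf 5 1, .leaf 3 1, .leaf 1 1], .leaf 1 1, .leaf 2 1, .leaf 2 1,
      .leaf 1 1], .leaf 1 1, .leaf 2 1, .leaf 1 2, .leaf 3 1, .leaf 1 2, .leaf 2 1, .leaf 1 1, .leaf 2 1, .leaf 1 1], .leaf 1 1, .leaf 2 1],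
      .leaf 1 1, .leaf 1 1], .leaf 1 1], .node [.leaf 1 1, .node [.leaf 2 1, .leaf 1 1, .leaf 1 1, .leaf 2 1, .leaf 3 2, .node [.leaf 1 1, .leaf 3 1, .leaf 1 1,
      .leaf 1 1, .leaf 3 2, .leaf 3 1, .leaf 1 2, .leaf 1 1, .leaf 4 1, .leaf 1 1, .leaf 3 1], .leaf 2 2, .leaf 2 1, .leaf 3 1, .leaf 1 1,
      .leaf 1 1], .leaf 1 1, .node [.leaf 2 1, .leaf 1 1, .leaf 1 1, .leaf 2 1, .node [.leaf 1 1, .leaf 3 1, .leaf 1 1, .leaf 1 1, .leaf 4 2, .leaf 3 1,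
      .leaf 1 2, .leaf 1 1, .leaf 3 1, .leaf 1 1, .node [.leaf 1 1, .leaf 3 1, .leaf 1 1, .leaf 3 1, .leaf 4 1, .leaf 4 2, .leaf 1 2, .leaf 3 1,
      .leaf 1 1, .leaf 4 2, .leaf 1 1]], .node [.leaf 1 1, .leaf 3 1, .leaf 1 1, .leaf 1 1, .leaf 4 2, .leaf 3 1, .leaf 1 2, .leaf 1 1, .leaf 3 1,
      .leaf 1 1, .leaf 4 1], .leaf 2 2, .leaf 2 1, .node [.leaf 1 1, .leaf 3 1, .leaf 1 1, .leaf 1 1, .leaf 4 2, .leaf 3 1, .leaf 1 2, .leaf 1 1,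
      .leaf 3 1, .leaf 1 1, .leaf 4 1], .leaf 1 1, .leaf 1 1], .leaf 1 2, .node [.leaf 2 1, .leaf 1 1, .leaf 1 1, .leaf 2 1, .node [.leaf 1 1, .leaf 4 2,
      .leaf 1 1, .leaf 1 1, .leaf 3 2, .leaf 4 2, .leaf 1 2, .leaf 1 1, .leaf 3 1, .leaf 1 1, .leaf 3 1], .leaf 3 1, .leaf 2 2, .leaf 2 1,
      .leaf 3 1, .leaf 1 1, .leaf 1 1], .leaf 1 2, .node [.leaf 2 1, .leaf 1 1, .leaf 1 1, .leaf 2 1, .node [.leaf 1 1, .leaf 3 1, .leaf 1 1, .leaf 1 1,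
      .leaf 3 2, .leaf 3 1, .leaf 1 2, .leaf 1 1, .leaf 4 2, .leaf 1 1, .leaf 3 1], .leaf 3 1, .leaf 2 2, .leaf 2 1, .leaf 3 1, .leaf 1 1,
      .leaf 1 1], .leaf 1 1, .node [.leaf 2 1, .leaf 1 1, .leaf 1 1, .leaf 2 1, .leaf 3 2, .leaf 3 1, .leaf 2 2, .leaf 2 1, .node [.leaf 1 1, .leaf 4 1,
      .leaf 1 1, .leaf 1 1, .leaf 4 2, .leaf 4 1, .leaf 1 2, .leaf 1 1, .node [.leaf 1 1, .node [.leaf 1 1, .node [.leaf 1 1, .leaf 1 1, .leaf 3 1, .leaf 1 1,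
      .leaf 2 2, .leaf 2 1, .leaf 1 2, .leaf 1 1, .leaf 5 1, .leaf 3 1, .leaf 1 1], .leaf 1 1, .node [.leaf 1 1, .leaf 1 1, .leaf 3 1, .leaf 1 1,
      .leaf 2 2, .leaf 2 1, .leaf 1 2, .leaf 1 1, .leaf 5 1, .leaf 3 1, .leaf 1 1], .node [.leaf 1 1, .leaf 1 1, .leaf 3 1, .leaf 1 1, .leaf 2 2,
      .leaf 2 1, .leaf 1 2, .leaf 1 1, .leaf 5 1, .leaf 3 1, .leaf 1 1], .leaf 1 1, .leaf 2 1, .leaf 2 1, .leaf 1 1], .leaf 1 1, .leaf 3 1,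
      .leaf 1 2, .leaf 3 1, .leaf 1 2, .node [.leaf 1 1, .node [.leaf 1 1, .leaf 1 1, .leaf 3 1, .leaf 1 1, .leaf 2 2, .leaf 2 1, .leaf 1 2, .leaf 1 1,
      .leaf 5 1, .leaf 3 1, .leaf 1 1], .leaf 1 1, .node [.leaf 1 1, .leaf 1 1, .leaf 3 1, .leaf 1 1, .leaf 2 2, .leaf 2 1, .leaf 1 2, .leaf 1 1,
      .leaf 5 1, .leaf 3 1, .leaf 1 1], .node [.leaf 1 1, .leaf 1 1, .leaf 3 1, .leaf 1 1, .leaf 2 2, .leaf 2 1, .leaf 1 2, .leaf 1 1, .leaf 5 1,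
      .leaf 3 1, .leaf 1 1], .leaf 1 1, .leaf 2 1, .leaf 2 1, .leaf 1 1], .leaf 1 1, .node [.leaf 1 1, .node [.leaf 1 1, .leaf 1 1, .leaf 3 1, .leaf 1 1,
      .leaf 2 2, .leaf 2 1, .leaf 1 2, .leaf 1 1, .leaf 5 1, .leaf 3 1, .leaf 1 1], .leaf 1 1, .node [.leaf 1 1, .leaf 1 1, .leaf 3 1, .leaf 1 1,
      .leaf 2 2, .leaf 2 1, .leaf 1 2, .leaf 1 1, .leaf 5 1, .leaf 3 1, .leaf 1 1], .node [.leaf 1 1, .leaf 1 1, .leaf 3 1, .leaf 1 1, .leaf 2 2,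
      .leaf 2 1, .leaf 1 2, .leaf 1 1, .leaf 5 1, .leaf 3 1, .leaf 1 1], .leaf 1 1, .leaf 2 1, .leaf 2 1, .leaf 1 1], .leaf 1 1], .leaf 1 1,
      .leaf 4 1], .leaf 1 1, .leaf 1 1], .leaf 1 1], .node [.leaf 1 1, .leaf 2 1, .leaf 1 1, .leaf 2 1, .leaf 1 2, .node [.node [.leaf 1 1, .leaf 2 1, .leaf 1 1,
      .leaf 1 1, .leaf 3 2, .leaf 4 1, .leaf 1 2, .leaf 1 1, .leaf 3 1, .leaf 1 1, .leaf 2 1], .leaf 1 1, .leaf 1 1, .node [.leaf 1 1, .leaf 2 1,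
      .leaf 1 1, .leaf 1 1, .leaf 3 2, .node [.leaf 1 1, .leaf 3 1, .leaf 1 1, .leaf 2 1, .leaf 1 2, .node [.leaf 1 1, .leaf 4 1, .leaf 1 1, .leaf 4 1,
      .leaf 6 1, .leaf 1 1, .leaf 4 1, .leaf 3 1, .leaf 1 1], .leaf 1 2, .leaf 2 1, .leaf 1 1, .leaf 2 1, .leaf 1 1], .leaf 1 2, .leaf 1 1,
      .leaf 3 1, .leaf 1 1, .leaf 2 1], .node [.leaf 1 1, .leaf 2 1, .leaf 1 1, .leaf 1 1, .leaf 3 2, .leaf 4 2, .leaf 1 2, .leaf 1 1, .leaf 3 1,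
      .leaf 1 1, .leaf 2 1], .leaf 3 1, .leaf 3 2, .leaf 3 1, .leaf 3 1, .leaf 1 1, .leaf 1 1], .leaf 1 2, .leaf 2 1, .leaf 1 1, .node [.leaf 3 1,
      .leaf 1 1, .leaf 1 1, .node [.leaf 1 1, .leaf 2 1, .leaf 1 1, .leaf 1 1, .node [.leaf 1 1, .leaf 4 1, .leaf 1 1, .leaf 2 1, .leaf 1 2, .leaf 3 1,
      .leaf 1 2, .leaf 2 1, .leaf 1 1, .leaf 2 1, .leaf 1 1], .node [.leaf 1 1, .leaf 4 1, .leaf 1 1, .leaf 2 1, .leaf 1 2, .leaf 3 1, .leaf 1 2,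
      .leaf 2 1, .leaf 1 1, .leaf 2 1, .leaf 1 1], .leaf 1 2, .leaf 1 1, .node [.leaf 1 1, .leaf 4 1, .leaf 1 1, .leaf 2 1, .leaf 1 2, .leaf 3 1,
      .leaf 1 2, .leaf 2 1, .leaf 1 1, .leaf 2 1, .leaf 1 1], .leaf 1 1, .leaf 2 1], .leaf 3 2, .leaf 3 1, .node [.leaf 1 1, .leaf 2 1, .leaf 1 1,
      .leaf 1 1, .node [.leaf 1 1, .leaf 4 2, .leaf 1 1, .leaf 2 1, .leaf 1 2, .leaf 3 1, .leaf 4 1, .leaf 2 1, .leaf 1 1, .leaf 2 1, .leaf 1 1],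
      .leaf 4 2, .leaf 1 2, .leaf 1 1, .node [.leaf 1 1, .leaf 4 2, .leaf 1 1, .leaf 2 1, .leaf 1 2, .leaf 3 1, .leaf 4 1, .leaf 2 1, .leaf 1 1,
      .leaf 2 1, .leaf 1 1], .leaf 1 1, .leaf 2 1], .leaf 3 1, .node [.leaf 1 1, .leaf 2 1, .leaf 1 1, .leaf 1 1, .leaf 4 2, .leaf 4 1, .leaf 1 2,
      .leaf 1 1, .node [.leaf 1 1, .node [.leaf 1 1, .node [.leaf 1 1, .leaf 1 1, .leaf 3 1, .leaf 1 1, .leaf 3 2, .leaf 3 1, .leaf 1 2, .leaf 1 1, .leaf 5 1,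
      .leaf 3 1, .leaf 1 1], .leaf 1 1, .node [.leaf 1 1, .leaf 1 1, .leaf 3 1, .leaf 1 1, .leaf 3 2, .leaf 3 1, .leaf 1 2, .leaf 1 1, .leaf 5 1,
      .leaf 3 1, .leaf 1 1], .node [.leaf 1 1, .leaf 1 1, .leaf 3 1, .leaf 1 1, .leaf 3 2, .leaf 3 1, .leaf 1 2, .leaf 1 1, .leaf 5 1, .leaf 3 1,
      .leaf 1 1], .leaf 1 1, .leaf 3 1, .leaf 3 1, .leaf 1 1], .leaf 1 1, .leaf 2 1, .leaf 1 2, .leaf 3 1, .leaf 1 2, .leaf 2 1, .leaf 1 1,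
      .leaf 2 1, .leaf 1 1], .leaf 1 1, .leaf 2 1], .leaf 1 1, .leaf 1 1], .leaf 1 1], .leaf 1 1, .leaf 1 2, .leaf 1 1, .leaf 1 2, .node [.leaf 1 1,
      .node [.leaf 2 1, .leaf 1 1, .leaf 1 1, .node [.leaf 1 1, .leaf 2 1, .leaf 1 1, .leaf 1 1, .leaf 2 2, .leaf 3 1, .leaf 1 2, .leaf 1 1, .leaf 2 1,
      .leaf 1 1, .leaf 3 1], .leaf 2 2, .leaf 2 1, .leaf 3 2, .leaf 2 1, .leaf 3 1, .leaf 1 1, .leaf 1 1], .leaf 1 1, .leaf 2 1, .leaf 1 2,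
      .node [.leaf 2 1, .leaf 1 1, .leaf 1 1, .node [.leaf 1 1, .leaf 2 1, .leaf 1 1, .leaf 1 1, .leaf 2 2, .node [.leaf 1 1, .leaf 2 1, .leaf 1 1, .leaf 2 1,
      .leaf 1 2, .node [.leaf 1 1, .leaf 2 1, .leaf 1 1, .leaf 4 1, .leaf 2 1, .leaf 1 1, .leaf 4 1, .leaf 2 1, .leaf 1 1], .leaf 1 2, .leaf 2 1,
      .leaf 1 1, .leaf 3 1, .leaf 1 1], .leaf 1 2, .leaf 1 1, .leaf 2 1, .leaf 1 1, .leaf 3 1], .leaf 2 2, .leaf 2 1, .leaf 3 2, .leaf 2 1,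
      .leaf 3 1, .leaf 1 1, .leaf 1 1], .leaf 1 2, .leaf 2 1, .leaf 1 1, .leaf 2 1, .leaf 1 1], .node [.leaf 1 1, .leaf 2 1, .leaf 1 1, .node [.node [.leaf 1 1,
      .leaf 3 1, .leaf 1 1, .leaf 1 1, .leaf 2 2, .leaf 3 1, .leaf 1 2, .leaf 1 1, .leaf 2 1, .leaf 1 1, .leaf 2 1], .leaf 1 1, .leaf 1 1,
      .leaf 2 1, .leaf 2 2, .leaf 2 1, .leaf 2 2, .node [.leaf 1 1, .leaf 3 1, .leaf 1 1, .leaf 1 1, .leaf 2 2, .leaf 3 1, .leaf 1 2, .leaf 1 1,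
      .leaf 2 1, .leaf 1 1, .leaf 2 1], .node [.leaf 1 1, .leaf 3 1, .leaf 1 1, .leaf 1 1, .leaf 2 2, .leaf 3 1, .leaf 1 2, .leaf 1 1, .leaf 2 1,
      .leaf 1 1, .leaf 2 1], .leaf 1 1, .leaf 1 1], .leaf 1 2, .node [.node [.leaf 1 1, .leaf 4 1, .leaf 1 1, .leaf 1 1, .leaf 2 2, .leaf 4 1, .leaf 1 2,
      .leaf 1 1, .leaf 2 1, .leaf 1 1, .leaf 2 1], .leaf 1 1, .leaf 1 1, .leaf 2 1, .leaf 2 2, .leaf 2 1, .leaf 2 2, .leaf 3 1, .leaf 3 1,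
      .leaf 1 1, .leaf 1 1], .leaf 1 2, .node [.node [.leaf 1 1, .leaf 3 1, .leaf 1 1, .leaf 1 1, .leaf 2 2, .leaf 3 1, .leaf 1 2, .leaf 1 1, .leaf 2 1,
      .leaf 1 1, .leaf 2 1], .leaf 1 1, .leaf 1 1, .leaf 2 1, .leaf 2 2, .leaf 2 1, .leaf 2 2, .leaf 3 1, .leaf 3 1, .leaf 1 1, .leaf 1 1],
      .leaf 1 1, .leaf 2 1, .leaf 1 1], .node [.leaf 1 1, .node [.leaf 3 1, .leaf 1 1, .leaf 1 1, .leaf 2 1, .leaf 2 2, .leaf 2 1, .leaf 2 2, .node [.leaf 1 1,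
      .leaf 2 1, .leaf 1 1, .leaf 1 1, .leaf 2 2, .leaf 3 1, .leaf 1 2, .leaf 1 1, .leaf 2 1, .leaf 1 1, .leaf 3 1], .leaf 3 1, .leaf 1 1,
      .leaf 1 1], .leaf 1 1, .leaf 2 1, .leaf 1 2, .node [.node [.leaf 1 1, .leaf 2 1, .leaf 1 1, .leaf 1 1, .leaf 2 2, .leaf 4 1, .leaf 1 2, .leaf 1 1,
      .leaf 2 1, .leaf 1 1, .leaf 3 1], .leaf 1 1, .leaf 1 1, .leaf 2 1, .leaf 2 2, .leaf 2 1, .leaf 2 2, .leaf 3 1, .leaf 3 1, .leaf 1 1,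
      .leaf 1 1], .leaf 1 2, .leaf 2 1, .leaf 1 1, .leaf 2 1, .leaf 1 1], .node [.leaf 1 1, .leaf 2 1, .leaf 1 1, .node [.leaf 2 1, .leaf 1 1, .leaf 1 1,
      .node [.leaf 1 1, .leaf 3 1, .leaf 1 1, .leaf 1 1, .leaf 2 2, .leaf 3 1, .leaf 1 2, .leaf 1 1, .leaf 2 1, .leaf 1 1, .leaf 2 1], .leaf 2 2,
      .leaf 2 1, .node [.leaf 1 1, .leaf 3 1, .leaf 1 1, .leaf 1 1, .leaf 2 2, .leaf 3 1, .leaf 1 2, .leaf 1 1, .leaf 2 1, .leaf 1 1, .leaf 2 1],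
      .leaf 2 1, .node [.leaf 1 1, .leaf 3 1, .leaf 1 1, .leaf 1 1, .leaf 2 2, .leaf 3 1, .leaf 1 2, .leaf 1 1, .leaf 2 1, .leaf 1 1, .leaf 2 1],
      .leaf 1 1, .leaf 1 1], .leaf 1 2, .node [.leaf 2 1, .leaf 1 1, .leaf 1 1, .node [.leaf 1 1, .node [.leaf 1 1, .leaf 2 1, .leaf 1 1, .node [.leaf 1 1, .leaf 2 1,
      .leaf 1 1, .leaf 4 1, .leaf 2 1, .leaf 1 1, .leaf 4 1, .leaf 2 1, .leaf 1 1], .leaf 1 2, .node [.leaf 1 1, .leaf 2 1, .leaf 1 1, .leaf 4 1,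
      .leaf 2 1, .leaf 1 1, .leaf 4 1, .leaf 2 1, .leaf 1 1], .leaf 1 2, .node [.leaf 1 1, .leaf 2 1, .leaf 1 1, .leaf 4 1, .leaf 2 1, .leaf 1 1,
      .leaf 4 1, .leaf 2 1, .leaf 1 1], .leaf 1 1, .leaf 2 1, .leaf 1 1], .leaf 1 1, .leaf 1 1, .leaf 2 2, .node [.leaf 1 1, .leaf 2 1, .leaf 1 1,
      .leaf 5 1, .leaf 1 2, .node [.leaf 1 1, .leaf 2 1, .leaf 1 1, .leaf 4 1, .leaf 2 1, .leaf 1 1, .leaf 4 1, .leaf 2 1, .leaf 1 1], .leaf 1 2,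
      .leaf 5 1, .leaf 1 1, .leaf 2 1, .leaf 1 1], .leaf 1 2, .leaf 1 1, .leaf 2 1, .leaf 1 1, .leaf 2 1], .leaf 2 2, .leaf 2 1, .leaf 3 2,
      .leaf 2 1, .leaf 3 1, .leaf 1 1, .leaf 1 1], .leaf 1 2, .node [.leaf 2 1, .leaf 1 1, .leaf 1 1, .node [.leaf 1 1, .leaf 3 1, .leaf 1 1, .leaf 1 1,
      .leaf 2 2, .leaf 3 1, .leaf 1 2, .leaf 1 1, .leaf 2 1, .leaf 1 1, .leaf 2 1], .leaf 2 2, .leaf 2 1, .leaf 3 2, .leaf 2 1, .leaf 3 1,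
      .leaf 1 1, .leaf 1 1], .leaf 1 1, .leaf 2 1, .leaf 1 1]]

theorem threeThreeFirst3 : chkT 3 6 1 threeThreeRest [] [1, 3, 4, 24, 16, 32] threeThreeTree3 = true := by decide +kernel

/-- witnesses -/
def threeThreeTree4 : Tr :=
  .node [.leaf 1 2, .node [.leaf 2 1, .node [.leaf 2 1, .leaf 2 1, .node [.leaf 2 1, .leaf 3 1, .leaf 2 1, .leaf 2 1, .leaf 3 2, .leaf 3 1, .leaf 1 2, .leaf 2 1,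
      .leaf 4 1, .leaf 2 1, .leaf 3 1], .leaf 2 1, .leaf 1 1, .node [.leaf 2 1, .leaf 3 1, .leaf 2 1, .leaf 2 1, .leaf 3 2, .leaf 3 1, .leaf 1 2,
      .leaf 2 1, .leaf 4 1, .leaf 2 1, .leaf 3 1], .leaf 1 1, .leaf 2 1, .leaf 3 1, .leaf 3 1, .leaf 2 1], .leaf 2 1, .leaf 1 2, .leaf 2 2,
      .node [.leaf 2 1, .leaf 2 1, .leaf 3 1, .leaf 2 1, .leaf 1 1, .leaf 3 1, .leaf 1 1, .leaf 2 1, .leaf 3 1, .leaf 1 2, .leaf 2 1], .leaf 1 2,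
      .leaf 1 2, .leaf 2 1, .leaf 1 2, .leaf 2 1], .leaf 1 2, .node [.node [.leaf 2 1, .leaf 3 1, .leaf 2 1, .node [.leaf 1 2, .leaf 2 1, .leaf 2 1, .leaf 2 1,
      .leaf 2 2, .leaf 3 1, .leaf 1 2, .leaf 2 1, .leaf 2 1, .leaf 1 2, .node [.leaf 3 1, .leaf 4 1, .leaf 3 1, .leaf 2 1, .leaf 1 1, .leaf 2 1,
      .leaf 1 1, .leaf 3 1, .leaf 4 1, .leaf 3 1, .leaf 1 2]], .leaf 1 1, .node [.leaf 4 1, .leaf 2 1, .leaf 2 1, .leaf 2 1, .leaf 2 2, .leaf 3 1,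
      .leaf 1 2, .leaf 2 1, .leaf 2 1, .leaf 1 2, .leaf 4 1], .leaf 1 1, .node [.leaf 4 1, .leaf 2 1, .leaf 2 1, .leaf 2 1, .leaf 2 2, .leaf 3 1,
      .leaf 1 2, .leaf 2 1, .leaf 2 1, .leaf 1 2, .leaf 4 1], .leaf 2 1, .leaf 3 1, .leaf 2 1], .node [.leaf 2 1, .leaf 3 1, .leaf 2 1, .node [.leaf 3 1,
      .leaf 2 1, .leaf 2 1, .leaf 2 1, .leaf 2 2, .leaf 3 1, .leaf 1 2, .leaf 2 1, .leaf 2 1, .leaf 1 2, .leaf 3 1], .leaf 1 1, .node [.leaf 3 1,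
      .leaf 2 1, .leaf 2 1, .leaf 2 1, .leaf 2 2, .leaf 3 1, .leaf 1 2, .leaf 2 1, .leaf 2 1, .leaf 1 2, .leaf 3 1], .leaf 1 1, .node [.leaf 3 1,
      .leaf 2 1, .leaf 2 1, .leaf 2 1, .leaf 2 2, .leaf 3 1, .leaf 1 2, .leaf 2 1, .leaf 2 1, .leaf 1 2, .leaf 3 1], .leaf 2 1, .leaf 3 1,
      .leaf 2 1], .node [.leaf 2 1, .leaf 1 2, .leaf 2 1, .node [.leaf 3 1, .leaf 2 1, .leaf 2 1, .leaf 2 1, .leaf 2 2, .leaf 1 2, .leaf 1 2, .leaf 2 1,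
      .leaf 2 1, .leaf 1 2, .leaf 3 1], .leaf 1 1, .node [.leaf 3 1, .leaf 2 1, .leaf 2 1, .leaf 2 1, .leaf 2 2, .leaf 1 2, .leaf 1 2, .leaf 2 1,
      .leaf 2 1, .leaf 1 2, .leaf 3 1], .leaf 1 1, .node [.leaf 3 1, .leaf 2 1, .leaf 2 1, .leaf 2 1, .leaf 2 2, .leaf 1 2, .leaf 1 2, .leaf 2 1,
      .leaf 2 1, .leaf 1 2, .leaf 3 1], .leaf 2 1, .leaf 1 2, .leaf 2 1], .leaf 2 1, .leaf 2 2, .leaf 2 1, .leaf 1 2, .leaf 1 2, .leaf 1 2,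
      .leaf 1 2, .leaf 1 2], .node [.leaf 2 2, .leaf 2 2, .node [.leaf 3 1, .leaf 1 2, .leaf 3 1, .leaf 2 2, .leaf 1 1, .node [.leaf 3 1, .leaf 3 1, .leaf 4 1,
      .leaf 3 1, .leaf 2 1, .leaf 1 2, .leaf 1 2, .leaf 3 1, .leaf 4 1, .leaf 1 2, .leaf 3 1], .leaf 1 1, .leaf 2 2, .leaf 3 1, .leaf 1 2,
      .leaf 3 1], .leaf 1 2, .node [.leaf 1 2, .leaf 1 2, .leaf 2 2, .leaf 2 2, .leaf 1 1, .node [.leaf 4 1, .leaf 3 2, .leaf 4 1, .leaf 2 2, .leaf 2 1,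
      .leaf 1 2, .leaf 1 2, .leaf 1 2, .leaf 4 1, .leaf 1 2, .leaf 4 1], .leaf 1 1, .leaf 2 2, .leaf 1 2, .leaf 1 2, .leaf 3 2], .leaf 2 2,
      .leaf 1 2, .leaf 1 2, .leaf 1 2, .leaf 1 2, .leaf 1 2], .leaf 1 2, .leaf 1 2, .leaf 1 2, .node [.leaf 2 1, .leaf 2 1, .node [.leaf 3 1, .leaf 1 2,
      .leaf 3 1, .leaf 2 1, .leaf 1 1, .leaf 2 1, .leaf 1 1, .node [.leaf 3 1, .leaf 3 1, .leaf 4 1, .leaf 2 1, .leaf 2 2, .leaf 1 2, .leaf 1 2,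
      .leaf 2 1, .leaf 2 1, .leaf 2 1, .leaf 2 1], .leaf 3 1, .leaf 1 2, .leaf 3 1], .leaf 1 2, .leaf 2 2, .node [.leaf 1 2, .leaf 3 1, .leaf 3 1,
      .leaf 2 1, .leaf 1 1, .leaf 2 1, .leaf 1 1, .leaf 3 1, .leaf 3 1, .leaf 1 2, .node [.leaf 3 1, .leaf 4 1, .leaf 3 1, .leaf 2 1, .leaf 2 2,
      .leaf 1 2, .leaf 1 2, .leaf 2 1, .leaf 2 1, .leaf 2 1, .leaf 2 1]], .leaf 1 2, .leaf 1 2, .leaf 2 1, .leaf 2 1, .leaf 1 2], .leaf 1 2,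
      .node [.node [.leaf 2 1, .leaf 2 1, .leaf 3 1, .node [.leaf 2 1, .node [.leaf 3 1, .leaf 2 1, .leaf 2 1, .leaf 3 1, .leaf 1 1, .node [.leaf 3 1, .leaf 2 1, .leaf 2 1,
      .leaf 4 1, .leaf 2 1, .leaf 5 1, .leaf 3 1, .leaf 2 1, .leaf 3 1], .leaf 1 1, .leaf 3 1, .leaf 4 1, .leaf 2 1, .leaf 2 1], .leaf 2 1,
      .leaf 3 1, .leaf 2 2, .leaf 3 1, .leaf 1 2, .leaf 1 2, .leaf 2 1, .leaf 1 2, .leaf 2 1], .leaf 1 1, .leaf 2 1, .leaf 1 1, .leaf 2 1,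
      .leaf 1 2, .leaf 3 1, .leaf 2 1], .leaf 2 1, .leaf 2 1, .leaf 1 2, .node [.leaf 2 1, .leaf 2 1, .leaf 3 2, .node [.leaf 2 1, .leaf 3 2, .leaf 2 1,
      .leaf 3 2, .leaf 2 2, .leaf 1 2, .leaf 1 2, .leaf 1 2, .leaf 2 1, .leaf 1 2, .leaf 2 1], .leaf 1 1, .leaf 2 1, .leaf 1 1, .leaf 2 1,
      .leaf 1 2, .leaf 1 2, .leaf 2 1], .node [.leaf 2 1, .leaf 2 1, .leaf 3 1, .node [.leaf 2 1, .node [.leaf 4 1, .leaf 2 1, .leaf 2 1, .node [.leaf 4 1, .leaf 2 1,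
      .leaf 2 1, .leaf 4 1, .leaf 2 1, .leaf 5 1, .leaf 4 1, .leaf 2 1, .leaf 3 1], .leaf 1 1, .node [.leaf 4 1, .leaf 2 1, .leaf 2 1, .leaf 4 1,
      .leaf 2 1, .leaf 5 1, .leaf 4 1, .leaf 2 1, .leaf 3 1], .leaf 1 1, .node [.leaf 4 1, .leaf 2 1, .leaf 2 1, .leaf 4 1, .leaf 2 1, .leaf 5 1,
      .leaf 4 1, .leaf 2 1, .leaf 3 1], .leaf 4 1, .leaf 2 1, .leaf 2 1], .leaf 2 1, .node [.leaf 4 1, .leaf 2 1, .leaf 2 1, .leaf 5 1, .leaf 1 1,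
      .node [.leaf 4 1, .leaf 2 1, .leaf 2 1, .leaf 4 1, .leaf 2 1, .leaf 1 2, .leaf 4 1, .leaf 2 1, .leaf 3 1], .leaf 1 1, .leaf 5 1, .leaf 4 1,
      .leaf 2 1, .leaf 2 1], .leaf 2 2, .leaf 1 2, .leaf 1 2, .leaf 1 2, .leaf 2 1, .leaf 1 2, .leaf 2 1], .leaf 1 1, .leaf 2 1, .leaf 1 1,
      .leaf 2 1, .leaf 3 1, .leaf 1 2, .leaf 2 1], .leaf 1 2, .leaf 1 2, .leaf 1 2, .leaf 2 1, .leaf 2 1]]

theorem threeThreeFirst4 : chkT 3 6 1 threeThreeRest [] [1, 3, 4, 31, 17, 33] threeThreeTree4 = true := by decide +kernel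

/-- witnesses -/
def threeThreeTree5 : Tr :=
  .node [.node [.leaf 2 1, .leaf 2 1, .node [.leaf 2 1, .leaf 2 1, .leaf 3 1, .leaf 2 1, .leaf 3 2, .node [.leaf 1 1, .leaf 2 1, .leaf 1 1, .leaf 3 1, .leaf 1 2,
      .node [.leaf 1 1, .leaf 1 1, .leaf 2 1, .leaf 2 1, .leaf 1 2, .leaf 3 1, .leaf 1 2, .leaf 2 1, .leaf 1 1, .leaf 1 1, .node [.leaf 1 1, .leaf 1 1,
      .leaf 2 1, .node [.leaf 1 1, .leaf 1 1, .leaf 5 1, .leaf 2 1, .leaf 1 2, .leaf 2 1, .leaf 1 2, .leaf 5 1, .leaf 1 1, .leaf 1 1, .leaf 7 1],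
      .leaf 1 1, .leaf 1 1, .leaf 2 1, .leaf 2 1, .leaf 3 1]], .leaf 1 2, .leaf 3 1, .leaf 1 1, .leaf 2 1, .leaf 1 1], .leaf 2 2, .leaf 2 1,
      .leaf 3 1, .node [.leaf 1 1, .leaf 2 1, .leaf 1 1, .leaf 3 1, .leaf 1 2, .leaf 4 1, .leaf 1 2, .leaf 3 1, .leaf 1 1, .leaf 2 1, .leaf 1 1],
      .leaf 2 1], .leaf 2 1, .node [.leaf 2 1, .leaf 2 1, .leaf 3 2, .leaf 2 1, .node [.leaf 1 1, .leaf 2 1, .leaf 1 1, .leaf 3 2, .leaf 1 2, .leaf 4 2,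
      .leaf 1 2, .leaf 3 2, .leaf 1 1, .leaf 2 1, .leaf 1 1], .node [.leaf 1 1, .leaf 2 1, .leaf 1 1, .leaf 3 2, .leaf 1 2, .node [.leaf 1 1, .leaf 1 1,
      .leaf 2 1, .leaf 2 1, .leaf 1 2, .node [.leaf 1 1, .leaf 1 1, .leaf 2 1, .node [.leaf 1 1, .leaf 1 1, .leaf 5 1, .leaf 2 1, .leaf 1 2, .leaf 2 1,
      .leaf 3 1, .leaf 5 1, .leaf 1 1, .leaf 1 1, .leaf 7 1], .leaf 1 1, .leaf 1 1, .leaf 2 1, .leaf 2 1, .leaf 6 1], .leaf 1 2, .leaf 2 1,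
      .leaf 1 1, .leaf 1 1, .leaf 3 2], .leaf 1 2, .leaf 3 2, .leaf 1 1, .leaf 2 1, .leaf 1 1], .leaf 2 2, .leaf 2 1, .node [.leaf 1 1, .leaf 2 1,
      .leaf 1 1, .leaf 3 2, .leaf 1 2, .leaf 4 1, .leaf 1 2, .leaf 4 1, .leaf 1 1, .leaf 2 1, .leaf 1 1], .leaf 3 2, .leaf 2 1], .leaf 1 1,
      .leaf 1 2, .leaf 1 1, .leaf 1 1, .leaf 1 1, .leaf 1 1], .node [.leaf 2 1, .node [.leaf 2 1, .leaf 2 1, .node [.leaf 1 1, .leaf 3 1, .leaf 1 1, .leaf 2 1,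
      .leaf 1 2, .leaf 3 1, .leaf 1 2, .leaf 2 1, .leaf 1 1, .leaf 2 1, .leaf 1 1], .leaf 2 1, .leaf 3 2, .node [.leaf 1 1, .leaf 3 1, .leaf 1 1,
      .leaf 2 1, .leaf 1 2, .leaf 3 1, .leaf 1 2, .leaf 2 1, .leaf 1 1, .leaf 2 1, .leaf 1 1], .leaf 2 2, .leaf 2 1, .leaf 3 1, .leaf 3 1,
      .leaf 2 1], .leaf 2 1, .node [.leaf 2 1, .leaf 2 1, .node [.leaf 1 1, .leaf 3 1, .leaf 1 1, .leaf 2 1, .leaf 1 2, .leaf 3 1, .leaf 1 2, .leaf 2 1,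
      .leaf 1 1, .leaf 2 1, .leaf 1 1], .leaf 2 1, .node [.leaf 1 1, .leaf 3 1, .leaf 1 1, .leaf 2 1, .leaf 1 2, .leaf 3 1, .leaf 1 2, .leaf 2 1,
      .leaf 1 1, .leaf 2 1, .leaf 1 1], .node [.leaf 1 1, .leaf 3 1, .leaf 1 1, .leaf 2 1, .leaf 1 2, .leaf 3 1, .leaf 1 2, .leaf 2 1, .leaf 1 1,
      .leaf 2 1, .leaf 1 1], .leaf 2 2, .leaf 2 1, .node [.leaf 1 1, .leaf 3 1, .leaf 1 1, .leaf 2 1, .leaf 1 2, .leaf 3 1, .leaf 1 2, .leaf 2 1,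
      .leaf 1 1, .leaf 2 1, .leaf 1 1], .node [.leaf 1 1, .leaf 3 1, .leaf 1 1, .leaf 2 1, .leaf 1 2, .leaf 3 1, .leaf 1 2, .leaf 2 1, .leaf 1 1,
      .leaf 2 1, .leaf 1 1], .leaf 2 1], .leaf 2 2, .leaf 1 1, .leaf 1 2, .leaf 1 1, .leaf 1 1, .leaf 1 1, .leaf 1 1], .node [.node [.node [.leaf 1 1, .leaf 2 1,
      .leaf 1 1, .leaf 2 1, .leaf 1 2, .leaf 3 1, .leaf 1 2, .leaf 2 1, .leaf 1 1, .node [.leaf 1 1, .leaf 1 1, .leaf 3 1, .leaf 2 1, .leaf 1 2,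
      .leaf 4 1, .leaf 1 2, .leaf 2 1, .leaf 1 1, .leaf 1 1, .leaf 2 1], .leaf 1 1], .leaf 3 1, .leaf 3 1, .node [.leaf 1 1, .leaf 2 1, .leaf 1 1,
      .leaf 2 1, .leaf 1 2, .leaf 3 1, .leaf 1 2, .leaf 2 1, .leaf 1 1, .node [.leaf 1 1, .leaf 1 1, .leaf 3 1, .leaf 2 1, .leaf 1 2, .node [.leaf 1 1,
      .leaf 1 1, .leaf 3 1, .leaf 4 1, .leaf 1 1, .leaf 1 1, .leaf 3 1, .node [.leaf 1 1, .leaf 1 1, .leaf 3 1, .leaf 3 1, .leaf 1 2, .leaf 6 1,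
      .leaf 1 2, .leaf 3 1, .leaf 1 1, .leaf 1 1, .leaf 5 1], .leaf 3 1], .leaf 1 2, .leaf 2 1, .leaf 1 1, .leaf 1 1, .leaf 2 1], .leaf 1 1],
      .node [.leaf 1 1, .leaf 2 1, .leaf 1 1, .leaf 2 1, .leaf 1 2, .leaf 3 1, .leaf 1 2, .leaf 2 1, .leaf 1 1, .node [.leaf 1 1, .leaf 1 1, .leaf 3 1,
      .leaf 2 1, .leaf 4 1, .leaf 4 2, .leaf 1 2, .leaf 2 1, .leaf 1 1, .leaf 1 1, .leaf 2 1], .leaf 1 1], .node [.leaf 1 1, .leaf 2 1, .leaf 1 1,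
      .leaf 2 1, .leaf 1 2, .leaf 3 1, .leaf 1 2, .leaf 2 1, .leaf 1 1, .node [.leaf 1 1, .leaf 1 1, .leaf 3 1, .leaf 2 1, .leaf 1 2, .node [.leaf 1 1,
      .leaf 1 1, .leaf 3 1, .node [.leaf 1 1, .leaf 1 1, .leaf 3 1, .leaf 3 1, .leaf 1 2, .leaf 6 1, .leaf 1 2, .leaf 3 1, .leaf 1 1, .leaf 1 1,
      .leaf 5 1], .leaf 1 1, .leaf 1 1, .leaf 3 1, .node [.leaf 1 1, .leaf 1 1, .leaf 3 1, .leaf 3 1, .leaf 1 2, .leaf 6 1, .leaf 1 2, .leaf 3 1,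
      .leaf 1 1, .leaf 1 1, .leaf 5 1], .leaf 3 1], .leaf 1 2, .leaf 2 1, .leaf 1 1, .leaf 1 1, .leaf 2 1], .leaf 1 1], .node [.leaf 1 1, .leaf 2 1,
      .leaf 1 1, .leaf 2 1, .leaf 1 2, .leaf 3 1, .leaf 1 2, .leaf 2 1, .leaf 1 1, .node [.leaf 1 1, .leaf 1 1, .leaf 3 1, .leaf 2 1, .leaf 1 2,
      .leaf 4 2, .leaf 4 1, .leaf 2 1, .leaf 1 1, .leaf 1 1, .leaf 2 1], .leaf 1 1], .node [.leaf 1 1, .leaf 2 1, .leaf 1 1, .leaf 2 1, .leaf 1 2,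
      .leaf 3 1, .leaf 1 2, .leaf 2 1, .leaf 1 1, .node [.leaf 1 1, .leaf 1 1, .leaf 3 1, .leaf 2 1, .leaf 1 2, .node [.leaf 1 1, .leaf 1 1, .leaf 3 1,
      .leaf 4 1, .leaf 1 1, .leaf 1 1, .leaf 3 1, .node [.leaf 1 1, .leaf 1 1, .leaf 3 1, .leaf 3 1, .leaf 1 2, .leaf 6 1, .leaf 1 2, .leaf 3 1,
      .leaf 1 1, .leaf 1 1, .leaf 5 1], .leaf 3 1], .leaf 1 2, .leaf 2 1, .leaf 1 1, .leaf 1 1, .leaf 2 1], .leaf 1 1], .node [.leaf 1 1, .leaf 2 1,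
      .leaf 1 1, .leaf 2 1, .leaf 1 2, .leaf 3 1, .leaf 1 2, .leaf 2 1, .leaf 1 1, .node [.leaf 1 1, .leaf 1 1, .leaf 3 1, .leaf 2 1, .leaf 1 2,
      .leaf 4 1, .leaf 1 2, .leaf 2 1, .leaf 1 1, .leaf 1 1, .leaf 2 1], .leaf 1 1], .leaf 3 1, .leaf 3 1], .leaf 2 1, .leaf 2 1, .leaf 2 1,
      .leaf 2 2, .leaf 1 1, .leaf 1 2, .leaf 1 1, .leaf 1 1, .leaf 1 1, .leaf 1 1], .node [.node [.leaf 2 1, .leaf 3 1, .leaf 2 1, .node [.leaf 1 1, .leaf 2 1,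
      .leaf 1 1, .leaf 2 1, .leaf 1 2, .leaf 3 1, .leaf 1 2, .leaf 2 1, .leaf 1 1, .node [.leaf 1 1, .leaf 1 1, .leaf 3 1, .leaf 2 1, .leaf 1 2,
      .leaf 2 1, .leaf 1 2, .leaf 3 1, .leaf 1 1, .leaf 1 1, .leaf 5 1], .leaf 1 1], .leaf 2 2, .node [.leaf 1 1, .leaf 2 1, .leaf 1 1, .leaf 2 1,
      .leaf 1 2, .leaf 3 1, .leaf 1 2, .leaf 2 1, .leaf 1 1, .node [.leaf 1 1, .leaf 1 1, .leaf 3 1, .leaf 2 1, .leaf 1 2, .leaf 2 1, .leaf 1 2,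
      .leaf 3 1, .leaf 1 1, .leaf 1 1, .leaf 5 1], .leaf 1 1], .leaf 2 2, .node [.leaf 1 1, .leaf 2 1, .leaf 1 1, .leaf 2 1, .leaf 1 2, .leaf 3 1,
      .leaf 1 2, .leaf 2 1, .leaf 1 1, .node [.leaf 1 1, .leaf 1 1, .leaf 3 1, .leaf 2 1, .leaf 1 2, .leaf 2 1, .leaf 1 2, .leaf 3 1, .leaf 1 1,
      .leaf 1 1, .leaf 5 1], .leaf 1 1], .leaf 2 1, .leaf 3 1, .leaf 2 1], .node [.leaf 2 1, .leaf 3 1, .leaf 2 1, .node [.leaf 1 1, .leaf 2 1, .leaf 1 1,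
      .leaf 2 1, .leaf 1 2, .leaf 3 1, .leaf 1 2, .leaf 2 1, .leaf 1 1, .node [.leaf 1 1, .leaf 1 1, .leaf 3 1, .leaf 2 1, .leaf 1 2, .leaf 2 1,
      .leaf 1 2, .leaf 3 1, .leaf 1 1, .leaf 1 1, .leaf 5 1], .leaf 1 1], .leaf 2 2, .node [.leaf 1 1, .leaf 2 1, .leaf 1 1, .leaf 2 1, .leaf 1 2,
      .leaf 3 1, .leaf 1 2, .leaf 2 1, .leaf 1 1, .node [.leaf 1 1, .leaf 1 1, .leaf 3 1, .leaf 2 1, .leaf 1 2, .leaf 2 1, .leaf 1 2, .leaf 3 1,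
      .leaf 1 1, .leaf 1 1, .leaf 5 1], .leaf 1 1], .leaf 2 2, .node [.leaf 1 1, .leaf 2 1, .leaf 1 1, .leaf 2 1, .leaf 1 2, .leaf 3 1, .leaf 1 2,
      .leaf 2 1, .leaf 1 1, .node [.leaf 1 1, .leaf 1 1, .leaf 3 1, .leaf 2 1, .leaf 1 2, .leaf 2 1, .leaf 1 2, .leaf 3 1, .leaf 1 1, .leaf 1 1,
      .leaf 5 1], .leaf 1 1], .leaf 2 1, .leaf 3 1, .leaf 2 1], .node [.leaf 2 1, .node [.leaf 1 1, .leaf 2 1, .leaf 1 1, .leaf 2 1, .leaf 1 2, .leaf 4 1,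
      .leaf 1 2, .leaf 2 1, .leaf 1 1, .leaf 4 1, .leaf 1 1], .leaf 2 1, .node [.leaf 1 1, .leaf 2 1, .leaf 1 1, .leaf 2 1, .leaf 1 2, .node [.leaf 1 1,
      .leaf 1 1, .leaf 5 1, .leaf 2 1, .leaf 1 2, .leaf 2 1, .leaf 1 2, .leaf 5 1, .leaf 1 1, .leaf 1 1, .node [.leaf 1 1, .leaf 1 1, .leaf 2 1,
      .leaf 2 1, .leaf 1 1, .leaf 1 1, .leaf 3 1, .node [.leaf 1 1, .leaf 1 1, .leaf 5 1, .leaf 2 1, .leaf 1 2, .leaf 2 1, .leaf 1 2, .leaf 5 1,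
      .leaf 1 1, .leaf 1 1, .node [.leaf 2 1, .leaf 1 1, .leaf 1 1, .leaf 3 1, .leaf 1 1, .leaf 2 1, .node [.leaf 1 1, .leaf 1 1, .leaf 2 1, .leaf 5 1,
      .leaf 1 2, .leaf 5 1, .leaf 1 2, .leaf 6 1, .leaf 1 1, .leaf 1 1, .leaf 2 1], .leaf 2 1, .leaf 1 1]], .leaf 2 1]], .leaf 1 2, .leaf 2 1,
      .leaf 1 1, .node [.leaf 1 1, .leaf 1 1, .leaf 5 1, .leaf 2 1, .leaf 1 2, .leaf 2 1, .leaf 1 2, .node [.leaf 1 1, .leaf 1 1, .leaf 2 1, .leaf 2 1,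
      .leaf 1 1, .leaf 1 1, .leaf 3 1, .node [.leaf 1 1, .leaf 1 1, .node [.leaf 2 1, .leaf 1 1, .leaf 1 1, .leaf 3 1, .leaf 1 1, .leaf 2 1, .leaf 6 1,
      .leaf 2 1, .leaf 1 1], .leaf 2 1, .leaf 1 2, .leaf 2 1, .leaf 1 2, .leaf 5 1, .leaf 1 1, .leaf 1 1, .leaf 5 1], .leaf 2 1], .leaf 1 1,
      .leaf 1 1, .leaf 5 1], .leaf 1 1], .leaf 2 2, .node [.leaf 1 1, .leaf 2 1, .leaf 1 1, .leaf 2 1, .leaf 1 2, .node [.leaf 1 1, .leaf 1 1, .leaf 5 1,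
      .leaf 2 1, .leaf 1 2, .leaf 2 1, .leaf 1 2, .leaf 5 1, .leaf 1 1, .leaf 1 1, .node [.leaf 1 1, .leaf 1 1, .leaf 2 1, .leaf 2 1, .leaf 1 1,
      .leaf 1 1, .leaf 3 1, .node [.leaf 1 1, .leaf 1 1, .leaf 5 1, .leaf 2 1, .leaf 1 2, .leaf 2 1, .leaf 1 2, .leaf 5 1, .leaf 1 1, .leaf 1 1,
      .node [.leaf 2 1, .leaf 1 1, .leaf 1 1, .leaf 3 1, .leaf 1 1, .leaf 2 1, .node [.leaf 1 1, .leaf 1 1, .leaf 2 1, .leaf 5 1, .leaf 1 2, .leaf 5 1,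
      .leaf 1 2, .leaf 6 1, .leaf 1 1, .leaf 1 1, .leaf 2 1], .leaf 2 1, .leaf 1 1]], .leaf 2 1]], .leaf 1 2, .leaf 2 1, .leaf 1 1, .node [.leaf 1 1,
      .leaf 1 1, .leaf 5 1, .leaf 2 1, .leaf 1 2, .leaf 2 1, .leaf 1 2, .node [.leaf 1 1, .leaf 1 1, .leaf 2 1, .leaf 2 1, .leaf 1 1, .leaf 1 1,
      .leaf 3 1, .node [.leaf 1 1, .leaf 1 1, .node [.leaf 2 1, .leaf 1 1, .leaf 1 1, .leaf 3 1, .leaf 1 1, .leaf 2 1, .leaf 6 1, .leaf 2 1, .leaf 1 1],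
      .leaf 2 1, .leaf 1 2, .leaf 2 1, .leaf 1 2, .leaf 5 1, .leaf 1 1, .leaf 1 1, .leaf 5 1], .leaf 2 1], .leaf 1 1, .leaf 1 1, .leaf 5 1],
      .leaf 1 1], .leaf 2 2, .node [.leaf 1 1, .leaf 2 1, .leaf 1 1, .leaf 2 1, .leaf 1 2, .node [.leaf 1 1, .leaf 1 1, .leaf 5 1, .leaf 2 1, .leaf 1 2,
      .leaf 2 1, .leaf 1 2, .leaf 5 1, .leaf 1 1, .leaf 1 1, .node [.leaf 1 1, .leaf 1 1, .leaf 2 1, .leaf 2 1, .leaf 1 1, .leaf 1 1, .leaf 3 1,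
      .node [.leaf 1 1, .leaf 1 1, .leaf 5 1, .leaf 2 1, .leaf 1 2, .leaf 2 1, .leaf 1 2, .leaf 5 1, .leaf 1 1, .leaf 1 1, .node [.leaf 2 1, .leaf 1 1,
      .leaf 1 1, .leaf 3 1, .leaf 1 1, .leaf 2 1, .node [.leaf 1 1, .leaf 1 1, .leaf 2 1, .leaf 5 1, .leaf 1 2, .leaf 5 1, .leaf 1 2, .leaf 6 1,
      .leaf 1 1, .leaf 1 1, .leaf 2 1], .leaf 2 1, .leaf 1 1]], .leaf 2 1]], .leaf 1 2, .leaf 2 1, .leaf 1 1, .node [.leaf 1 1, .leaf 1 1, .leaf 5 1,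
      .leaf 2 1, .leaf 1 2, .leaf 2 1, .leaf 1 2, .node [.leaf 1 1, .leaf 1 1, .leaf 2 1, .leaf 2 1, .leaf 1 1, .leaf 1 1, .leaf 3 1, .node [.leaf 1 1,
      .leaf 1 1, .node [.leaf 2 1, .leaf 1 1, .leaf 1 1, .leaf 3 1, .leaf 1 1, .leaf 2 1, .leaf 6 1, .leaf 2 1, .leaf 1 1], .leaf 2 1, .leaf 1 2,
      .leaf 2 1, .leaf 1 2, .leaf 5 1, .leaf 1 1, .leaf 1 1, .leaf 5 1], .leaf 2 1], .leaf 1 1, .leaf 1 1, .leaf 5 1], .leaf 1 1], .leaf 2 1,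
      .node [.leaf 1 1, .leaf 2 1, .leaf 1 1, .leaf 2 1, .leaf 1 2, .leaf 4 1, .leaf 1 2, .leaf 2 1, .leaf 1 1, .leaf 4 1, .leaf 1 1], .leaf 2 1],
      .leaf 2 1, .leaf 2 2, .leaf 1 1, .leaf 1 2, .leaf 1 1, .leaf 1 1, .leaf 1 1, .leaf 1 1], .node [.leaf 2 2, .leaf 2 2, .node [.leaf 3 1, .leaf 2 2,
      .leaf 3 1, .leaf 2 2, .leaf 3 2, .node [.leaf 1 1, .leaf 3 1, .leaf 1 1, .leaf 3 1, .leaf 2 1, .node [.leaf 1 1, .leaf 1 1, .leaf 5 1, .leaf 3 1,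
      .leaf 1 2, .leaf 3 1, .leaf 1 2, .leaf 5 1, .leaf 1 1, .leaf 1 1, .node [.leaf 1 1, .leaf 1 1, .leaf 3 1, .leaf 2 2, .leaf 1 1, .leaf 1 1,
      .leaf 3 1, .leaf 2 2, .leaf 3 1]], .leaf 1 2, .leaf 3 1, .leaf 1 1, .leaf 2 2, .leaf 1 1], .leaf 2 2, .leaf 2 2, .leaf 3 1, .node [.leaf 1 1,
      .leaf 3 1, .leaf 1 1, .leaf 3 1, .leaf 2 1, .leaf 4 1, .leaf 1 2, .leaf 3 1, .leaf 1 1, .leaf 4 1, .leaf 1 1], .leaf 3 1], .node [.node [.leaf 1 1,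
      .leaf 3 1, .leaf 1 1, .leaf 2 2, .leaf 2 1, .leaf 3 1, .leaf 1 2, .leaf 3 1, .leaf 1 1, .leaf 2 2, .leaf 1 1], .leaf 2 2, .leaf 2 2,
      .leaf 2 2, .node [.leaf 1 1, .leaf 3 1, .leaf 1 1, .leaf 2 2, .leaf 2 1, .leaf 3 1, .leaf 1 2, .leaf 3 1, .leaf 1 1, .leaf 2 2, .leaf 1 1],
      .node [.leaf 1 1, .leaf 3 1, .leaf 1 1, .leaf 2 2, .leaf 2 1, .leaf 3 1, .leaf 1 2, .leaf 3 1, .leaf 1 1, .leaf 2 2, .leaf 1 1], .leaf 2 2,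
      .leaf 2 2, .leaf 2 2, .node [.leaf 1 1, .leaf 3 1, .leaf 1 1, .leaf 2 2, .leaf 2 1, .leaf 3 1, .leaf 1 2, .leaf 3 1, .leaf 1 1, .leaf 4 1,
      .leaf 1 1], .node [.leaf 1 1, .leaf 3 1, .leaf 1 1, .leaf 2 2, .leaf 2 1, .leaf 3 1, .leaf 1 2, .leaf 3 1, .leaf 1 1, .leaf 4 1, .leaf 1 1]],
      .node [.node [.leaf 1 1, .leaf 4 1, .leaf 1 1, .leaf 2 2, .leaf 2 1, .leaf 4 1, .leaf 1 2, .leaf 4 1, .leaf 1 1, .leaf 2 2, .leaf 1 1], .leaf 2 2,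
      .leaf 2 2, .leaf 2 2, .node [.leaf 1 1, .leaf 3 2, .leaf 1 1, .leaf 2 2, .leaf 2 1, .leaf 4 2, .leaf 1 2, .leaf 2 2, .leaf 1 1, .leaf 2 2,
      .leaf 1 1], .node [.leaf 1 1, .leaf 3 2, .leaf 1 1, .leaf 2 2, .leaf 2 1, .node [.leaf 1 1, .leaf 1 1, .leaf 5 1, .leaf 5 1, .leaf 1 2, .leaf 2 2,
      .leaf 1 2, .leaf 5 1, .leaf 1 1, .leaf 1 1, .leaf 3 2], .leaf 1 2, .leaf 2 2, .leaf 1 1, .leaf 2 2, .leaf 1 1], .leaf 2 2, .leaf 2 2,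
      .leaf 2 2, .leaf 3 2, .leaf 3 2], .leaf 1 1, .leaf 1 2, .leaf 1 1, .leaf 1 1, .leaf 1 1, .leaf 1 1], .leaf 1 1, .leaf 1 2, .leaf 1 1,
      .leaf 1 1, .leaf 1 1, .leaf 1 1]

theorem threeThreeFirst5 : chkT 3 6 1 threeThreeRest [] [1, 2, 5, 40, 16, 32] threeThreeTree5 = true := by decide +kernel

/-- witnesses -/
def threeThreeTree6 : Tr :=
  .node [.leaf 1 2, .node [.leaf 2 1, .node [.leaf 2 1, .leaf 2 1, .leaf 1 2, .leaf 2 1, .leaf 1 1, .node [.leaf 2 1, .leaf 3 1, .leaf 2 1, .leaf 2 1, .leaf 1 2,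
      .leaf 3 1, .leaf 1 1, .leaf 2 1, .leaf 4 1, .leaf 2 1, .leaf 3 1], .leaf 1 1, .leaf 2 1, .leaf 3 1, .leaf 3 1, .leaf 2 1], .leaf 2 1,
      .leaf 1 2, .leaf 1 2, .leaf 1 2, .leaf 1 1, .node [.leaf 2 1, .leaf 2 1, .leaf 3 1, .leaf 2 1, .leaf 1 1, .leaf 3 1, .leaf 1 1, .leaf 2 1,
      .leaf 3 1, .node [.leaf 2 1, .leaf 3 1, .leaf 2 1, .leaf 2 1, .leaf 1 2, .leaf 3 1, .leaf 1 1, .leaf 2 1, .leaf 4 1, .leaf 2 1, .leaf 3 1],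
      .leaf 2 1], .leaf 2 1, .node [.leaf 2 1, .leaf 2 1, .leaf 3 1, .leaf 2 1, .leaf 1 1, .leaf 3 1, .leaf 1 1, .leaf 2 1, .leaf 1 2, .leaf 3 1,
      .leaf 2 1], .leaf 2 1], .leaf 1 2, .leaf 1 2, .leaf 1 2, .leaf 1 2, .leaf 1 1, .node [.leaf 1 2, .node [.leaf 2 1, .leaf 2 1, .leaf 1 2, .node [.leaf 3 1,
      .leaf 2 1, .leaf 2 1, .leaf 2 1, .leaf 1 2, .leaf 3 1, .leaf 1 1, .leaf 2 1, .leaf 2 1, .node [.leaf 3 1, .leaf 2 1, .leaf 2 1, .leaf 2 1,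
      .leaf 1 1, .leaf 3 1, .leaf 1 1, .leaf 2 1, .leaf 2 1, .leaf 3 1, .leaf 5 1], .leaf 3 1], .leaf 1 1, .leaf 2 1, .leaf 1 1, .leaf 2 1,
      .leaf 3 1, .leaf 3 1, .leaf 2 1], .leaf 1 2, .leaf 2 1, .leaf 1 2, .leaf 1 2, .leaf 1 1, .leaf 2 1, .leaf 2 1, .leaf 2 1, .leaf 2 1],
      .leaf 1 2, .node [.leaf 2 1, .node [.leaf 3 1, .leaf 3 1, .leaf 1 2, .leaf 2 1, .leaf 1 1, .leaf 2 1, .leaf 1 1, .node [.leaf 2 1, .leaf 2 1, .leaf 4 1,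
      .leaf 1 2, .leaf 1 2, .leaf 3 1, .leaf 1 1, .leaf 3 1, .leaf 2 1, .leaf 2 1, .leaf 3 1], .leaf 3 1, .leaf 3 1, .leaf 1 2], .leaf 2 1,
      .leaf 2 1, .leaf 1 2, .leaf 1 2, .leaf 1 1, .leaf 2 1, .leaf 1 2, .leaf 2 1, .leaf 1 2], .leaf 1 2]

theorem threeThreeFirst6 : chkT 3 6 1 threeThreeRest [] [1, 2, 5, 47, 17, 33] threeThreeTree6 = true := by decide +kernel

/-- witnesses -/
def threeThreeTree7 : Tr :=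
  .node [.node [.leaf 1 1, .leaf 2 1, .leaf 1 1, .leaf 2 1, .leaf 1 2, .leaf 1 1, .leaf 2 2, .leaf 1 1, .node [.leaf 2 1, .leaf 1 1, .leaf 1 1, .leaf 2 1,
      .node [.leaf 3 1, .leaf 2 1, .leaf 2 1, .leaf 1 1, .leaf 1 2, .leaf 4 2, .leaf 3 2, .leaf 1 1, .leaf 1 1, .leaf 1 1, .leaf 1 1], .leaf 3 1,
      .leaf 2 2, .leaf 2 1, .leaf 3 1, .leaf 1 1, .leaf 1 1], .leaf 1 1, .leaf 2 1], .node [.leaf 1 1, .node [.leaf 2 1, .leaf 1 1, .leaf 1 1, .leaf 2 1,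
      .leaf 3 2, .node [.leaf 2 1, .leaf 3 1, .leaf 2 1, .leaf 1 1, .leaf 1 2, .leaf 3 1, .leaf 2 2, .leaf 1 1, .leaf 1 1, .leaf 1 1, .leaf 1 1],
      .leaf 2 2, .leaf 2 1, .leaf 3 1, .leaf 1 1, .leaf 1 1], .leaf 1 1, .node [.leaf 2 1, .leaf 1 1, .leaf 1 1, .leaf 2 1, .node [.leaf 2 1, .leaf 3 1,
      .leaf 2 1, .leaf 1 1, .leaf 1 2, .leaf 3 1, .leaf 2 2, .leaf 1 1, .leaf 1 1, .leaf 1 1, .leaf 1 1], .node [.leaf 2 1, .leaf 3 1, .leaf 2 1,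
      .leaf 1 1, .leaf 1 2, .leaf 3 1, .leaf 2 2, .leaf 1 1, .leaf 1 1, .leaf 1 1, .leaf 1 1], .leaf 2 2, .leaf 2 1, .node [.leaf 2 1, .leaf 3 1,
      .leaf 2 1, .leaf 1 1, .leaf 1 2, .leaf 3 1, .leaf 2 2, .leaf 1 1, .leaf 1 1, .leaf 1 1, .leaf 1 1], .leaf 1 1, .leaf 1 1], .leaf 1 2,
      .leaf 1 1, .leaf 2 2, .leaf 1 1, .leaf 2 1, .leaf 1 1, .leaf 2 1], .node [.leaf 1 1, .leaf 2 1, .leaf 1 1, .leaf 2 1, .leaf 1 2, .leaf 1 1,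
      .node [.node [.leaf 2 1, .leaf 2 1, .leaf 4 1, .leaf 1 1, .leaf 1 2, .leaf 4 1, .leaf 3 1, .leaf 1 1, .leaf 1 1, .leaf 1 1, .leaf 1 1], .leaf 1 1,
      .leaf 1 1, .node [.leaf 2 1, .leaf 2 1, .leaf 3 2, .leaf 1 1, .leaf 1 2, .leaf 3 2, .leaf 3 1, .leaf 1 1, .leaf 1 1, .leaf 1 1, .leaf 1 1],
      .node [.leaf 2 1, .leaf 2 1, .leaf 3 2, .leaf 1 1, .leaf 1 2, .leaf 3 2, .leaf 3 1, .leaf 1 1, .leaf 1 1, .leaf 1 1, .leaf 1 1], .leaf 3 2,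
      .leaf 3 1, .leaf 3 2, .leaf 3 2, .leaf 1 1, .leaf 1 1], .leaf 1 1, .leaf 2 1, .leaf 1 1, .node [.leaf 3 1, .leaf 1 1, .leaf 1 1, .node [.leaf 2 1,
      .leaf 2 1, .node [.leaf 3 1, .leaf 1 1, .leaf 1 1, .leaf 2 1, .leaf 2 2, .leaf 3 1, .leaf 4 2, .leaf 2 1, .leaf 2 1, .leaf 1 1, .leaf 1 1],
      .leaf 1 1, .leaf 1 2, .leaf 3 1, .leaf 2 2, .leaf 1 1, .leaf 1 1, .leaf 1 1, .leaf 1 1], .leaf 3 2, .leaf 3 1, .node [.leaf 2 1, .leaf 2 1,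
      .node [.leaf 3 1, .leaf 1 1, .leaf 1 1, .leaf 2 1, .leaf 2 2, .leaf 3 1, .leaf 4 1, .leaf 2 1, .leaf 2 1, .leaf 1 1, .leaf 1 1], .leaf 1 1,
      .leaf 1 2, .leaf 3 1, .leaf 2 2, .leaf 1 1, .leaf 1 1, .leaf 1 1, .leaf 1 1], .leaf 3 1, .node [.leaf 2 1, .leaf 2 1, .node [.leaf 3 1, .leaf 1 1,
      .leaf 1 1, .leaf 2 1, .leaf 2 2, .leaf 3 1, .leaf 4 2, .leaf 2 1, .leaf 2 1, .leaf 1 1, .leaf 1 1], .leaf 1 1, .leaf 1 2, .leaf 3 1,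
      .leaf 2 2, .leaf 1 1, .leaf 1 1, .leaf 1 1, .leaf 1 1], .leaf 1 1, .leaf 1 1]], .leaf 1 1, .leaf 1 2, .node [.leaf 1 1, .node [.leaf 3 1, .leaf 1 1,
      .leaf 1 1, .node [.leaf 3 1, .leaf 3 1, .node [.leaf 3 1, .leaf 1 1, .leaf 1 1, .node [.leaf 4 1, .leaf 1 1, .leaf 1 1, .leaf 2 1, .leaf 1 1, .leaf 5 1,
      .leaf 4 1, .leaf 2 1, .leaf 1 1], .leaf 3 2, .leaf 2 1, .leaf 2 2, .leaf 2 1, .leaf 2 1, .leaf 1 1, .leaf 1 1], .leaf 1 1, .leaf 1 2,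
      .leaf 3 1, .node [.leaf 3 1, .leaf 1 1, .leaf 1 1, .leaf 5 2, .leaf 3 2, .leaf 2 1, .leaf 2 2, .leaf 2 1, .leaf 2 1, .leaf 1 1, .leaf 1 1],
      .leaf 1 1, .leaf 1 1, .leaf 1 1, .leaf 1 1], .leaf 3 2, .leaf 2 1, .leaf 2 2, .leaf 2 1, .leaf 2 1, .leaf 1 1, .leaf 1 1], .leaf 1 1,
      .node [.node [.node [.leaf 3 1, .leaf 1 1, .leaf 1 1, .leaf 3 1, .leaf 4 2, .leaf 2 1, .leaf 2 2, .leaf 2 1, .leaf 2 1, .leaf 1 1, .leaf 1 1], .leaf 3 1,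
      .leaf 3 1, .leaf 1 1, .leaf 1 2, .leaf 3 1, .leaf 3 2, .leaf 1 1, .leaf 1 1, .leaf 1 1, .leaf 1 1], .leaf 1 1, .leaf 1 1, .node [.node [.leaf 3 1,
      .leaf 1 1, .leaf 1 1, .leaf 3 1, .leaf 4 2, .leaf 2 1, .leaf 2 2, .leaf 2 1, .leaf 2 1, .leaf 1 1, .leaf 1 1], .leaf 3 1, .leaf 3 1,
      .leaf 1 1, .leaf 1 2, .leaf 3 1, .leaf 3 2, .leaf 1 1, .leaf 1 1, .leaf 1 1, .leaf 1 1], .node [.node [.leaf 3 1, .leaf 1 1, .leaf 1 1, .leaf 3 1,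
      .leaf 4 1, .leaf 2 1, .leaf 2 2, .leaf 2 1, .leaf 2 1, .leaf 1 1, .leaf 1 1], .leaf 3 1, .leaf 3 1, .leaf 1 1, .leaf 1 2, .leaf 3 1,
      .leaf 3 2, .leaf 1 1, .leaf 1 1, .leaf 1 1, .leaf 1 1], .leaf 2 1, .leaf 2 2, .leaf 2 1, .leaf 2 1, .leaf 1 1, .leaf 1 1], .leaf 1 2,
      .leaf 1 1, .leaf 2 2, .leaf 1 1, .leaf 2 1, .leaf 1 1, .leaf 2 1], .node [.leaf 1 1, .leaf 2 2, .leaf 1 1, .leaf 2 2, .leaf 1 2, .leaf 1 1,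
      .leaf 2 1, .leaf 1 1, .leaf 2 2, .leaf 1 1, .node [.leaf 3 1, .leaf 1 1, .leaf 1 1, .leaf 2 2, .leaf 2 2, .leaf 3 1, .leaf 2 1, .leaf 3 1,
      .leaf 2 2, .leaf 1 1, .leaf 1 1]], .leaf 1 1, .leaf 1 1, .leaf 1 1, .leaf 1 1]

theorem threeThreeFirst7 : chkT 3 6 1 threeThreeRest [] [1, 3, 5, 56, 16, 32] threeThreeTree7 = true := by decide +kernel

/-- witnesses -/
def threeThreeTree8 : Tr :=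
  .node [.leaf 1 1, .node [.leaf 2 1, .node [.leaf 1 1, .leaf 1 1, .node [.leaf 2 1, .leaf 3 1, .leaf 2 1, .leaf 2 1, .leaf 3 2, .leaf 1 1, .leaf 1 2, .leaf 1 1,
      .leaf 1 1, .leaf 1 1, .leaf 1 1], .leaf 2 1, .leaf 1 2, .node [.leaf 2 1, .leaf 3 1, .leaf 2 1, .leaf 2 1, .leaf 3 2, .leaf 1 1, .leaf 1 2,
      .leaf 1 1, .leaf 1 1, .leaf 1 1, .leaf 1 1], .leaf 1 2, .leaf 2 1, .leaf 1 1, .leaf 1 1, .leaf 2 1], .leaf 2 1, .leaf 1 1, .leaf 1 2,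
      .leaf 1 1, .leaf 1 2, .node [.leaf 1 1, .leaf 1 1, .leaf 3 1, .leaf 2 1, .leaf 1 2, .leaf 3 1, .leaf 1 2, .leaf 2 1, .leaf 1 1, .leaf 1 1,
      .leaf 2 1], .leaf 2 1, .node [.leaf 1 1, .leaf 1 1, .leaf 3 1, .leaf 2 1, .leaf 1 2, .leaf 3 1, .leaf 1 2, .leaf 2 1, .leaf 1 1, .leaf 1 1,
      .leaf 2 1], .leaf 2 1], .leaf 1 1, .node [.node [.leaf 1 1, .leaf 1 1, .leaf 2 1, .node [.node [.leaf 3 1, .leaf 1 1, .leaf 1 1, .leaf 2 1, .leaf 2 2, .leaf 2 1,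
      .leaf 2 2, .leaf 3 1, .leaf 4 1, .leaf 1 1, .leaf 1 1], .leaf 2 1, .leaf 2 1, .leaf 2 1, .leaf 2 2, .leaf 1 1, .leaf 1 2, .leaf 1 1,
      .leaf 1 1, .leaf 1 1, .leaf 1 1], .leaf 1 2, .node [.leaf 4 1, .leaf 2 1, .leaf 2 1, .leaf 2 1, .leaf 2 2, .leaf 1 1, .leaf 1 2, .leaf 1 1,
      .leaf 1 1, .leaf 1 1, .leaf 1 1], .leaf 1 2, .node [.leaf 4 1, .leaf 2 1, .leaf 2 1, .leaf 2 1, .leaf 2 2, .leaf 1 1, .leaf 1 2, .leaf 1 1,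
      .leaf 1 1, .leaf 1 1, .leaf 1 1], .leaf 1 1, .leaf 1 1, .leaf 2 1], .node [.leaf 1 1, .leaf 1 1, .leaf 2 1, .node [.leaf 3 1, .leaf 2 1, .leaf 2 1,
      .leaf 2 1, .leaf 2 2, .leaf 1 1, .leaf 1 2, .leaf 1 1, .leaf 1 1, .leaf 1 1, .leaf 1 1], .leaf 1 2, .node [.leaf 3 1, .leaf 2 1, .leaf 2 1,
      .leaf 2 1, .leaf 2 2, .leaf 1 1, .leaf 1 2, .leaf 1 1, .leaf 1 1, .leaf 1 1, .leaf 1 1], .leaf 1 2, .node [.leaf 3 1, .leaf 2 1, .leaf 2 1,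
      .leaf 2 1, .leaf 2 2, .leaf 1 1, .leaf 1 2, .leaf 1 1, .leaf 1 1, .leaf 1 1, .leaf 1 1], .leaf 1 1, .leaf 1 1, .leaf 2 1], .node [.leaf 1 1,
      .leaf 1 1, .leaf 2 1, .node [.leaf 3 1, .leaf 2 1, .leaf 2 1, .leaf 2 1, .leaf 2 2, .leaf 1 1, .leaf 1 2, .leaf 1 1, .leaf 1 1, .leaf 1 1,
      .leaf 1 1], .leaf 1 2, .node [.leaf 3 1, .leaf 2 1, .leaf 2 1, .leaf 2 1, .leaf 2 2, .leaf 1 1, .leaf 1 2, .leaf 1 1, .leaf 1 1, .leaf 1 1,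
      .leaf 1 1], .leaf 1 2, .node [.leaf 3 1, .leaf 2 1, .leaf 2 1, .leaf 2 1, .leaf 2 2, .leaf 1 1, .leaf 1 2, .leaf 1 1, .leaf 1 1, .leaf 1 1,
      .leaf 1 1], .leaf 1 1, .leaf 1 1, .leaf 2 1], .leaf 1 1, .leaf 1 2, .leaf 1 1, .leaf 1 2, .node [.leaf 1 1, .leaf 1 1, .leaf 2 1, .node [.leaf 3 1,
      .leaf 2 1, .leaf 2 1, .leaf 2 1, .leaf 2 2, .leaf 1 1, .leaf 1 2, .leaf 1 1, .leaf 1 1, .leaf 1 1, .leaf 1 1], .leaf 1 2, .leaf 3 1,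
      .leaf 1 2, .leaf 3 1, .leaf 1 1, .leaf 1 1, .leaf 2 1], .node [.leaf 1 1, .leaf 1 1, .leaf 2 1, .node [.leaf 3 1, .leaf 2 1, .leaf 2 1, .leaf 2 1,
      .leaf 2 2, .leaf 1 1, .leaf 1 2, .leaf 1 1, .leaf 1 1, .leaf 1 1, .leaf 1 1], .leaf 1 2, .leaf 3 1, .leaf 1 2, .leaf 3 1, .leaf 1 1,
      .leaf 1 1, .leaf 2 1], .node [.leaf 1 1, .leaf 1 1, .leaf 2 1, .node [.node [.leaf 4 1, .leaf 1 1, .leaf 1 1, .leaf 2 1, .leaf 2 2, .leaf 2 1, .leaf 2 2,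
      .node [.leaf 4 1, .leaf 2 1, .leaf 2 1, .leaf 2 1, .node [.leaf 3 1, .leaf 4 1, .leaf 3 1, .leaf 2 1, .leaf 2 2, .leaf 1 1, .leaf 1 2, .leaf 1 1,
      .leaf 1 1, .leaf 1 1, .leaf 1 1], .leaf 3 1, .leaf 3 1, .leaf 3 1, .leaf 2 1], .leaf 4 1, .leaf 1 1, .leaf 1 1], .leaf 2 1, .leaf 2 1,
      .leaf 2 1, .leaf 2 2, .leaf 1 1, .leaf 1 2, .leaf 1 1, .leaf 1 1, .leaf 1 1, .leaf 1 1], .leaf 1 2, .leaf 3 1, .leaf 1 2, .leaf 3 1,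
      .leaf 1 1, .leaf 1 1, .leaf 2 1], .node [.leaf 1 1, .leaf 1 1, .leaf 2 1, .node [.node [.leaf 3 1, .leaf 1 1, .leaf 1 1, .leaf 2 1, .leaf 2 2, .leaf 2 1,
      .leaf 2 2, .leaf 3 1, .leaf 4 1, .leaf 1 1, .leaf 1 1], .leaf 2 1, .leaf 2 1, .leaf 2 1, .leaf 2 2, .leaf 1 1, .leaf 1 2, .leaf 1 1,
      .leaf 1 1, .leaf 1 1, .leaf 1 1], .leaf 1 2, .leaf 3 1, .leaf 1 2, .leaf 3 1, .leaf 1 1, .leaf 1 1, .leaf 2 1]], .leaf 1 2, .node [.node [.leaf 1 1,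
      .leaf 1 1, .leaf 2 1, .node [.node [.leaf 3 1, .leaf 1 1, .leaf 1 1, .leaf 3 1, .leaf 4 2, .leaf 2 1, .leaf 2 2, .leaf 2 1, .leaf 2 1, .leaf 1 1,
      .leaf 1 1], .node [.leaf 3 1, .leaf 1 1, .leaf 1 1, .leaf 3 1, .leaf 4 2, .leaf 2 1, .leaf 2 2, .leaf 2 1, .leaf 2 1, .leaf 1 1, .leaf 1 1],
      .node [.leaf 3 1, .leaf 1 1, .leaf 1 1, .leaf 3 1, .leaf 4 2, .leaf 2 1, .leaf 2 2, .leaf 2 1, .leaf 2 1, .leaf 1 1, .leaf 1 1], .leaf 3 1,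
      .leaf 3 2, .leaf 1 1, .leaf 1 2, .leaf 1 1, .leaf 1 1, .leaf 1 1, .leaf 1 1], .leaf 1 2, .leaf 2 1, .leaf 1 2, .leaf 2 1, .leaf 1 1,
      .leaf 1 1, .leaf 3 1], .node [.leaf 1 1, .leaf 1 1, .leaf 2 1, .node [.leaf 3 1, .leaf 3 1, .node [.leaf 3 1, .leaf 1 1, .leaf 1 1, .node [.leaf 4 1, .leaf 4 1,
      .leaf 5 1, .leaf 2 1, .leaf 2 1, .leaf 5 1, .leaf 4 1, .leaf 2 1, .leaf 2 1], .leaf 3 2, .leaf 2 1, .leaf 2 2, .leaf 2 1, .leaf 2 1,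
      .leaf 1 1, .leaf 1 1], .node [.leaf 3 1, .leaf 1 1, .leaf 1 1, .leaf 5 1, .leaf 3 2, .leaf 2 1, .leaf 2 2, .leaf 2 1, .leaf 2 1, .leaf 1 1,
      .leaf 1 1], .leaf 3 2, .leaf 1 1, .leaf 1 2, .leaf 1 1, .leaf 1 1, .leaf 1 1, .leaf 1 1], .leaf 1 2, .leaf 2 1, .leaf 1 2, .leaf 2 1,
      .leaf 1 1, .leaf 1 1, .node [.leaf 3 1, .leaf 3 1, .leaf 4 1, .node [.leaf 3 1, .leaf 1 1, .leaf 1 1, .leaf 4 1, .leaf 3 2, .leaf 2 1, .leaf 2 2,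
      .leaf 2 1, .leaf 2 1, .leaf 1 1, .leaf 1 1], .leaf 3 2, .leaf 1 1, .leaf 1 2, .leaf 1 1, .leaf 1 1, .leaf 1 1, .leaf 1 1]], .node [.leaf 1 1,
      .leaf 1 1, .leaf 2 1, .node [.leaf 3 1, .leaf 3 1, .node [.leaf 4 1, .leaf 1 1, .leaf 1 1, .leaf 3 1, .leaf 3 2, .leaf 2 1, .leaf 2 2, .leaf 2 1,
      .leaf 2 1, .leaf 1 1, .leaf 1 1], .leaf 3 1, .node [.leaf 4 1, .leaf 1 1, .leaf 1 1, .leaf 3 1, .leaf 3 2, .leaf 2 1, .leaf 2 2, .leaf 2 1,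
      .leaf 2 1, .leaf 1 1, .leaf 1 1], .leaf 1 1, .leaf 1 2, .leaf 1 1, .leaf 1 1, .leaf 1 1, .leaf 1 1], .leaf 1 2, .leaf 2 1, .leaf 1 2,
      .leaf 2 1, .leaf 1 1, .leaf 1 1, .leaf 3 1], .leaf 1 1, .leaf 1 2, .leaf 1 1, .leaf 1 2, .leaf 2 1, .leaf 2 1, .leaf 2 1, .leaf 2 1],
      .leaf 1 2, .node [.node [.leaf 1 1, .leaf 1 1, .leaf 3 1, .node [.node [.leaf 3 1, .leaf 1 1, .leaf 1 1, .leaf 2 1, .leaf 2 2, .node [.leaf 3 1, .leaf 2 1, .leaf 2 1,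
      .leaf 4 1, .leaf 2 1, .node [.leaf 3 1, .leaf 4 1, .leaf 3 1, .leaf 2 1, .leaf 2 2, .leaf 1 1, .leaf 1 2, .leaf 1 1, .leaf 1 1, .leaf 1 1,
      .leaf 1 1], .leaf 3 1, .leaf 2 1, .leaf 3 1], .leaf 3 2, .leaf 2 1, .leaf 2 1, .leaf 1 1, .leaf 1 1], .leaf 2 1, .leaf 2 1, .leaf 2 1,
      .leaf 2 2, .leaf 1 1, .leaf 1 2, .leaf 1 1, .leaf 1 1, .leaf 1 1, .leaf 1 1], .leaf 1 2, .leaf 2 1, .leaf 1 2, .leaf 2 1, .leaf 1 1,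
      .leaf 1 1, .leaf 2 1], .node [.leaf 1 1, .leaf 1 1, .node [.leaf 3 1, .leaf 2 1, .leaf 2 1, .leaf 2 1, .leaf 2 2, .leaf 1 1, .leaf 1 2, .leaf 1 1,
      .leaf 1 1, .leaf 1 1, .leaf 1 1], .node [.leaf 3 1, .leaf 2 1, .leaf 2 1, .leaf 2 1, .leaf 2 2, .leaf 1 1, .leaf 1 2, .leaf 1 1, .leaf 1 1,
      .leaf 1 1, .leaf 1 1], .leaf 1 2, .leaf 2 1, .leaf 1 2, .leaf 2 1, .leaf 1 1, .leaf 1 1, .leaf 2 1], .node [.leaf 1 1, .leaf 1 1, .leaf 3 1,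
      .node [.leaf 3 1, .leaf 2 1, .leaf 2 1, .leaf 2 1, .leaf 2 2, .leaf 1 1, .leaf 1 2, .leaf 1 1, .leaf 1 1, .leaf 1 1, .leaf 1 1], .leaf 1 2,
      .leaf 2 1, .leaf 1 2, .leaf 2 1, .leaf 1 1, .leaf 1 1, .leaf 2 1], .leaf 1 1, .leaf 1 2, .leaf 1 1, .leaf 1 2, .leaf 2 1, .leaf 2 1,
      .leaf 2 1, .leaf 2 1], .leaf 1 1, .node [.leaf 2 1, .node [.leaf 1 1, .leaf 1 1, .node [.leaf 2 1, .leaf 2 1, .node [.leaf 2 1, .leaf 1 1, .leaf 1 1, .leaf 2 1,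
      .leaf 3 2, .leaf 3 1, .leaf 2 2, .leaf 2 1, .leaf 5 1, .leaf 1 1, .leaf 1 1], .node [.leaf 2 1, .leaf 1 1, .leaf 1 1, .leaf 2 1, .leaf 3 2,
      .leaf 3 1, .leaf 2 2, .leaf 2 1, .leaf 5 1, .leaf 1 1, .leaf 1 1], .leaf 2 2, .leaf 1 1, .leaf 1 2, .leaf 1 1, .leaf 1 1, .leaf 1 1,
      .leaf 1 1], .leaf 2 1, .leaf 1 2, .leaf 2 1, .leaf 1 2, .node [.leaf 2 1, .leaf 2 1, .leaf 4 1, .node [.leaf 2 1, .leaf 1 1, .leaf 1 1, .leaf 2 1,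
      .leaf 3 2, .leaf 3 1, .leaf 2 2, .leaf 2 1, .leaf 5 1, .leaf 1 1, .leaf 1 1], .leaf 2 2, .leaf 1 1, .leaf 1 2, .leaf 1 1, .leaf 1 1,
      .leaf 1 1, .leaf 1 1], .leaf 1 1, .leaf 1 1, .node [.leaf 2 1, .leaf 2 1, .leaf 4 1, .node [.leaf 2 1, .leaf 1 1, .leaf 1 1, .leaf 2 1, .leaf 3 2,
      .leaf 3 1, .leaf 2 2, .leaf 2 1, .leaf 5 1, .leaf 1 1, .leaf 1 1], .leaf 2 2, .leaf 1 1, .leaf 1 2, .leaf 1 1, .leaf 1 1, .leaf 1 1,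
      .leaf 1 1]], .leaf 2 1, .leaf 1 1, .leaf 1 2, .leaf 1 1, .leaf 1 2, .leaf 2 1, .node [.leaf 1 1, .leaf 1 1, .node [.leaf 2 1, .leaf 2 1, .node [.leaf 2 1,
      .leaf 1 1, .leaf 1 1, .leaf 2 1, .leaf 4 2, .leaf 4 1, .leaf 2 2, .leaf 2 1, .leaf 5 1, .leaf 1 1, .leaf 1 1], .leaf 3 1, .leaf 2 2,
      .leaf 1 1, .leaf 1 2, .leaf 1 1, .leaf 1 1, .leaf 1 1, .leaf 1 1], .leaf 2 1, .leaf 1 2, .leaf 2 1, .leaf 1 2, .leaf 3 1, .leaf 1 1,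
      .leaf 1 1, .leaf 3 1], .leaf 2 1, .node [.leaf 1 1, .leaf 1 1, .node [.leaf 2 1, .leaf 2 1, .node [.leaf 2 1, .leaf 1 1, .leaf 1 1, .leaf 2 1, .leaf 3 2,
      .leaf 3 1, .leaf 2 2, .leaf 2 1, .leaf 5 1, .leaf 1 1, .leaf 1 1], .leaf 3 1, .leaf 2 2, .leaf 1 1, .leaf 1 2, .leaf 1 1, .leaf 1 1,
      .leaf 1 1, .leaf 1 1], .leaf 2 1, .leaf 1 2, .leaf 2 1, .leaf 1 2, .leaf 3 1, .leaf 1 1, .leaf 1 1, .leaf 3 1]], .leaf 1 1]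

theorem threeThreeFirst8 : chkT 3 6 1 threeThreeRest [] [1, 3, 5, 62, 17, 33] threeThreeTree8 = true := by decide +kernel

/-- witnesses -/
def threeThreeTree9 : Tr :=
  .node [.leaf 1 1, .leaf 1 1, .node [.leaf 1 1, .leaf 2 1, .leaf 1 1, .leaf 1 1, .leaf 2 2, .node [.leaf 1 1, .leaf 3 1, .leaf 1 1, .leaf 1 1, .node [.leaf 2 1,
      .leaf 2 1, .leaf 3 1, .leaf 2 1, .leaf 3 2, .leaf 1 1, .leaf 1 2, .leaf 1 1, .leaf 1 1, .leaf 1 1, .leaf 1 1], .leaf 3 1, .leaf 1 2,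
      .leaf 1 1, .leaf 3 1, .leaf 1 1, .node [.leaf 2 1, .leaf 2 1, .leaf 3 1, .leaf 2 1, .leaf 3 2, .leaf 1 1, .leaf 1 2, .leaf 1 1, .leaf 1 1,
      .leaf 1 1, .leaf 1 1]], .leaf 1 2, .leaf 1 1, .leaf 2 1, .leaf 1 1, .node [.leaf 1 1, .leaf 3 1, .leaf 1 1, .leaf 1 1, .leaf 3 2, .leaf 3 1,
      .leaf 1 2, .leaf 1 1, .node [.leaf 2 1, .leaf 2 1, .node [.leaf 3 1, .node [.leaf 3 1, .node [.leaf 6 1, .leaf 6 1, .leaf 7 1, .leaf 3 1, .leaf 3 2, .leaf 1 1,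
      .leaf 1 2, .leaf 1 1, .leaf 1 1, .leaf 1 1, .leaf 1 1], .leaf 3 1, .leaf 1 1, .leaf 1 1, .leaf 3 1, .node [.leaf 6 1, .leaf 6 1, .node [.leaf 3 1,
      .leaf 3 1, .leaf 4 1, .leaf 8 1, .leaf 3 1, .leaf 1 1, .leaf 1 1, .leaf 1 1, .leaf 1 1], .leaf 3 1, .leaf 3 2, .leaf 1 1, .leaf 1 2,
      .leaf 1 1, .leaf 1 1, .leaf 1 1, .leaf 1 1], .leaf 1 1, .leaf 1 1], .leaf 3 1, .leaf 2 1, .leaf 2 2, .leaf 3 1, .leaf 4 2, .leaf 2 1,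
      .leaf 2 1, .leaf 2 1, .leaf 2 1], .leaf 2 1, .leaf 3 2, .leaf 1 1, .leaf 1 2, .leaf 1 1, .leaf 1 1, .leaf 1 1, .leaf 1 1], .leaf 1 1,
      .leaf 3 1]], .node [.leaf 1 1, .node [.leaf 1 1, .leaf 3 1, .leaf 1 1, .leaf 1 1, .leaf 2 2, .node [.leaf 3 1, .leaf 2 1, .leaf 2 1, .leaf 2 1, .leaf 2 2,
      .leaf 1 1, .leaf 1 2, .leaf 1 1, .leaf 1 1, .leaf 1 1, .leaf 1 1], .leaf 1 2, .leaf 1 1, .leaf 2 1, .leaf 1 1, .leaf 2 1], .leaf 1 1,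
      .leaf 1 1, .leaf 2 2, .leaf 2 1, .leaf 1 2, .leaf 1 1, .node [.leaf 1 1, .node [.leaf 3 1, .leaf 2 1, .leaf 2 1, .leaf 2 1, .leaf 2 2, .leaf 1 1,
      .leaf 1 2, .leaf 1 1, .leaf 1 1, .leaf 1 1, .leaf 1 1], .leaf 1 1, .leaf 1 1, .leaf 2 2, .leaf 3 1, .leaf 1 2, .leaf 1 1, .leaf 2 1,
      .leaf 1 1, .leaf 2 1], .leaf 1 1, .node [.leaf 1 1, .leaf 3 1, .leaf 1 1, .leaf 1 1, .leaf 2 2, .leaf 3 1, .leaf 1 2, .leaf 1 1, .leaf 2 1,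
      .leaf 1 1, .leaf 2 1]], .leaf 1 2, .node [.leaf 1 1, .node [.leaf 1 1, .leaf 2 1, .leaf 1 1, .leaf 1 1, .leaf 3 2, .leaf 2 1, .leaf 1 2, .leaf 1 1,
      .leaf 2 1, .leaf 1 1, .node [.leaf 3 1, .leaf 3 1, .leaf 4 1, .node [.leaf 3 1, .leaf 2 1, .leaf 2 1, .leaf 4 1, .leaf 3 2, .leaf 2 1, .leaf 2 2,
      .leaf 2 1, .leaf 2 1, .leaf 3 1, .leaf 5 1], .leaf 3 2, .leaf 1 1, .leaf 1 2, .leaf 1 1, .leaf 1 1, .leaf 1 1, .leaf 1 1]], .leaf 1 1,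
      .leaf 1 1, .node [.leaf 1 1, .leaf 2 1, .leaf 1 1, .leaf 1 1, .node [.node [.leaf 5 1, .leaf 2 1, .leaf 2 1, .leaf 4 2, .leaf 4 1, .leaf 2 1, .leaf 2 2,
      .leaf 2 1, .leaf 2 1, .leaf 3 2, .leaf 5 1], .leaf 3 2, .leaf 3 2, .leaf 3 2, .leaf 4 2, .leaf 1 1, .leaf 1 2, .leaf 1 1, .leaf 1 1,
      .leaf 1 1, .leaf 1 1], .leaf 2 1, .leaf 1 2, .leaf 1 1, .leaf 2 1, .leaf 1 1, .leaf 3 2], .leaf 2 1, .leaf 1 2, .leaf 1 1, .leaf 2 1,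
      .leaf 1 1, .leaf 2 1], .leaf 1 2, .node [.leaf 1 1, .node [.leaf 1 1, .leaf 2 1, .leaf 1 1, .leaf 1 1, .leaf 2 2, .leaf 2 1, .leaf 1 2, .leaf 1 1,
      .leaf 3 1, .leaf 1 1, .leaf 2 1], .leaf 1 1, .leaf 1 1, .leaf 2 2, .node [.leaf 1 1, .leaf 2 1, .leaf 1 1, .leaf 1 1, .leaf 2 2, .leaf 2 1,
      .leaf 1 2, .leaf 1 1, .leaf 3 1, .leaf 1 1, .leaf 2 1], .leaf 1 2, .leaf 1 1, .leaf 2 1, .leaf 1 1, .leaf 2 1], .leaf 1 1, .leaf 1 1,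
      .node [.leaf 1 1, .leaf 2 1, .leaf 1 1, .leaf 1 1, .node [.leaf 1 1, .leaf 2 1, .leaf 1 1, .leaf 1 1, .leaf 2 2, .leaf 2 1, .leaf 1 2, .leaf 1 1,
      .node [.leaf 2 1, .leaf 4 1, .leaf 2 1, .leaf 3 2, .leaf 2 2, .leaf 1 1, .leaf 1 2, .leaf 1 1, .leaf 1 1, .leaf 1 1, .leaf 1 1], .leaf 1 1,
      .leaf 2 1], .node [.leaf 1 1, .leaf 2 1, .leaf 1 1, .leaf 1 1, .leaf 2 2, .leaf 2 1, .leaf 1 2, .leaf 1 1, .leaf 3 1, .leaf 1 1, .leaf 2 1],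
      .leaf 1 2, .leaf 1 1, .node [.leaf 1 1, .leaf 2 1, .leaf 1 1, .leaf 1 1, .leaf 2 2, .leaf 2 1, .leaf 1 2, .leaf 1 1, .leaf 3 1, .leaf 1 1,
      .leaf 2 1], .leaf 1 1, .leaf 2 1]]

theorem threeThreeFirst9 : chkT 3 6 1 threeThreeRest [] [1, 5, 3, 56, 32, 16] threeThreeTree9 = true := by decide +kernel

/-- witnesses -/
def threeThreeTree10 : Tr :=
  .node [.node [.leaf 2 1, .leaf 2 1, .node [.leaf 2 1, .leaf 2 1, .leaf 3 1, .leaf 1 1, .leaf 1 2, .node [.leaf 3 1, .leaf 2 1, .leaf 2 1, .leaf 1 1, .leaf 1 2,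
      .node [.leaf 2 1, .leaf 4 1, .leaf 2 1, .leaf 2 1, .leaf 3 2, .leaf 3 1, .leaf 2 2, .leaf 2 1, .leaf 4 1, .leaf 2 1, .node [.leaf 2 1, .leaf 1 1,
      .leaf 1 1, .leaf 1 1, .leaf 4 1, .leaf 4 1, .leaf 2 1, .leaf 1 1, .leaf 3 1]], .leaf 3 2, .leaf 1 1, .leaf 1 1, .leaf 1 1, .leaf 1 1],
      .leaf 2 2, .leaf 1 1, .leaf 1 1, .leaf 1 1, .leaf 1 1], .leaf 2 1, .node [.leaf 2 1, .leaf 2 1, .leaf 3 2, .leaf 1 1, .leaf 1 2, .node [.leaf 4 1,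
      .leaf 2 1, .leaf 2 1, .leaf 1 1, .leaf 1 2, .node [.leaf 2 1, .leaf 4 1, .leaf 2 1, .leaf 2 1, .leaf 4 2, .node [.leaf 2 1, .leaf 1 1, .leaf 1 1,
      .leaf 1 1, .leaf 4 1, .leaf 4 1, .leaf 2 1, .leaf 1 1, .leaf 6 1], .leaf 2 2, .leaf 2 1, .leaf 4 1, .leaf 2 1, .leaf 3 2], .leaf 3 2,
      .leaf 1 1, .leaf 1 1, .leaf 1 1, .leaf 1 1], .leaf 2 2, .leaf 1 1, .leaf 1 1, .leaf 1 1, .leaf 1 1], .node [.leaf 2 1, .leaf 2 1, .leaf 3 1,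
      .leaf 1 1, .leaf 1 2, .leaf 3 1, .leaf 2 2, .leaf 1 1, .leaf 1 1, .leaf 1 1, .leaf 1 1], .leaf 2 2, .leaf 2 1, .node [.leaf 2 1, .leaf 2 1,
      .node [.leaf 3 1, .leaf 2 1, .leaf 2 1, .leaf 1 1, .leaf 1 2, .node [.leaf 2 1, .node [.leaf 2 1, .leaf 1 1, .leaf 1 1, .leaf 1 1, .leaf 4 1, .leaf 3 1,
      .leaf 2 1, .leaf 1 1, .node [.leaf 3 1, .leaf 5 1, .leaf 3 1, .leaf 1 1, .leaf 1 2, .leaf 2 1, .leaf 2 2, .leaf 1 1, .leaf 1 1, .leaf 1 1,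
      .leaf 1 1]], .leaf 2 1, .leaf 2 1, .leaf 4 2, .leaf 4 1, .leaf 2 2, .leaf 2 1, .node [.leaf 2 1, .leaf 1 1, .leaf 1 1, .leaf 1 1, .leaf 4 1,
      .leaf 3 1, .leaf 2 1, .leaf 1 1, .node [.leaf 3 1, .leaf 5 1, .leaf 3 1, .leaf 1 1, .leaf 1 2, .leaf 2 1, .leaf 2 2, .leaf 1 1, .leaf 1 1,
      .leaf 1 1, .leaf 1 1]], .leaf 2 1, .node [.leaf 2 1, .leaf 1 1, .leaf 1 1, .leaf 1 1, .leaf 4 1, .leaf 3 1, .leaf 2 1, .leaf 1 1, .node [.leaf 3 1,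
      .leaf 5 1, .leaf 3 1, .leaf 1 1, .leaf 1 2, .leaf 2 1, .leaf 2 2, .leaf 1 1, .leaf 1 1, .leaf 1 1, .leaf 1 1]]], .leaf 3 2, .leaf 1 1,
      .leaf 1 1, .leaf 1 1, .leaf 1 1], .leaf 1 1, .leaf 1 2, .leaf 3 1, .leaf 2 2, .leaf 1 1, .leaf 1 1, .leaf 1 1, .leaf 1 1], .node [.leaf 2 1,
      .leaf 2 1, .leaf 3 1, .leaf 1 1, .leaf 1 2, .leaf 3 1, .leaf 2 2, .leaf 1 1, .leaf 1 1, .leaf 1 1, .leaf 1 1], .leaf 2 1], .leaf 1 1,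
      .leaf 1 1, .leaf 1 1, .leaf 1 2, .node [.node [.node [.node [.leaf 3 1, .leaf 2 1, .leaf 2 1, .leaf 3 1, .leaf 4 2, .leaf 2 1, .leaf 2 2, .leaf 2 1, .leaf 2 1,
      .leaf 3 1, .leaf 5 1], .leaf 4 1, .leaf 4 1, .leaf 1 1, .leaf 1 2, .leaf 3 1, .leaf 3 2, .leaf 1 1, .leaf 1 1, .leaf 1 1, .leaf 1 1],
      .leaf 2 1, .leaf 2 1, .leaf 1 1, .leaf 1 2, .leaf 2 1, .leaf 2 2, .leaf 1 1, .leaf 1 1, .leaf 1 1, .leaf 1 1], .node [.leaf 3 1, .leaf 2 1,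
      .leaf 2 1, .leaf 1 1, .leaf 1 2, .leaf 2 1, .leaf 2 2, .leaf 1 1, .leaf 1 1, .leaf 1 1, .leaf 1 1], .node [.leaf 3 1, .leaf 2 1, .leaf 2 1,
      .leaf 1 1, .leaf 1 2, .leaf 2 1, .leaf 2 2, .leaf 1 1, .leaf 1 1, .leaf 1 1, .leaf 1 1], .node [.node [.node [.leaf 3 1, .leaf 2 1, .leaf 2 1, .leaf 3 1,
      .leaf 4 2, .leaf 2 1, .leaf 2 2, .leaf 2 1, .leaf 2 1, .node [.node [.leaf 6 1, .leaf 6 1, .leaf 7 1, .leaf 1 1, .leaf 1 2, .node [.leaf 2 1, .leaf 4 1,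
      .leaf 2 1, .leaf 3 1, .leaf 3 1, .leaf 2 1, .leaf 3 1, .leaf 1 1, .leaf 1 1], .leaf 6 2, .leaf 1 1, .leaf 1 1, .leaf 1 1, .leaf 1 1],
      .leaf 1 1, .leaf 1 1, .leaf 1 1, .leaf 2 1, .leaf 3 1, .leaf 3 1, .leaf 1 1, .leaf 2 1], .leaf 3 1], .leaf 3 1, .leaf 3 1, .leaf 1 1,
      .leaf 1 2, .leaf 3 1, .leaf 3 2, .leaf 1 1, .leaf 1 1, .leaf 1 1, .leaf 1 1], .leaf 2 1, .leaf 2 1, .leaf 1 1, .leaf 1 2, .leaf 2 1,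
      .leaf 2 2, .leaf 1 1, .leaf 1 1, .leaf 1 1, .leaf 1 1], .node [.node [.node [.leaf 5 1, .leaf 2 1, .leaf 2 1, .leaf 4 1, .leaf 4 2, .leaf 2 1, .leaf 2 2,
      .leaf 2 1, .leaf 2 1, .leaf 3 2, .leaf 5 1], .leaf 4 1, .leaf 4 1, .leaf 1 1, .leaf 1 2, .leaf 4 1, .leaf 3 2, .leaf 1 1, .leaf 1 1,
      .leaf 1 1, .leaf 1 1], .leaf 2 1, .leaf 2 1, .leaf 1 1, .leaf 1 2, .leaf 2 1, .leaf 2 2, .leaf 1 1, .leaf 1 1, .leaf 1 1, .leaf 1 1],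
      .leaf 2 1, .leaf 2 2, .leaf 2 1, .leaf 2 1, .leaf 2 1, .leaf 2 1], .node [.leaf 2 2, .leaf 2 2, .node [.leaf 3 1, .node [.leaf 3 1, .leaf 3 1, .leaf 4 1,
      .leaf 1 1, .leaf 1 2, .leaf 4 1, .leaf 3 2, .leaf 1 1, .leaf 1 1, .leaf 1 1, .leaf 1 1], .leaf 3 1, .leaf 1 1, .leaf 1 2, .leaf 2 2,
      .leaf 2 1, .leaf 1 1, .leaf 1 1, .leaf 1 1, .leaf 1 1], .leaf 2 2, .leaf 2 2, .leaf 2 2, .leaf 2 1, .node [.leaf 2 2, .leaf 3 1, .leaf 3 1,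
      .leaf 1 1, .leaf 1 2, .leaf 3 1, .leaf 2 1, .leaf 1 1, .leaf 1 1, .leaf 1 1, .leaf 1 1], .leaf 2 2, .leaf 2 2, .node [.leaf 3 1, .leaf 3 1,
      .leaf 2 2, .leaf 1 1, .leaf 1 2, .leaf 3 1, .leaf 2 1, .leaf 1 1, .leaf 1 1, .leaf 1 1, .leaf 1 1]], .leaf 1 1, .leaf 1 1, .node [.leaf 2 1,
      .node [.leaf 3 1, .leaf 3 1, .node [.leaf 2 1, .leaf 2 1, .node [.leaf 2 1, .leaf 2 1, .leaf 3 1, .leaf 2 1, .leaf 3 2, .leaf 3 1, .leaf 2 2, .leaf 2 1,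
      .leaf 5 1, .leaf 3 1, .leaf 2 1], .leaf 1 1, .leaf 1 2, .leaf 3 1, .leaf 2 2, .leaf 1 1, .leaf 1 1, .leaf 1 1, .leaf 1 1], .leaf 1 1,
      .leaf 1 2, .leaf 2 1, .leaf 2 2, .leaf 1 1, .leaf 1 1, .leaf 1 1, .leaf 1 1], .leaf 2 1, .leaf 2 1, .node [.node [.leaf 2 1, .leaf 2 1, .leaf 4 1,
      .leaf 1 1, .leaf 1 2, .leaf 4 1, .leaf 2 2, .leaf 1 1, .leaf 1 1, .leaf 1 1, .leaf 1 1], .leaf 3 2, .leaf 3 2, .leaf 1 1, .leaf 1 2,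
      .leaf 2 1, .leaf 2 2, .leaf 1 1, .leaf 1 1, .leaf 1 1, .leaf 1 1], .node [.node [.leaf 2 1, .leaf 2 1, .leaf 3 1, .leaf 1 1, .leaf 1 2, .leaf 4 1,
      .leaf 2 2, .leaf 1 1, .leaf 1 1, .leaf 1 1, .leaf 1 1], .leaf 3 1, .leaf 3 1, .leaf 1 1, .leaf 1 2, .leaf 2 1, .leaf 2 2, .leaf 1 1,
      .leaf 1 1, .leaf 1 1, .leaf 1 1], .leaf 2 2, .leaf 2 1, .node [.node [.leaf 2 1, .leaf 2 1, .leaf 4 1, .leaf 1 1, .leaf 1 2, .leaf 4 1, .leaf 2 2,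
      .leaf 1 1, .leaf 1 1, .leaf 1 1, .leaf 1 1], .node [.leaf 2 1, .leaf 2 1, .leaf 4 1, .leaf 1 1, .leaf 1 2, .leaf 4 1, .leaf 2 2, .leaf 1 1,
      .leaf 1 1, .leaf 1 1, .leaf 1 1], .node [.leaf 2 1, .leaf 2 1, .node [.leaf 2 1, .leaf 2 1, .leaf 5 1, .leaf 2 1, .leaf 4 2, .leaf 4 1, .leaf 2 2,
      .leaf 2 1, .leaf 5 1, .node [.leaf 2 1, .leaf 1 1, .leaf 1 1, .leaf 1 1, .leaf 2 1, .leaf 3 1, .leaf 2 1, .leaf 1 1, .node [.leaf 3 1, .leaf 6 1,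
      .leaf 3 1, .leaf 1 1, .leaf 1 2, .leaf 5 1, .leaf 3 2, .leaf 1 1, .leaf 1 1, .leaf 1 1, .leaf 1 1]], .leaf 2 1], .leaf 1 1, .leaf 1 2,
      .node [.leaf 2 1, .leaf 2 1, .leaf 5 1, .leaf 2 1, .leaf 4 2, .leaf 4 1, .leaf 2 2, .leaf 2 1, .node [.leaf 2 1, .leaf 1 1, .leaf 1 1, .leaf 1 1,
      .leaf 2 1, .leaf 3 1, .leaf 2 1, .leaf 1 1, .node [.leaf 3 1, .leaf 5 1, .leaf 3 1, .leaf 1 1, .leaf 1 2, .leaf 5 1, .leaf 3 2, .leaf 1 1,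
      .leaf 1 1, .leaf 1 1, .leaf 1 1]], .leaf 5 1, .leaf 2 1], .leaf 2 2, .leaf 1 1, .leaf 1 1, .leaf 1 1, .leaf 1 1], .leaf 1 1, .leaf 1 2,
      .leaf 2 1, .leaf 2 2, .leaf 1 1, .leaf 1 1, .leaf 1 1, .leaf 1 1], .leaf 2 1, .node [.leaf 3 1, .leaf 3 1, .node [.leaf 2 1, .leaf 2 1, .node [.leaf 2 1,
      .leaf 2 1, .leaf 3 1, .leaf 2 1, .leaf 3 2, .leaf 3 1, .leaf 2 2, .leaf 2 1, .leaf 5 1, .leaf 3 1, .leaf 2 1], .leaf 1 1, .leaf 1 2,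
      .leaf 3 1, .leaf 2 2, .leaf 1 1, .leaf 1 1, .leaf 1 1, .leaf 1 1], .leaf 1 1, .leaf 1 2, .leaf 2 1, .leaf 2 2, .leaf 1 1, .leaf 1 1,
      .leaf 1 1, .leaf 1 1]], .node [.node [.leaf 2 1, .leaf 2 1, .leaf 3 1, .leaf 1 1, .leaf 1 2, .leaf 2 1, .node [.leaf 2 1, .leaf 4 2, .leaf 2 1, .leaf 1 1,
      .leaf 1 2, .leaf 3 1, .leaf 2 2, .leaf 1 1, .leaf 1 1, .leaf 1 1, .leaf 1 1], .leaf 1 1, .leaf 1 1, .leaf 1 1, .leaf 1 1], .leaf 2 1,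
      .leaf 2 1, .node [.leaf 2 1, .leaf 2 1, .node [.leaf 2 1, .leaf 3 1, .leaf 2 1, .leaf 1 1, .leaf 1 2, .leaf 3 1, .leaf 2 2, .leaf 1 1, .leaf 1 1,
      .leaf 1 1, .leaf 1 1], .leaf 1 1, .leaf 1 2, .leaf 2 1, .node [.leaf 2 1, .leaf 3 1, .leaf 2 1, .leaf 1 1, .leaf 1 2, .leaf 3 1, .leaf 2 2,
      .leaf 1 1, .leaf 1 1, .leaf 1 1, .leaf 1 1], .leaf 1 1, .leaf 1 1, .leaf 1 1, .leaf 1 1], .node [.leaf 2 1, .leaf 2 1, .leaf 3 2, .leaf 1 1,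
      .leaf 1 2, .leaf 2 1, .node [.leaf 2 1, .leaf 3 2, .leaf 2 1, .leaf 1 1, .leaf 1 2, .leaf 4 2, .leaf 2 2, .leaf 1 1, .leaf 1 1, .leaf 1 1,
      .leaf 1 1], .leaf 1 1, .leaf 1 1, .leaf 1 1, .leaf 1 1], .node [.leaf 2 1, .leaf 2 1, .leaf 3 1, .leaf 1 1, .leaf 1 2, .leaf 2 1, .leaf 3 2,
      .leaf 1 1, .leaf 1 1, .leaf 1 1, .leaf 1 1], .node [.leaf 2 1, .leaf 2 1, .node [.leaf 2 1, .leaf 4 1, .leaf 2 1, .leaf 1 1, .leaf 1 2, .leaf 3 2,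
      .leaf 3 1, .leaf 1 1, .leaf 1 1, .leaf 1 1, .leaf 1 1], .leaf 1 1, .leaf 1 2, .leaf 2 1, .leaf 3 1, .leaf 1 1, .leaf 1 1, .leaf 1 1,
      .leaf 1 1], .node [.leaf 2 1, .leaf 2 1, .leaf 3 1, .leaf 1 1, .leaf 1 2, .leaf 2 1, .leaf 3 2, .leaf 1 1, .leaf 1 1, .leaf 1 1, .leaf 1 1],
      .node [.leaf 2 1, .leaf 2 1, .node [.leaf 2 1, .leaf 3 1, .leaf 2 1, .leaf 1 1, .leaf 1 2, .node [.leaf 5 1, .leaf 2 1, .leaf 2 1, .leaf 4 1, .leaf 4 2,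
      .leaf 4 1, .leaf 4 2, .leaf 5 1, .node [.leaf 3 1, .leaf 1 1, .leaf 1 1, .leaf 1 1, .leaf 2 1, .leaf 3 1, .leaf 4 1, .leaf 1 1, .node [.leaf 3 1,
      .leaf 5 1, .leaf 3 1, .leaf 1 1, .leaf 1 2, .leaf 2 1, .leaf 2 2, .leaf 1 1, .leaf 1 1, .leaf 1 1, .leaf 1 1]], .leaf 2 1, .leaf 2 1],
      .leaf 2 2, .leaf 1 1, .leaf 1 1, .leaf 1 1, .leaf 1 1], .leaf 1 1, .leaf 1 2, .leaf 2 1, .leaf 3 2, .leaf 1 1, .leaf 1 1, .leaf 1 1,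
      .leaf 1 1], .leaf 2 1, .leaf 2 1]]

theorem threeThreeFirst10 : chkT 3 6 1 threeThreeRest [] [1, 5, 3, 62, 33, 17] threeThreeTree10 = true := by decide +kernel

theorem baseThreeThree [Fact (Nat.Prime 3)] {G : Type*} [Group G] [Finite G] [DistribMulAction G (V 3 3)]
    (hG : ¬3 ∣ Nat.card G) (hf : ∀ g : G, (∀ x : V 3 3, g • x = x) → g = 1)
    (hnorm : ∀ (g : G) b c, ∃ s b' c', ∀ x : V 3 3, g • mon 1 b c x = mon s b' c' (g • x)) :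
    ∃ v w : V 3 3, ∀ g : G, g • v = v → g • w = w → g = 1 :=
  exists_base_of_parts (by norm_num) hG hf hnorm dataThreeThree [[1, 2, 4, 14, 17, 33], [1, 4, 2, 8, 32, 16], [1, 4, 2, 14, 33, 17], [1, 3, 4, 24, 16, 32], [1, 3, 4, 31, 17, 33], [1, 2, 5, 40, 16, 32], [1, 2, 5, 47, 17, 33], [1, 3, 5, 56, 16, 32], [1, 3, 5, 62, 17, 33], [1, 5, 3, 56, 32, 16], [1, 5, 3, 62, 33, 17]] threeThreeRest 1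
    (.cons threeThreePart0 (.cons threeThreePart1 (.cons threeThreePart2 (.cons threeThreePart3 (.cons threeThreePart4 (.cons threeThreePart5 (.cons threeThreePart6 (.cons threeThreePart7 (.cons threeThreePart8 (.cons threeThreePart9 (.nil)))))))))))
    (List.forall_iff_forall_mem.2 (by
      simp only [List.forall_mem_cons]
      exact ⟨⟨_, threeThreeFirst0⟩, ⟨_, threeThreeFirst1⟩, ⟨_, threeThreeFirst2⟩, ⟨_, threeThreeFirst3⟩, ⟨_, threeThreeFirst4⟩, ⟨_, threeThreeFirst5⟩, ⟨_, threeThreeFirst6⟩, ⟨_, threeThreeFirst7⟩, ⟨_, threeThreeFirst8⟩, ⟨_, threeThreeFirst9⟩, ⟨_, threeThreeFirst10⟩, by simp⟩))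

end CfsgLib.BaseCop.Small
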