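import Cfsg.Agent.Lib.BaseCop.Small.Search

/-!
The certificate for p = 3, dimension 2.
-/

set_option autoImplicit false

namespace CfsgLib.BaseCop.Small

/-- the pairs -/
def dataThreeTwo : List (List ℕ × List ℕ) :=
  [([0, 1, 0, 1], []),
    ([0, 1, 0, 1], [13, 10]),
    ([0, 1, 0, 1], [10, 13])]

set_option maxRecDepth 100000 in
set_option maxHeartbeats 2000000 in
theorem checkThreeTwo : check 3 2 1 [2, 2, 2, 5, 7] dataThreeTwo = true := by decide +kernel

end CfsgLib.BaseCop.Small
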