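import Cfsg.Agent.Lib.BaseCop.Small.Mon

/-!
Linear maps normalising the frame, and their bit matrices.
-/

set_option autoImplicit false

namespace CfsgLib.BaseCop.Small

/-- apply a bit matrix -/
def app : List ℕ → ℕ → ℕ
  | [], _ => 0
  | a :: l, x => (if x.testBit 0 then a else 0) ^^^ app l (x / 2)

/-- product of bit matrices -/
def mulL (A B : List ℕ) : List ℕ := B.map (app A)

/-- identity -/
def idL (m : ℕ) : List ℕ := (List.range m).map (2 ^ ·)

/-- powers -/
def powL (m : ℕ) (L : List ℕ) : ℕ → List ℕ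
  | 0 => idL m
  | n + 1 => mulL (powL m L n) L

/-- validity -/
structure Valid (m : ℕ) (L : List ℕ) : Prop where
  len : L.length = m
  bound : ∀ a ∈ L, a < 2 ^ m

theorem app_zero : ∀ L, app L 0 = 0
  | [] => rfl
  | a :: l => by simp [app, app_zero l]

theorem div2_xor (x y : ℕ) : (x ^^^ y) / 2 = (x / 2) ^^^ (y / 2) :=
  Nat.eq_of_testBit_eq fun i => by simp [Nat.testBit_div_two]

theorem app_xor : ∀ L x y, app L (x ^^^ y) = app L x ^^^ app L y
  | [], _, _ => by simp [app]
  | a :: l, x, y => by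
    simp only [app, div2_xor, app_xor l, Nat.testBit_xor]
    cases x.testBit 0 <;> cases y.testBit 0 <;>
      simp [Nat.xor_comm, Nat.xor_left_comm, ← Nat.xor_assoc]

theorem app_lt {m : ℕ} : ∀ L : List ℕ, (∀ a ∈ L, a < 2 ^ m) → ∀ x, app L x < 2 ^ m
  | [], _, _ => Nat.two_pow_pos m
  | a :: l, h, x => by
    refine Nat.xor_lt_two_pow ?_ (app_lt l (fun b hb => h b (List.mem_cons_of_mem _ hb)) _)
    split
    · exact h a (List.mem_cons_self ..)
    · exact Nat.two_pow_pos m

theorem app_mulL (A : List ℕ) : ∀ B x, app (mulL A B) x = app A (app B x)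
  | [], _ => by simp [mulL, app, app_zero]
  | b :: l, x => by
    have := app_mulL A l (x / 2)
    simp only [mulL] at this ⊢
    simp only [List.map_cons, app, this, app_xor]
    cases x.testBit 0 <;> simp [app_zero]

theorem Valid.mul {m : ℕ} {A B : List ℕ} (hA : Valid m A) (hB : Valid m B) : Valid m (mulL A B) :=
  ⟨by rw [mulL, List.length_map]; exact hB.len, fun a ha => by
    obtain ⟨b, -, rfl⟩ := List.mem_map.1 ha
    exact app_lt A hA.bound b⟩

theorem app_map_pow : ∀ (m : ℕ) (π : ℕ → ℕ), (∀ x y, x < 2 ^ m → y < 2 ^ m → π (x ^^^ y) = π x ^^^ π y) →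
    ∀ x < 2 ^ m, app ((List.range m).map fun i => π (2 ^ i)) x = π x
  | 0, π, h, x, hx => by
    have hx0 : x = 0 := by simpa using hx
    have h0 := h 0 0 (Nat.two_pow_pos 0) (Nat.two_pow_pos 0)
    rw [Nat.xor_self, Nat.xor_self] at h0
    simp [hx0, app, h0]
  | m + 1, π, h, x, hx => by
    have h0 := h 0 0 (Nat.two_pow_pos _) (Nat.two_pow_pos _)
    rw [Nat.xor_self, Nat.xor_self] at h0
    have hd : ∀ a b, 2 * (a ^^^ b) = 2 * a ^^^ 2 * b := fun a b => Nat.eq_of_testBit_eq fun i => by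
      cases i with
      | zero => simp [Nat.testBit_zero]
      | succ i => simp [Nat.testBit_succ, div2_xor]
    have hx2 : x / 2 < 2 ^ m := by rw [pow_succ] at hx; omega
    have hdec : x = (if x.testBit 0 then 1 else 0) ^^^ 2 * (x / 2) := Nat.eq_of_testBit_eq fun i => by
      cases i with
      | zero => cases hb : x.testBit 0 <;> simp_all [Nat.testBit_zero]
      | succ i => cases hb : x.testBit 0 <;> simp_all [Nat.testBit_succ, div2_xor, Nat.testBit_zero]
    have ih := app_map_pow m (fun y => π (2 * y)) (fun a b ha hb => by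
      rw [hd, h _ _ (by rw [pow_succ]; omega) (by rw [pow_succ]; omega)]) _ hx2
    rw [List.range_succ_eq_map, List.map_cons, List.map_map]
    simp only [app, pow_zero, Function.comp_def]
    rw [show (List.range m).map (fun i => π (2 ^ (i + 1))) = (List.range m).map (fun i => π (2 * 2 ^ i)) from
      List.map_congr_left fun i _ => by rw [pow_succ'], ih]
    conv_rhs => rw [hdec, h _ _ (by split <;> rw [pow_succ] <;> have := Nat.two_pow_pos m <;> omega)
      (by rw [pow_succ]; omega)]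
    split <;> simp [h0]

theorem app_idL {m x : ℕ} (hx : x < 2 ^ m) : app (idL m) x = x :=
  app_map_pow m id (fun _ _ _ _ => rfl) x hx

theorem valid_idL (m : ℕ) : Valid m (idL m) :=
  ⟨by simp [idL], fun a ha => by
    obtain ⟨i, hi, rfl⟩ := List.mem_map.1 ha
    exact Nat.pow_lt_pow_right one_lt_two (List.mem_range.1 hi)⟩

theorem Valid.ext {m : ℕ} {A B : List ℕ} (hA : Valid m A) (hB : Valid m B)
    (h : ∀ x < 2 ^ m, app A x = app B x) : A = B := by
  have key : ∀ (L : List ℕ) (i : ℕ) (hi : i < L.length), app L (2 ^ i) = L[i] := by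
    intro L
    induction L with
    | nil => intro i hi; exact absurd hi (by simp)
    | cons a l ih =>
      intro i hi
      cases i with
      | zero => simp [app, app_zero]
      | succ i =>
        have : (2 ^ (i + 1)) / 2 = 2 ^ i := by rw [pow_succ]; omega
        simp [app, this, Nat.testBit_two_pow_of_ne (show i + 1 ≠ 0 by omega), ih i (by simpa using hi)]
  refine List.ext_getElem (hA.len.trans hB.len.symm) fun i h1 h2 => ?_
  rw [← key A i h1, ← key B i h2]
  exact h _ (Nat.pow_lt_pow_right one_lt_two (hA.len ▸ h1))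

variable {p d : ℕ}

/-- linear endomorphisms -/
abbrev End (p d : ℕ) : Type := V p d →ₗ[ZMod p] V p d

/-- `f` permutes the frame by the matrix `L` -/
def Img (f : End p d) (L : List ℕ) : Prop :=
  ∀ x < 2 ^ (2 * d), ∃ s : ZMod p, ∀ z, f (M p d x z) = s • M p d (app L x) (f z)

theorem Img.one : Img (1 : End p d) (idL (2 * d)) := fun x hx =>
  ⟨1, fun z => by simp [app_idL hx]⟩

theorem Img.mul {f g : End p d} {A B : List ℕ} (hf : Img f A) (hg : Img g B) (hB : Valid (2 * d) B) :
    Img (f * g) (mulL A B) := by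
  intro x hx
  obtain ⟨s, hs⟩ := hg x hx
  obtain ⟨t, ht⟩ := hf _ (app_lt B hB.bound x)
  refine ⟨s * t, fun z => ?_⟩
  rw [app_mulL, Module.End.mul_apply, hs, map_smul, ht, smul_smul, Module.End.mul_apply]

theorem Img.pow {f : End p d} {A : List ℕ} (hf : Img f A) (hA : Valid (2 * d) A) :
    ∀ n, Img (f ^ n) (powL (2 * d) A n) ∧ Valid (2 * d) (powL (2 * d) A n)
  | 0 => ⟨by rw [pow_zero]; exact Img.one, valid_idL _⟩
  | n + 1 => by
    obtain ⟨h1, h2⟩ := Img.pow hf hA n
    exact ⟨by rw [pow_succ]; exact h1.mul hf hA, h2.mul hA⟩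

theorem exists_ne_zero [Fact p.Prime] : ∃ z : V p d, z ≠ 0 := ⟨del p d 0, del_ne_zero 0⟩

theorem Img.scalar_ne [Fact p.Prime] {f : End p d} (hf : Function.Injective f) {x y : ℕ} {s : ZMod p}
    (h : ∀ z, f (M p d x z) = s • M p d y (f z)) : s ≠ 0 := by
  intro e
  have h1 := h (del p d 0)
  rw [e, zero_smul, ← map_zero f] at h1
  have h2 := hf h1
  refine del_ne_zero (p := p) (d := d) 0 (M_injective x ?_)
  rw [h2]
  exact (ext_vec fun a _ => by simp [M_apply]).symm

theorem Img.unique [Fact p.Prime] (hp : p ≠ 2) {f : End p d} (hf : Function.Bijective f) {A B : List ℕ}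
    (hA : Valid (2 * d) A) (hB : Valid (2 * d) B) (h1 : Img f A) (h2 : Img f B) : A = B := by
  refine hA.ext hB fun x hx => ?_
  obtain ⟨s, hs⟩ := h1 x hx
  obtain ⟨t, ht⟩ := h2 x hx
  refine code_unique hp (app_lt A hA.bound x) (app_lt B hB.bound x) (t := t) (Img.scalar_ne hf.1 hs) fun z => ?_
  obtain ⟨y, rfl⟩ := hf.2 z
  rw [← hs, ht]

/-- every normalising map has a matrix -/
theorem exists_img [Fact p.Prime] (hp : p ≠ 2) (f : End p d) (hf : Function.Bijective f)
    (h : ∀ b c, ∃ s b' c', ∀ z, f (mon 1 b c z) = mon s b' c' (f z)) :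
    ∃ L, Valid (2 * d) L ∧ Img f L := by
  have hex : ∀ x, ∃ y, y < 2 ^ (2 * d) ∧ ∃ s : ZMod p, ∀ z, f (M p d x z) = s • M p d y (f z) := by
    intro x
    obtain ⟨s, b', c', hs⟩ := h (vec d x) (vec d (x >>> d))
    obtain ⟨β, hβ, rfl⟩ := vec_surj b'
    obtain ⟨γ, hγ, rfl⟩ := vec_surj c'
    refine ⟨2 ^ d * γ + β, ?_, s, fun z => (hs z).trans ?_⟩
    · calc 2 ^ d * γ + β < 2 ^ d * γ + 2 ^ d := by omega
        _ = 2 ^ d * (γ + 1) := by ring
        _ ≤ 2 ^ d * 2 ^ d := Nat.mul_le_mul_left _ hγ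
        _ = 2 ^ (2 * d) := by rw [two_mul, pow_add]
    · have e1 : (2 ^ d * γ + β) >>> d = γ := by
        rw [Nat.shiftRight_eq_div_pow, Nat.mul_add_div (Nat.two_pow_pos d), Nat.div_eq_of_lt hβ, add_zero]
      have e2 : vec d (2 ^ d * γ + β) = vec d β := by
        rw [← vec_mod, Nat.mul_add_mod, Nat.mod_eq_of_lt hβ]
      funext a
      simp [M, mon, e1, e2, mul_assoc]
  choose π hπ s hs using hex
  have hadd : ∀ x y, x < 2 ^ (2 * d) → y < 2 ^ (2 * d) → π (x ^^^ y) = π x ^^^ π y := by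
    intro x y hx hy
    have hsg : sg p (bdot d y (x >>> d)) ≠ 0 := fun e => by
      have := sg_sq p (bdot d y (x >>> d))
      rw [e] at this; simp at this
    refine code_unique hp (hπ _) (Nat.xor_lt_two_pow (hπ x) (hπ y))
      (s := sg p (bdot d y (x >>> d)) * s (x ^^^ y))
      (t := s x * (s y * sg p (bdot d (π y) (π x >>> d))))
      (mul_ne_zero hsg (Img.scalar_ne hf.1 (hs _))) fun z => ?_
    obtain ⟨w, rfl⟩ := hf.2 z
    have h1 : f (M p d x (M p d y w)) = sg p (bdot d y (x >>> d)) • f (M p d (x ^^^ y) w) := by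
      rw [M_mul, map_smul]
    rw [hs, hs, hs, M_smul, M_mul, smul_smul, smul_smul, smul_smul, mul_assoc] at h1
    exact h1.symm
  refine ⟨(List.range (2 * d)).map fun i => π (2 ^ i), ⟨by simp, fun a ha => ?_⟩,
    fun x hx => ⟨s x, fun z => ?_⟩⟩
  · obtain ⟨i, -, rfl⟩ := List.mem_map.1 ha
    exact hπ _
  · rw [app_map_pow _ π hadd x hx]
    exact hs x z

/-- the matrix of the inverse map -/
theorem Img.symm [Fact p.Prime] {h hi : End p d} (h1 : h * hi = 1) (h2 : hi * h = 1) {A B : List ℕ}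
    (hA : Img h A) (hB : Valid (2 * d) B) (hAB : mulL A B = idL (2 * d)) :
    Img hi B := by
  intro x hx
  have hinj : Function.Injective h := fun a b e => by
    have ea := LinearMap.congr_fun h2 a
    have eb := LinearMap.congr_fun h2 b
    simp only [Module.End.mul_apply, Module.End.one_apply] at ea eb
    rw [← ea, e, eb]
  obtain ⟨s, hs⟩ := hA _ (app_lt B hB.bound x)
  have hsx : app A (app B x) = x := by rw [← app_mulL, hAB, app_idL hx]
  refine ⟨s⁻¹, fun z => hinj ?_⟩
  have e : ∀ u, h (hi u) = u := fun u => LinearMap.congr_fun h1 u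
  rw [e, map_smul, hs, e, hsx, smul_smul, inv_mul_cancel₀ (Img.scalar_ne hinj hs), one_smul]

end CfsgLib.BaseCop.Small
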