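import Cfsg.Agent.Lib.BaseCop.Small.Codes

/-!
All normalising maps fixing a point function and a second vector, listed.
-/

set_option autoImplicit false

namespace CfsgLib.BaseCop.Small

/-- sign as a natural number -/
def sgn (p : ℕ) (b : Bool) : ℕ := if b then p - 1 else 1

/-- one step of the listing -/
def stepT (T : List ℕ) (v : ℕ) : List ℕ := T ++ T.map (· ^^^ v)

/-- one step of the listing -/
def stepE (p d : ℕ) (E : List ℕ) (s bil : ℕ) : List ℕ :=
  E ++ (List.range E.length).map fun a => s * E.getD a 0 * sgn p (bdot d bil a) % p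

/-- the new entries agree with `w` -/
def okW (p : ℕ) (w T E : List ℕ) (b : ℕ) : Bool :=
  (List.range b).all fun a => w.getD (T.getD (b + a) 0) 0 % p == E.getD (b + a) 0 * w.getD (b + a) 0 % p

/-- all completions -/
def sols (p d : ℕ) (w : List ℕ) : ℕ → List ℕ → List ℕ → List (List ℕ × List ℕ)
  | 0, T, E => [(T, E)]
  | k + 1, T, E =>
    ((List.range (2 ^ d)).filter fun v => !T.contains v).flatMap fun v =>
      (List.range' 1 (p - 1)).flatMap fun s =>
        (List.range T.length).flatMap fun bil =>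
          if okW p w (stepT T v) (stepE p d E s bil) T.length then
            sols p d w k (stepT T v) (stepE p d E s bil)
          else []

/-- the matrix of a monomial map from its tables -/
def extract (p d : ℕ) (T E : List ℕ) : List ℕ :=
  ((List.range d).map fun i => ((List.range (2 ^ d)).find? fun b =>
      (List.range (2 ^ d)).all fun a => bdot d b (T.getD a 0) == bdot d (2 ^ i) a).getD 0) ++
  ((List.range d).map fun i => 2 ^ d * T.getD (2 ^ i) 0 + ((List.range (2 ^ d)).find? fun b =>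
      (List.range (2 ^ d)).all fun a => E.getD (2 ^ i ^^^ a) 0 % p ==
        E.getD (2 ^ i) 0 * E.getD a 0 * sgn p (bdot d b (T.getD a 0)) % p).getD 0)

theorem sgn_cast {p : ℕ} (hp : 1 ≤ p) (b : Bool) : ((sgn p b : ℕ) : ZMod p) = sg p b := by
  cases b <;> simp [sgn, sg, Nat.cast_sub hp]

theorem xor_pow_add {k a : ℕ} (ha : a < 2 ^ k) : 2 ^ k + a = 2 ^ k ^^^ a := by
  refine Nat.eq_of_testBit_eq fun i => ?_
  rw [Nat.testBit_xor]
  rcases lt_trichotomy i k with h | h | h
  · rw [Nat.testBit_two_pow_add_gt h, Nat.testBit_two_pow_of_ne (by omega), Bool.false_xor]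
  · subst h
    rw [Nat.testBit_two_pow_add_eq, Nat.testBit_two_pow_self, Nat.testBit_lt_two_pow ha]
    rfl
  · have h2 : 2 ^ (k + 1) ≤ 2 ^ i := Nat.pow_le_pow_right two_pos h
    have e1 : 2 ^ k + a < 2 ^ i := by rw [pow_succ] at h2; omega
    have e2 : a < 2 ^ i := by rw [pow_succ] at h2; omega
    rw [Nat.testBit_lt_two_pow e1, Nat.testBit_lt_two_pow e2, Nat.testBit_two_pow_of_ne (by omega)]
    rfl

theorem exists_bil (d : ℕ) : ∀ k ≤ d, ∀ F : ℕ → Bool,
    (∀ a b, a < 2 ^ k → b < 2 ^ k → F (a ^^^ b) = xor (F a) (F b)) →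
    ∃ bil < 2 ^ k, ∀ a < 2 ^ k, F a = bdot d bil a
  | 0, _, F, h => by
    refine ⟨0, Nat.one_pos, fun a ha => ?_⟩
    have ha0 : a = 0 := by simpa using ha
    have h0 := h 0 0 Nat.one_pos Nat.one_pos
    rw [Nat.xor_self, Bool.xor_self] at h0
    rw [ha0, h0, bdot_zero_right]
  | k + 1, hk, F, h => by
    have hlt : ∀ {a}, a < 2 ^ k → a < 2 ^ (k + 1) := fun {a} ha => by rw [pow_succ]; omega
    obtain ⟨bil, hbil, hF⟩ := exists_bil d k (by omega) F fun a b ha hb => h a b (hlt ha) (hlt hb)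
    have hpk : 2 ^ k < 2 ^ (k + 1) := Nat.pow_lt_pow_right one_lt_two (by omega)
    refine ⟨bil ^^^ (if F (2 ^ k) then 2 ^ k else 0), Nat.xor_lt_two_pow (hlt hbil) (by split <;> omega),
      fun a ha => ?_⟩
    have hz : ∀ x, x < 2 ^ k → bdot d (2 ^ k) x = false := fun x hx => by
      rw [bdot_comm, bdot_two_pow d x k (by omega), Nat.testBit_lt_two_pow hx]
    rw [bdot_xor_left]
    by_cases hlow : a < 2 ^ k
    · rw [hF a hlow]
      split <;> simp [hz a hlow, bdot_comm d 0, bdot_zero_right]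
    · obtain ⟨b, hb, rfl⟩ : ∃ b < 2 ^ k, a = 2 ^ k ^^^ b :=
        ⟨a - 2 ^ k, by rw [pow_succ] at ha; omega,
          by rw [← xor_pow_add (by rw [pow_succ] at ha; omega)]; omega⟩
      rw [h _ _ hpk (hlt hb), bdot_xor_right, bdot_xor_right, hF b hb]
      have e1 : bdot d bil (2 ^ k) = false := by
        rw [bdot_two_pow d bil k (by omega), Nat.testBit_lt_two_pow hbil]
      have e2 : bdot d (2 ^ k) (2 ^ k) = true := by
        rw [bdot_two_pow d _ k (by omega), Nat.testBit_two_pow_self]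
      cases hFk : F (2 ^ k) <;> simp [e1, e2, hz b hb, bdot_comm d 0, bdot_zero_right]

theorem getD_map_range {α : Type*} (f : ℕ → α) {n a : ℕ} (h : a < n) (e : α) :
    ((List.range n).map f).getD a e = f a := by
  simp [List.getD_eq_getElem?_getD, h]

theorem range_two_pow_succ {α : Type*} (f : ℕ → α) (k : ℕ) :
    (List.range (2 ^ (k + 1))).map f =
      (List.range (2 ^ k)).map f ++ (List.range (2 ^ k)).map fun a => f (2 ^ k ^^^ a) := by
  rw [pow_succ, mul_two, List.range_add, List.map_append, List.map_map]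
  congr 1
  exact List.map_congr_left fun a ha => by rw [Function.comp_apply, xor_pow_add (List.mem_range.1 ha)]

section listing

variable {p d : ℕ} (w : List ℕ) (τ : ℕ → ℕ) (En : ℕ → ℕ) (X : ℕ → ℕ)
  (hlt : ∀ c < 2 ^ d, En c < p) (hne : ∀ c < 2 ^ d, En c ≠ 0)
  (hτlt : ∀ c < 2 ^ d, τ c < 2 ^ d)
  (hτadd : ∀ a b, a < 2 ^ d → b < 2 ^ d → τ (a ^^^ b) = τ a ^^^ τ b)
  (hτinj : ∀ a b, a < 2 ^ d → b < 2 ^ d → τ a = τ b → a = b)
  (hE : ∀ c a, c < 2 ^ d → a < 2 ^ d → En (c ^^^ a) = En c * En a * sgn p (bdot d (X c) (τ a)) % p)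
  (hW : ∀ a < 2 ^ d, w.getD (τ a) 0 % p = En a * w.getD a 0 % p)

include hlt hne hτlt hτadd hτinj hE hW

theorem mem_sols : ∀ j k, j + k = d →
    ((List.range (2 ^ d)).map τ, (List.range (2 ^ d)).map En) ∈
      sols p d w j ((List.range (2 ^ k)).map τ) ((List.range (2 ^ k)).map En) := by
  intro j
  induction j with
  | zero =>
    intro k hk
    rw [zero_add] at hk
    subst hk
    simp [sols]
  | succ j ih =>
    intro k hk
    have hkd : 2 ^ (k + 1) ≤ 2 ^ d := Nat.pow_le_pow_right two_pos (by omega)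
    have hlo : ∀ {a}, a < 2 ^ k → a < 2 ^ d := fun {a} ha => by rw [pow_succ] at hkd; omega
    have hpk : 2 ^ k < 2 ^ d := by rw [pow_succ] at hkd; have := Nat.two_pow_pos k; omega
    have hhi : ∀ {a}, a < 2 ^ k → 2 ^ k ^^^ a < 2 ^ d := fun {a} ha => Nat.xor_lt_two_pow hpk (hlo ha)
    obtain ⟨bil, hbil, hF⟩ := exists_bil d k (by omega) (fun a => bdot d (X (2 ^ k)) (τ a))
      fun a b ha hb => by rw [hτadd a b (hlo ha) (hlo hb), bdot_xor_right]
    have hT : stepT ((List.range (2 ^ k)).map τ) (τ (2 ^ k)) = (List.range (2 ^ (k + 1))).map τ := by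
      rw [range_two_pow_succ, stepT, List.map_map]
      congr 1
      exact List.map_congr_left fun a ha => by
        rw [Function.comp_apply, hτadd _ _ hpk (hlo (List.mem_range.1 ha)), Nat.xor_comm]
    have hS : stepE p d ((List.range (2 ^ k)).map En) (En (2 ^ k)) bil = (List.range (2 ^ (k + 1))).map En := by
      rw [range_two_pow_succ, stepE, List.length_map, List.length_range]
      congr 1
      exact List.map_congr_left fun a ha => by
        have ha' := List.mem_range.1 ha
        rw [getD_map_range En ha', hE _ _ hpk (hlo ha'), hF a ha']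
    simp only [sols, List.mem_flatMap, List.mem_filter, List.mem_range, List.mem_range'_1, List.length_map,
      List.length_range]
    refine ⟨τ (2 ^ k), ⟨hτlt _ hpk, ?_⟩, En (2 ^ k), ⟨Nat.pos_of_ne_zero (hne _ hpk), ?_⟩, bil, hbil, ?_⟩
    · rw [Bool.not_eq_true', ← Bool.not_eq_true, List.contains_iff_mem, List.mem_map]
      rintro ⟨a, ha, e⟩
      exact absurd (hτinj a _ (hlo (List.mem_range.1 ha)) hpk e) (by have := List.mem_range.1 ha; omega)
    · have := hlt _ hpk; omega
    · rw [hT, hS, if_pos]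
      · exact ih (k + 1) (by omega)
      · rw [okW, List.all_eq_true]
        intro a ha
        have ha' := List.mem_range.1 ha
        have h2 : 2 ^ k + a < 2 ^ (k + 1) := by rw [pow_succ]; omega
        rw [getD_map_range τ h2, getD_map_range En h2]
        simpa using hW _ (lt_of_lt_of_le h2 hkd)

end listing

variable {p d : ℕ}

/-- the function of a table -/
def wf (p d : ℕ) (w : List ℕ) : V p d :=
  ∑ a ∈ Finset.range (2 ^ d), ((w.getD a 0 : ℕ) : ZMod p) • del p d a

theorem del_vec {a b : ℕ} (ha : a < 2 ^ d) (hb : b < 2 ^ d) :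
    del p d a (vec d b) = if b = a then 1 else 0 := by
  rw [del_apply]
  by_cases h : b = a
  · simp [h]
  · rw [if_neg h, if_neg fun e => h (vec_inj hb ha e)]

theorem wf_apply (w : List ℕ) {b : ℕ} (hb : b < 2 ^ d) : wf p d w (vec d b) = (w.getD b 0 : ℕ) := by
  rw [wf, Finset.sum_apply, Finset.sum_eq_single b]
  · simp [del_vec hb hb]
  · intro a ha hne
    simp [del_vec (Finset.mem_range.1 ha) hb, Ne.symm hne]
  · simp [hb]

theorem M_del_zero (x : ℕ) : M p d x (del p d 0) = sg p (bdot d x (x >>> d)) • del p d (x >>> d) := by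
  rw [M_del, Nat.xor_zero]

theorem two_pow_mul_shift {a b : ℕ} (hb : b < 2 ^ d) : (2 ^ d * a + b) >>> d = a := by
  rw [Nat.shiftRight_eq_div_pow, Nat.mul_add_div (Nat.two_pow_pos d), Nat.div_eq_of_lt hb, add_zero]

theorem find_unique {n : ℕ} {P : ℕ → Bool} {b : ℕ} (hb : b < n) (hPb : P b = true)
    (huniq : ∀ a < n, P a = true → a = b) : ((List.range n).find? P).getD 0 = b := by
  cases h : (List.range n).find? P with
  | none => exact absurd hPb (List.find?_eq_none.1 h b (List.mem_range.2 hb))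
  | some a =>
    rw [Option.getD_some]
    exact huniq a (List.mem_range.1 (List.mem_of_find?_eq_some h)) (List.find?_some h)

/-- the matrix of a normalising map fixing `del 0` and `wf w` is listed -/
theorem img_mem [Fact p.Prime] (hp : p ≠ 2) (w : List ℕ) {f : End p d} (hf : Function.Injective f) {L : List ℕ}
    (hL : Valid (2 * d) L) (hI : Img f L) (h0 : f (del p d 0) = del p d 0) (hw : f (wf p d w) = wf p d w) :
    ∃ TE ∈ sols p d w d [0] [1], L = extract p d TE.1 TE.2 ∧
      ∀ a < 2 ^ d, f (del p d a) = ((TE.2.getD a 0 : ℕ) : ZMod p) • del p d (TE.1.getD a 0) := by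
  have : NeZero p := ⟨(Fact.out : p.Prime).ne_zero⟩
  have h1p : 1 ≤ p := (Fact.out : p.Prime).one_le
  have h2d : 2 ^ (2 * d) = 2 ^ d * 2 ^ d := by rw [two_mul, pow_add]
  have hd2 : 2 ^ d ≤ 2 ^ (2 * d) := Nat.pow_le_pow_right two_pos (by omega)
  have hcode : ∀ {c : ℕ}, c < 2 ^ d → 2 ^ d * c < 2 ^ (2 * d) := fun {c} hc => by
    rw [h2d]; exact Nat.mul_lt_mul_of_pos_left hc (Nat.two_pow_pos d)
  have hshl : ∀ c : ℕ, (2 ^ d * c) >>> d = c := fun c => by
    rw [← Nat.add_zero (2 ^ d * c), two_pow_mul_shift (Nat.two_pow_pos d)]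
  have hlow : ∀ (c y : ℕ), bdot d (2 ^ d * c) y = false := fun c y => by
    rw [← bdot_mod d d _ y le_rfl, Nat.mul_mod_right, bdot_comm, bdot_zero_right]
  obtain ⟨τ, hτ⟩ : ∃ τ : ℕ → ℕ, ∀ c, τ c = app L (2 ^ d * c) >>> d := ⟨_, fun _ => rfl⟩
  obtain ⟨X, hX⟩ : ∃ X : ℕ → ℕ, ∀ c, X c = app L (2 ^ d * c) := ⟨_, fun _ => rfl⟩
  have hτlt : ∀ c, τ c < 2 ^ d := fun c => by
    rw [hτ, Nat.shiftRight_eq_div_pow, Nat.div_lt_iff_lt_mul (Nat.two_pow_pos d), ← h2d]
    exact app_lt L hL.bound _
  have hmul : ∀ a b, 2 ^ d * (a ^^^ b) = 2 ^ d * a ^^^ 2 ^ d * b := fun a b =>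
    Nat.eq_of_testBit_eq fun i => by
      simp only [Nat.testBit_xor, Nat.testBit_two_pow_mul]
      by_cases hi : d ≤ i <;> simp [hi]
  have hτadd : ∀ a b, τ (a ^^^ b) = τ a ^^^ τ b := fun a b => by
    rw [hτ, hτ, hτ, hmul, app_xor, shiftRight_xor]
  have hdelim : ∀ c, c < 2 ^ d → ∃ e : ZMod p, e ≠ 0 ∧ f (del p d c) = e • del p d (τ c) := by
    intro c hc
    obtain ⟨s, hs⟩ := hI _ (hcode hc)
    have h := hs (del p d 0)
    rw [h0, M_del_zero, M_del_zero, hshl, hlow, sg_false, one_smul, smul_smul, ← hτ] at h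
    refine ⟨_, ?_, h⟩
    exact mul_ne_zero (Img.scalar_ne hf hs) fun e => by
      have := sg_sq p (bdot d (app L (2 ^ d * c)) (τ c))
      rw [e] at this; simp at this
  choose! e hene he using hdelim
  have hτinj : ∀ a b, a < 2 ^ d → b < 2 ^ d → τ a = τ b → a = b := by
    intro a b ha hb hab
    by_contra hne'
    have h1 : f (e b • del p d a) = f (e a • del p d b) := by
      rw [map_smul, map_smul, he a ha, he b hb, hab, smul_smul, smul_smul, mul_comm]
    have h2 := congrFun (hf h1) (vec d a)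
    simp [del_vec ha ha, del_vec hb ha, hne'] at h2
    exact hene b hb h2
  have hsurj : ∀ y < 2 ^ d, ∃ a < 2 ^ d, τ a = y := by
    intro y hy
    have himg : (Finset.range (2 ^ d)).image τ = Finset.range (2 ^ d) :=
      Finset.eq_of_subset_of_card_le (fun z hz => by
        obtain ⟨a, -, rfl⟩ := Finset.mem_image.1 hz
        exact Finset.mem_range.2 (hτlt a)) (by
        rw [Finset.card_image_of_injOn fun a ha b hb h => hτinj a b (Finset.mem_range.1 ha)
          (Finset.mem_range.1 hb) h])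
    obtain ⟨a, ha, hay⟩ := Finset.mem_image.1 (himg.symm ▸ Finset.mem_range.2 hy)
    exact ⟨a, Finset.mem_range.1 ha, hay⟩
  have e0 : e 0 = 1 := by
    have h := he 0 (Nat.two_pow_pos d)
    rw [h0, hτ, Nat.mul_zero, app_zero, Nat.zero_shiftRight] at h
    have := congrFun h (vec d 0)
    simpa [del_vec (Nat.two_pow_pos d) (Nat.two_pow_pos d)] using this.symm
  have hEadd : ∀ c a, c < 2 ^ d → a < 2 ^ d →
      e (c ^^^ a) = e c * e a * sg p (bdot d (X c) (τ a)) := by
    intro c a hc ha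
    obtain ⟨s, hs⟩ := hI _ (hcode hc)
    have key : ∀ a, a < 2 ^ d → e (c ^^^ a) = s * (e a * sg p (bdot d (X c) (τ c ^^^ τ a))) := by
      intro a ha
      have h := hs (del p d a)
      rw [M_del, hshl, hlow, sg_false, one_smul, he _ (Nat.xor_lt_two_pow hc ha), he a ha, M_smul, M_del,
        ← hτ, ← hX, smul_smul, smul_smul, ← hτadd] at h
      have h2 := congrFun h (vec d (τ (c ^^^ a)))
      simp only [Pi.smul_apply, smul_eq_mul, del_vec (hτlt _) (hτlt _), if_true, mul_one] at h2
      rw [h2, ← hτadd, mul_assoc]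
    have hc0 := key 0 (Nat.two_pow_pos d)
    rw [Nat.xor_zero, e0, one_mul, hτ 0, Nat.mul_zero, app_zero, Nat.zero_shiftRight, Nat.xor_zero] at hc0
    rw [key a ha, hc0, bdot_xor_right, sg_xor]
    ring
  obtain ⟨En, hEn⟩ : ∃ En : ℕ → ℕ, ∀ c, En c = (e c).val := ⟨_, fun _ => rfl⟩
  have hval : ∀ c, ((En c : ℕ) : ZMod p) = e c := fun c => by rw [hEn, ZMod.natCast_zmod_val]
  have hEn0 : En 0 = 1 := by rw [hEn, e0, ZMod.val_one]
  have hEnlt : ∀ c, En c < p := fun c => by rw [hEn]; exact ZMod.val_lt _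
  have hEne : ∀ c < 2 ^ d, En c ≠ 0 := fun c hc h => hene c hc (by rw [← hval, h, Nat.cast_zero])
  have hE : ∀ c a, c < 2 ^ d → a < 2 ^ d → En (c ^^^ a) = En c * En a * sgn p (bdot d (X c) (τ a)) % p := by
    intro c a hc ha
    refine (Nat.mod_eq_of_lt (hEnlt _)).symm.trans ((ZMod.natCast_eq_natCast_iff' _ _ p).1 ?_)
    push_cast
    rw [hval, hval, hval, sgn_cast h1p, hEadd c a hc ha]
  have hWv : ∀ a < 2 ^ d, w.getD (τ a) 0 % p = En a * w.getD a 0 % p := by
    intro a ha
    refine (ZMod.natCast_eq_natCast_iff' _ _ p).1 ?_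
    push_cast
    rw [hval]
    have h := congrFun hw (vec d (τ a))
    rw [wf_apply w (hτlt a)] at h
    rw [← h, wf, map_sum, Finset.sum_apply, Finset.sum_eq_single a]
    · rw [map_smul, he a ha]
      simp [del_vec (hτlt a) (hτlt a), mul_comm]
    · intro b hb hne'
      rw [map_smul, he b (Finset.mem_range.1 hb)]
      simp [del_vec (hτlt b) (hτlt a), eq_comm]
      intro h
      exact absurd (hτinj b a (Finset.mem_range.1 hb) ha h.symm) hne'
    · simp [ha]
  have hmem := mem_sols w τ En X (fun c _ => hEnlt c) hEne (fun c _ => hτlt c)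
    (fun a b _ _ => hτadd a b) hτinj hE hWv d 0 (by omega)
  have hτ0 : τ 0 = 0 := by rw [hτ, Nat.mul_zero, app_zero, Nat.zero_shiftRight]
  simp only [pow_zero, List.range_one, List.map_cons, List.map_nil, hτ0, hEn0] at hmem
  refine ⟨_, hmem, ?_, fun a ha => by
    rw [getD_map_range En ha, getD_map_range τ ha, hval, he a ha]⟩
  -- images of the sign codes
  have hsgn : ∀ b < 2 ^ d, app L b >>> d = 0 ∧ ∀ a < 2 ^ d, bdot d (app L b) (τ a) = bdot d b a := by
    intro b hb
    obtain ⟨s, hs⟩ := hI b (lt_of_lt_of_le hb hd2)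
    have hb0 : b >>> d = 0 := by rw [Nat.shiftRight_eq_div_pow, Nat.div_eq_of_lt hb]
    have hYlt : app L b >>> d < 2 ^ d := by
      rw [Nat.shiftRight_eq_div_pow, Nat.div_lt_iff_lt_mul (Nat.two_pow_pos d), ← h2d]
      exact app_lt L hL.bound _
    have hd0 := hs (del p d 0)
    rw [h0, M_del_zero, M_del_zero, hb0, bdot_zero_right, sg_false, one_smul, h0, smul_smul] at hd0
    have h2 := congrFun hd0 (vec d 0)
    rw [Pi.smul_apply, del_vec hYlt (Nat.two_pow_pos d), del_vec (Nat.two_pow_pos d) (Nat.two_pow_pos d),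
      if_pos rfl, smul_eq_mul] at h2
    by_cases hY : app L b >>> d = 0
    · rw [if_pos hY.symm, mul_one, hY, bdot_zero_right, sg_false, mul_one] at h2
      refine ⟨hY, fun a ha => (sg_injective hp ?_).symm⟩
      have h := hs (del p d a)
      rw [M_del, hb0, Nat.zero_xor, map_smul, he a ha, M_smul, M_del, hY, Nat.zero_xor, ← h2, one_smul,
        smul_smul, smul_smul, mul_comm] at h
      have h3 := congrFun h (vec d (τ a))
      simp only [Pi.smul_apply, smul_eq_mul, del_vec (hτlt a) (hτlt a), if_true, mul_one] at h3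
      exact mul_left_cancel₀ (hene a ha) h3
    · rw [if_neg fun h => hY h.symm, mul_zero] at h2
      exact absurd h2 one_ne_zero
  have huniq : ∀ a b, a < 2 ^ d → b < 2 ^ d → (∀ z < 2 ^ d, bdot d a (τ z) = bdot d b (τ z)) → a = b :=
    fun a b ha hb h => eq_of_bdot ha hb fun y hy => by
      obtain ⟨z, hz, rfl⟩ := hsurj y hy
      exact h z hz
  have hlist : L = (List.range (2 * d)).map fun i => app L (2 ^ i) :=
    hL.ext ⟨by simp, fun a ha => by
      obtain ⟨i, -, rfl⟩ := List.mem_map.1 ha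
      exact app_lt L hL.bound _⟩ fun x hx =>
      (app_map_pow (2 * d) (app L) (fun a b _ _ => app_xor L a b) x hx).symm
  conv_lhs => rw [hlist, two_mul, List.range_add, List.map_append, List.map_map]
  rw [extract]
  congr 1
  · refine List.map_congr_left fun i hi => ?_
    have hi' : 2 ^ i < 2 ^ d := Nat.pow_lt_pow_right one_lt_two (List.mem_range.1 hi)
    obtain ⟨h1, h2⟩ := hsgn _ hi'
    have hblt : app L (2 ^ i) < 2 ^ d := by
      rw [Nat.shiftRight_eq_div_pow] at h1
      exact Nat.lt_of_div_eq_zero (Nat.two_pow_pos d) h1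
    symm
    refine find_unique hblt ?_ fun a ha hP => huniq a _ ha hblt fun z hz => ?_
    · rw [List.all_eq_true]
      intro z hz
      rw [getD_map_range τ (List.mem_range.1 hz), h2 z (List.mem_range.1 hz)]
      simp
    · rw [List.all_eq_true] at hP
      have := hP z (List.mem_range.2 hz)
      rw [getD_map_range τ hz, beq_iff_eq] at this
      rw [this, h2 z hz]
  · refine List.map_congr_left fun i hi => ?_
    have hi' : 2 ^ i < 2 ^ d := Nat.pow_lt_pow_right one_lt_two (List.mem_range.1 hi)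
    have harg : 2 ^ (d + i) = 2 ^ d * 2 ^ i := pow_add 2 d i
    simp only [Function.comp_apply, getD_map_range τ hi', harg]
    rw [← hX, ← Nat.div_add_mod (X (2 ^ i)) (2 ^ d), show X (2 ^ i) / 2 ^ d = τ (2 ^ i) by
      rw [hX, hτ, Nat.shiftRight_eq_div_pow]]
    congr 1
    have hblt : X (2 ^ i) % 2 ^ d < 2 ^ d := Nat.mod_lt _ (Nat.two_pow_pos d)
    symm
    refine find_unique hblt ?_ fun a ha hP => huniq a _ ha hblt fun z hz => ?_
    · rw [List.all_eq_true]
      intro z hz
      have hz' := List.mem_range.1 hz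
      rw [getD_map_range En (Nat.xor_lt_two_pow hi' hz'), getD_map_range En hi', getD_map_range En hz',
        getD_map_range τ hz', bdot_mod d d _ _ le_rfl, beq_iff_eq, hE _ _ hi' hz', Nat.mod_mod]
    · rw [List.all_eq_true] at hP
      have := hP z (List.mem_range.2 hz)
      rw [getD_map_range En (Nat.xor_lt_two_pow hi' hz), getD_map_range En hi', getD_map_range En hz,
        getD_map_range τ hz, beq_iff_eq, ZMod.natCast_eq_natCast_iff' _ _ p |>.symm] at this
      push_cast at this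
      rw [hval, hval, hval, sgn_cast h1p, hEadd _ _ hi' hz] at this
      rw [bdot_mod d d _ _ le_rfl]
      exact (sg_injective hp (mul_left_cancel₀ (mul_ne_zero (hene _ hi') (hene _ hz)) this)).symm

end CfsgLib.BaseCop.Small
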