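import Cfsg.Agent.Lib.BaseCop.Small.Mon

/-!
The frame of minus type in dimension three over `F_3`: one quaternion pair and two hyperbolic pairs.
-/

set_option autoImplicit false

namespace CfsgLib.BaseCop

/-- the second generator of the quaternion pair -/
def q2map {d : ℕ} (j : Fin 2) (x : (Fin (d + 1) → ZMod 2) → ZMod 3) : (Fin (d + 1) → ZMod 2) → ZMod 3 :=
  if j = 0 then x else fun a => x (Function.update a 0 0) + (-1) ^ (a 0).val * x (Function.update a 0 1)

namespace Small.Minus

/-- the index of the quaternion factor -/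
def qj (x : ℕ) : Fin 2 := if x.testBit 3 then 1 else 0

/-- sign bits -/
def qb (x : ℕ) : ℕ := x % 8

/-- translation bits -/
def qc (x : ℕ) : ℕ := x % 2 + 2 * (x / 16 % 4)

/-- the operator of a code -/
def Q (x : ℕ) (z : V 3 3) : V 3 3 := q2map (d := 2) (qj x) (mon 1 (vec 3 (qb x)) (vec 3 (qc x)) z)

/-- sign -/
def sn (b : Bool) : ℕ := if b then 2 else 1

/-- the operator on lists -/
def Qn (x : ℕ) (l : List ℕ) : List ℕ :=
  let u := fun a => sn (bdot 3 (qb x) a) * l.getD (a ^^^ qc x) 0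
  (List.range 8).map fun a =>
    (if x.testBit 3 then u (a &&& 6) + sn (a.testBit 0) * u (a ||| 1) else u a) % 3

/-- linear combination of lists -/
def comb (coef : List ℕ) (rows : List (List ℕ)) : List ℕ :=
  (List.range 8).map fun a => ((List.zip coef rows).map fun cr => cr.1 * cr.2.getD a 0).sum % 3

/-- the eight translates of a vector, with scalars -/
def frame (sa s₁ s₂ a y₁ y₂ : ℕ) (v : List ℕ) : List (List ℕ) :=
  (List.range 8).map fun i =>
    let u₂ := if i.testBit 2 then Qn y₂ v else v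
    let u₁ := if i.testBit 1 then Qn y₁ u₂ else u₂
    let u₀ := if i.testBit 0 then Qn a u₁ else u₁
    comb [(if i.testBit 0 then sa else 1) * (if i.testBit 1 then s₁ else 1) * (if i.testBit 2 then s₂ else 1)] [u₀]

/-- the unit lists -/
def unitL (k : ℕ) : List ℕ := (List.range 8).map fun a => if a = k then 1 else 0

/-- data of a pair: the vector, three coefficients, the coordinates of the unit vectors, a table -/
structure Dat where
  v : List ℕ
  c₀ : ℕ
  c₁ : ℕ
  c₂ : ℕ
  Bi : List (List ℕ)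
  tbl : List ℕ

/-- the second vector -/
def Dat.w (D : Dat) : List ℕ := comb [D.c₀, D.c₁, D.c₂, 1] [D.v, Qn 1 D.v, Qn 16 D.v, Qn 32 D.v]

/-- a list as a number -/
def enc : List ℕ → ℕ
  | [] => 0
  | a :: l => a + 3 * enc l

/-- the value which the last generator image must take at the vector -/
def target (D : Dat) (sa s₁ s₂ a y₁ : ℕ) : List ℕ :=
  comb [s₂, 2 * s₂ * D.c₀, 2 * s₂ * D.c₁ * sa, 2 * s₂ * D.c₂ * s₁] [D.w, D.v, Qn a D.v, Qn y₁ D.v]

/-- coordinates are correct -/
def Dat.ok (D : Dat) : Bool :=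
  D.v == ((List.range 8).map fun a => D.v.getD a 0 % 3) &&
    D.tbl == ((List.range 64).map fun y => enc (Qn y D.v)) &&
    (List.range 8).all fun k => comb (D.Bi.getD k []) (frame 1 1 1 1 16 32 D.v) == unitL k

/-- the candidates of generator images compatible with the second vector -/
def guesses (D : Dat) : List (ℕ × ℕ × ℕ × ℕ × ℕ × ℕ) :=
  ((List.range 64).filter fun a => Qn a (Qn a D.v) == comb [2] [D.v]).flatMap fun a =>
    ((List.range 64).filter fun y₁ => Qn y₁ (Qn y₁ D.v) == comb [1] [D.v] &&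
        Qn a (Qn y₁ D.v) == Qn y₁ (Qn a D.v)).flatMap fun y₁ =>
      [1, 2].flatMap fun sa => [1, 2].flatMap fun s₁ => [1, 2].flatMap fun s₂ =>
        [enc (target D sa s₁ s₂ a y₁)].flatMap fun t =>
        ((List.zip (List.range 64) D.tbl).filter fun e => e.2 == t &&
            Qn a (Qn e.1 D.v) == Qn e.1 (Qn a D.v) && Qn y₁ (Qn e.1 D.v) == Qn e.1 (Qn y₁ D.v)).map
          fun e => (sa, s₁, s₂, a, y₁, e.1)

/-- the matrix of a guess -/
def matOf (D : Dat) (g : ℕ × ℕ × ℕ × ℕ × ℕ × ℕ) : List (List ℕ) :=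
  let C := frame g.1 g.2.1 g.2.2.1 g.2.2.2.1 g.2.2.2.2.1 g.2.2.2.2.2 D.v
  (List.range 8).map fun k => comb (D.Bi.getD k []) C

/-- matrix product -/
def mulM (F K : List (List ℕ)) : List (List ℕ) := (List.range 8).map fun k => comb (K.getD k []) F

/-- identity -/
def idM : List (List ℕ) := (List.range 8).map unitL

/-- normalises three generators of the frame -/
def normal (F : List (List ℕ)) : Bool :=
  [2, 4, 8].all fun x => (List.range 64).any fun y => [1, 2].any fun s =>
    (List.range 8).all fun k => comb (Qn x (unitL k)) F == comb [s] [Qn y (F.getD k [])]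

/-- possible maps fixing the pair, of order prime to three -/
def bads (D : Dat) : List (List (List ℕ)) :=
  ((guesses D).map (matOf D)).filter fun F => mulM F (mulM F F) != idM && normal F

/-- the certificate for two pairs -/
def check (D E : Dat) : Bool :=
  D.ok && E.ok && (bads D).all fun F => (bads E).all fun K =>
    let P := mulM F K
    let H := mulM P P
    H != idM && mulM H (mulM H H) == idM

/-- coordinates of a function -/
def toL (z : V 3 3) : List ℕ := (List.range 8).map fun a => (z (vec 3 a)).val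

/-- function of coordinates -/
def ofL (l : List ℕ) : V 3 3 := fun b =>
  ∑ a ∈ Finset.range 8, if b = vec 3 a then ((l.getD a 0 : ℕ) : ZMod 3) else 0

theorem getD_range_map {α : Type*} (f : ℕ → α) {n a : ℕ} (h : a < n) (e : α) :
    ((List.range n).map f).getD a e = f a := by
  simp [List.getD_eq_getElem?_getD, h]

theorem cast_getD_toL (z : V 3 3) {a : ℕ} (ha : a < 8) :
    (((toL z).getD a 0 : ℕ) : ZMod 3) = z (vec 3 a) := by
  rw [toL, getD_range_map _ ha, ZMod.natCast_zmod_val]

theorem toL_inj {z z' : V 3 3} (h : toL z = toL z') : z = z' :=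
  ext_vec fun a ha => by rw [← cast_getD_toL z ha, h, cast_getD_toL z' ha]

theorem ofL_apply (l : List ℕ) {a : ℕ} (ha : a < 8) : ofL l (vec 3 a) = ((l.getD a 0 : ℕ) : ZMod 3) := by
  rw [ofL, Finset.sum_eq_single a]
  · simp
  · intro b hb hne
    rw [if_neg]
    exact fun e => hne (vec_inj (d := 3) (Finset.mem_range.1 hb) ha e.symm)
  · simp [ha]

theorem sn_cast : ∀ b, ((sn b : ℕ) : ZMod 3) = sg 3 b := by decide

theorem toL_Q (x : ℕ) (z : V 3 3) : toL (Q x z) = Qn x (toL z) := by
  show List.map _ _ = List.map _ _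
  refine List.map_congr_left fun a ha => ?_
  have ha' : a < 8 := List.mem_range.1 ha
  rw [← Nat.mod_eq_of_lt (ZMod.val_lt (Q x z (vec 3 a)))]
  refine (ZMod.natCast_eq_natCast_iff' _ _ 3).1 ?_
  rw [ZMod.natCast_zmod_val]
  have hu : ∀ e, e < 8 → mon 1 (vec 3 (qb x)) (vec 3 (qc x)) z (vec 3 e) =
      ((sn (bdot 3 (qb x) e) : ℕ) : ZMod 3) * (((toL z).getD (e ^^^ qc x) 0 : ℕ) : ZMod 3) := by
    intro e he
    have hc : qc x < 8 := by unfold qc; omega
    rw [mon_vec, one_mul, sn_cast, cast_getD_toL z (Nat.xor_lt_two_pow (n := 3) he hc), vec_xor]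
  by_cases hj : x.testBit 3 = true
  · have h1 : a &&& 6 < 8 := lt_of_le_of_lt Nat.and_le_left ha'
    have h2 : a ||| 1 < 8 := Nat.or_lt_two_pow (n := 3) ha' (by norm_num)
    have hup : ∀ a < 8, Function.update (vec 3 a) 0 0 = vec 3 (a &&& 6) ∧
        Function.update (vec 3 a) 0 1 = vec 3 (a ||| 1) ∧
        ((-1 : ZMod 3) ^ (vec 3 a 0).val) = sg 3 (a.testBit 0) := by decide
    obtain ⟨e1, e2, e3⟩ := hup a ha'
    simp only [Q, qj, hj, if_true, q2map, show ((1 : Fin 2) = 0) = False by decide, if_false, e1, e2, e3,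
      hu _ h1, hu _ h2]
    push_cast
    rw [sn_cast (a.testBit 0)]
  · rw [Bool.not_eq_true] at hj
    simp only [Q, qj, hj, q2map, Bool.false_eq_true, if_false, if_true, hu a ha']
    push_cast
    rfl

theorem toL_comb : ∀ (c : List ℕ) (Z : List (V 3 3)),
    toL ((List.zip c Z).map fun cz => ((cz.1 : ℕ) : ZMod 3) • cz.2).sum = comb c (Z.map toL) := by
  intro c Z
  refine List.map_congr_left fun a ha => ?_
  have ha' : a < 8 := List.mem_range.1 ha
  rw [← Nat.mod_eq_of_lt (ZMod.val_lt _)]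
  refine (ZMod.natCast_eq_natCast_iff' _ _ 3).1 ?_
  rw [ZMod.natCast_zmod_val, Nat.cast_list_sum]
  induction c generalizing Z with
  | nil => simp
  | cons x c ih =>
    cases Z with
    | nil => simp
    | cons y Z =>
      simp only [List.map_cons, List.zip_cons_cons, List.sum_cons, Pi.add_apply, Pi.smul_apply, smul_eq_mul, ih,
        Nat.cast_mul, cast_getD_toL y ha']

theorem toL_smul (s : ℕ) (z : V 3 3) : toL ((s : ZMod 3) • z) = comb [s] [toL z] := by
  have := toL_comb [s] [z]
  simpa using this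

theorem toL_ofL_range (k : ℕ) : toL (ofL (unitL k)) = unitL k := by
  refine List.map_congr_left fun a ha => ?_
  rw [ofL_apply _ (List.mem_range.1 ha), unitL, getD_range_map _ (List.mem_range.1 ha)]
  split <;> rfl

theorem Q_add (x : ℕ) (z z' : V 3 3) : Q x (z + z') = Q x z + Q x z' := by
  funext a
  simp only [Q, q2map]
  split <;> simp [mon] <;> ring

theorem Q_smul (x : ℕ) (c : ZMod 3) (z : V 3 3) : Q x (c • z) = c • Q x z := by
  funext a
  simp only [Q, q2map]
  split <;> simp [mon] <;> ring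

/-- the operators as linear maps -/
def Qlin (x : ℕ) : V 3 3 →ₗ[ZMod 3] V 3 3 where
  toFun := Q x
  map_add' := Q_add x
  map_smul' := Q_smul x

/-- scalar multiplication -/
def scal (c : ℕ) : V 3 3 →ₗ[ZMod 3] V 3 3 where
  toFun z := (c : ZMod 3) • z
  map_add' := smul_add _
  map_smul' a z := smul_comm _ a z

theorem decomp (z : V 3 3) : z = ∑ k ∈ Finset.range 8, z (vec 3 k) • ofL (unitL k) :=
  ext_vec fun a ha => by
    rw [Finset.sum_apply, Finset.sum_eq_single a]
    · rw [Pi.smul_apply, ofL_apply _ ha, unitL, getD_range_map _ (show a < 8 from ha)]; simp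
    · intro b _ hne
      rw [Pi.smul_apply, ofL_apply _ ha, unitL, getD_range_map _ (show a < 8 from ha), if_neg (Ne.symm hne)]; simp
    · intro h; exact absurd (Finset.mem_range.2 ha) h

theorem ext_basis {f g : V 3 3 →ₗ[ZMod 3] V 3 3}
    (h : ∀ k < 8, f (ofL (unitL k)) = g (ofL (unitL k))) : f = g := by
  refine LinearMap.ext fun z => ?_
  rw [decomp z, map_sum, map_sum]
  exact Finset.sum_congr rfl fun k hk => by rw [map_smul, map_smul, h k (Finset.mem_range.1 hk)]

/-- a relation of operators is checked on units -/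
theorem rel_ext {f g : V 3 3 →ₗ[ZMod 3] V 3 3} (F K : List ℕ → List ℕ)
    (hf : ∀ z, toL (f z) = F (toL z)) (hg : ∀ z, toL (g z) = K (toL z))
    (h : ((List.range 8).all fun k => F (unitL k) == K (unitL k)) = true) : f = g := by
  refine ext_basis fun k hk => toL_inj ?_
  rw [hf, hg, toL_ofL_range]
  simpa using (List.all_eq_true.1 h) k (List.mem_range.2 hk)

/-- matrix of a linear map -/
def matR (f : V 3 3 →ₗ[ZMod 3] V 3 3) : List (List ℕ) := (List.range 8).map fun k => toL (f (ofL (unitL k)))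

theorem toL_map_matR (f : V 3 3 →ₗ[ZMod 3] V 3 3) (z : V 3 3) :
    toL (f z) = comb (toL z) (matR f) := by
  have hl : (List.zip (toL z) ((List.range 8).map fun k => f (ofL (unitL k)))).map
      (fun cz => ((cz.1 : ℕ) : ZMod 3) • cz.2) =
      (List.range 8).map fun k => z (vec 3 k) • f (ofL (unitL k)) := by
    rw [toL, List.zip_map', List.map_map]
    exact List.map_congr_left fun k _ => by simp [ZMod.natCast_zmod_val]
  have h := toL_comb (toL z) ((List.range 8).map fun k => f (ofL (unitL k)))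
  rw [hl] at h
  rw [matR]
  rw [List.map_map] at h
  refine Eq.trans ?_ h
  congr 1
  conv_lhs => rw [decomp z, map_sum]
  rw [Finset.sum_congr rfl fun k _ => map_smul f _ _]
  rfl

theorem matR_mul (f g : V 3 3 →ₗ[ZMod 3] V 3 3) : matR (f * g) = mulM (matR f) (matR g) :=
  List.map_congr_left fun k hk => by
    rw [Module.End.mul_apply, toL_map_matR]
    congr 1
    rw [matR, getD_range_map _ (List.mem_range.1 hk)]

theorem matR_one : matR 1 = idM :=
  List.map_congr_left fun k _ => by rw [Module.End.one_apply, toL_ofL_range]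

theorem matR_inj {f g : V 3 3 →ₗ[ZMod 3] V 3 3} (h : matR f = matR g) : f = g :=
  ext_basis fun k hk => toL_inj (by
    have := congrArg (fun l => l.getD k []) h
    simpa only [matR, getD_range_map _ hk] using this)

/-- the frame of a vector -/
def frameV (sa s₁ s₂ a y₁ y₂ : ℕ) (v : V 3 3) (i : ℕ) : V 3 3 :=
  let u₂ := if i.testBit 2 then Q y₂ v else v
  let u₁ := if i.testBit 1 then Q y₁ u₂ else u₂
  let u₀ := if i.testBit 0 then Q a u₁ else u₁
  ((((if i.testBit 0 then sa else 1) * (if i.testBit 1 then s₁ else 1) * (if i.testBit 2 then s₂ else 1) : ℕ)) :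
    ZMod 3) • u₀

theorem toL_frameV (sa s₁ s₂ a y₁ y₂ : ℕ) (v : V 3 3) :
    ((List.range 8).map fun i => toL (frameV sa s₁ s₂ a y₁ y₂ v i)) = frame sa s₁ s₂ a y₁ y₂ (toL v) :=
  List.map_congr_left fun i _ => by
    simp only [frameV, toL_smul]
    congr 2
    cases i.testBit 0 <;> cases i.testBit 1 <;> cases i.testBit 2 <;> simp [toL_Q]

section map

variable {f : V 3 3 →ₗ[ZMod 3] V 3 3}
  (hn : ∀ x, ∃ y < 64, ∃ s : ℕ, (s = 1 ∨ s = 2) ∧ ∀ z, f (Q x z) = (s : ZMod 3) • Q y (f z))

include hn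

theorem bad_mem (D : Dat) {v w : V 3 3} (hv : toL v = D.v) (hok : D.ok = true) (hw : toL w = D.w)
    (h0 : f v = v) (h1 : f w = w) (hne : mulM (matR f) (mulM (matR f) (matR f)) ≠ idM) :
    matR f ∈ bads D := by
  obtain ⟨a, ha, sa, hsa, ea⟩ := hn 1
  obtain ⟨y₁, hy₁, s₁, hs₁, e₁⟩ := hn 16
  obtain ⟨y₂, hy₂, s₂, hs₂, e₂⟩ := hn 32
  have hsq : ∀ s : ℕ, (s = 1 ∨ s = 2) → ((s : ZMod 3) * s) = 1 := by
    rintro s (rfl | rfl) <;> decide
  have hs0 : ∀ s t : ℕ, (s = 1 ∨ s = 2) → (t = 1 ∨ t = 2) → ((s : ZMod 3) * t) ≠ 0 := by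
    rintro s t (rfl | rfl) (rfl | rfl) <;> decide
  have rA : ∀ z, Q 1 (Q 1 z) = ((2 : ℕ) : ZMod 3) • z := fun z =>
    LinearMap.congr_fun (rel_ext (f := Qlin 1 ∘ₗ Qlin 1) (g := scal 2)
      (fun l => Qn 1 (Qn 1 l)) (fun l => comb [2] [l])
      (fun z => by show toL (Q 1 (Q 1 z)) = _; rw [toL_Q, toL_Q])
      (fun z => toL_smul 2 z) (by decide +kernel)) z
  have rY : ∀ z, Q 16 (Q 16 z) = ((1 : ℕ) : ZMod 3) • z := fun z =>
    LinearMap.congr_fun (rel_ext (f := Qlin 16 ∘ₗ Qlin 16) (g := scal 1)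
      (fun l => Qn 16 (Qn 16 l)) (fun l => comb [1] [l])
      (fun z => by show toL (Q 16 (Q 16 z)) = _; rw [toL_Q, toL_Q])
      (fun z => toL_smul 1 z) (by decide +kernel)) z
  have rc : ∀ x y, ((List.range 8).all fun k => Qn x (Qn y (unitL k)) == Qn y (Qn x (unitL k))) = true →
      ∀ z, Q x (Q y z) = Q y (Q x z) := fun x y h z =>
    LinearMap.congr_fun (rel_ext (f := Qlin x ∘ₗ Qlin y) (g := Qlin y ∘ₗ Qlin x)
      (fun l => Qn x (Qn y l)) (fun l => Qn y (Qn x l))
      (fun z => by show toL (Q x (Q y z)) = _; rw [toL_Q, toL_Q])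
      (fun z => by show toL (Q y (Q x z)) = _; rw [toL_Q, toL_Q]) h) z
  have comm : ∀ {x y x' y' s t : ℕ}, (s = 1 ∨ s = 2) → (t = 1 ∨ t = 2) →
      (∀ z, f (Q x z) = (s : ZMod 3) • Q x' (f z)) → (∀ z, f (Q y z) = (t : ZMod 3) • Q y' (f z)) →
      (∀ z, Q x (Q y z) = Q y (Q x z)) → Qn x' (Qn y' D.v) = Qn y' (Qn x' D.v) := by
    intro x y x' y' s t hs ht hx hy hxy
    have h := congrArg f (hxy v)
    rw [hx, hy, hy, hx, h0, Q_smul, Q_smul, smul_smul, smul_smul, mul_comm (t : ZMod 3)] at h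
    have h' : Q x' (Q y' v) = Q y' (Q x' v) := by
      rcases hs with rfl | rfl <;> rcases ht with rfl | rfl <;>
        exact smul_right_injective (V 3 3) (by decide) h
    rw [← hv, ← toL_Q, ← toL_Q, ← toL_Q, ← toL_Q, h']
  have sqr : ∀ {x x' s : ℕ} (c : ℕ), (s = 1 ∨ s = 2) → (∀ z, f (Q x z) = (s : ZMod 3) • Q x' (f z)) →
      (∀ z, Q x (Q x z) = (c : ZMod 3) • z) → Qn x' (Qn x' D.v) = comb [c] [D.v] := by
    intro x x' s c hs hx hxx
    have h := congrArg f (hxx v)
    rw [hx, hx, h0, Q_smul, smul_smul, hsq s hs, one_smul, map_smul, h0] at h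
    rw [← hv, ← toL_Q, ← toL_Q, h, toL_smul]
  have hframe : ∀ i, f (frameV 1 1 1 1 16 32 v i) = frameV sa s₁ s₂ a y₁ y₂ v i := by
    intro i
    simp only [frameV]
    cases i.testBit 0 <;> cases i.testBit 1 <;> cases i.testBit 2 <;>
      simp [ea, e₁, e₂, h0, Q_smul, smul_smul, mul_comm, mul_left_comm]
  have hmat : matR f = matOf D (sa, s₁, s₂, a, y₁, y₂) := by
    show List.map _ _ = List.map _ _
    refine List.map_congr_left fun k hk => ?_
    have hk' := List.mem_range.1 hk
    have hok' := hok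
    simp only [Dat.ok, Bool.and_eq_true] at hok'
    have hcoord := (List.all_eq_true.1 hok'.2) k hk
    rw [beq_iff_eq, ← hv, ← toL_frameV] at hcoord
    have h := toL_comb (D.Bi.getD k []) ((List.range 8).map fun i => frameV 1 1 1 1 16 32 v i)
    rw [List.map_map] at h
    rw [show (List.map (toL ∘ fun i => frameV 1 1 1 1 16 32 v i) (List.range 8)) =
      (List.range 8).map fun i => toL (frameV 1 1 1 1 16 32 v i) from rfl, hcoord, ← toL_ofL_range k] at h
    rw [← toL_inj h, map_list_sum, List.map_map]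
    have hg : (List.map (⇑f ∘ fun cz => ((cz.1 : ℕ) : ZMod 3) • cz.2)
        (List.zip (D.Bi.getD k []) ((List.range 8).map fun i => frameV 1 1 1 1 16 32 v i))) =
        (List.zip (D.Bi.getD k []) ((List.range 8).map fun i => frameV sa s₁ s₂ a y₁ y₂ v i)).map
          fun cz => ((cz.1 : ℕ) : ZMod 3) • cz.2 := by
      rw [List.zip_map_right, List.zip_map_right, List.map_map, List.map_map]
      exact List.map_congr_left fun c _ => by simp [map_smul, hframe]
    rw [hg, toL_comb, List.map_map]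
    rw [show (List.map (toL ∘ fun i => frameV sa s₁ s₂ a y₁ y₂ v i) (List.range 8)) =
      (List.range 8).map fun i => toL (frameV sa s₁ s₂ a y₁ y₂ v i) from rfl, toL_frameV, hv]
  have hweq : enc (Qn y₂ D.v) = enc (target D sa s₁ s₂ a y₁) := by
    obtain ⟨C, hC⟩ : ∃ C : List ℕ → List ℕ, ∀ l, C l = l := ⟨id, fun _ => rfl⟩
    have hwv : w = (D.c₀ : ZMod 3) • v + ((D.c₁ : ZMod 3) • Q 1 v + ((D.c₂ : ZMod 3) • Q 16 v + Q 32 v)) :=
      toL_inj (by
        rw [hw, Dat.w, ← hv]
        have h := toL_comb [D.c₀, D.c₁, D.c₂, 1] [v, Q 1 v, Q 16 v, Q 32 v]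
        simpa [toL_Q] using h.symm)
    have hfw := congrArg f hwv
    rw [h1] at hfw
    simp only [map_add, map_smul, h0, ea, e₁, e₂] at hfw
    have hY : Q y₂ v = (s₂ : ZMod 3) • w + (((2 * s₂ * D.c₀ : ℕ) : ZMod 3) • v +
        (((2 * s₂ * D.c₁ * sa : ℕ) : ZMod 3) • Q a v + ((2 * s₂ * D.c₂ * s₁ : ℕ) : ZMod 3) • Q y₁ v)) := by
      conv_rhs => rw [hfw]
      have h3 : (3 : ZMod 3) = 0 := by decide
      push_cast
      match_scalars
      all_goals first
        | linear_combination -(hsq s₂ hs₂)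
        | linear_combination -((s₂ : ZMod 3) * D.c₀) * h3
        | linear_combination -((s₂ : ZMod 3) * D.c₁ * sa) * h3
        | linear_combination -((s₂ : ZMod 3) * D.c₂ * s₁) * h3
    have h := toL_comb [s₂, 2 * s₂ * D.c₀, 2 * s₂ * D.c₁ * sa, 2 * s₂ * D.c₂ * s₁] [w, v, Q a v, Q y₁ v]
    simp only [List.zip_cons_cons, List.zip_nil_right, List.map_cons, List.map_nil, List.sum_cons, List.sum_nil,
      add_zero] at h
    rw [target, ← hw, ← hv, ← toL_Q, ← toL_Q, ← toL_Q, hY, h]
  refine List.mem_filter.2 ⟨List.mem_map.2 ⟨(sa, s₁, s₂, a, y₁, y₂), ?_, hmat.symm⟩, ?_⟩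
  · simp only [guesses, List.mem_flatMap, List.mem_filter, List.mem_range, List.mem_map, Bool.and_eq_true,
      beq_iff_eq]
    have htbl : D.tbl = (List.range 64).map fun y => enc (Qn y D.v) := by
      have hok' := hok
      simp only [Dat.ok, Bool.and_eq_true, beq_iff_eq] at hok'
      exact hok'.1.2
    exact ⟨a, ⟨ha, sqr 2 hsa ea rA⟩, y₁, ⟨hy₁, sqr 1 hs₁ e₁ rY,
      comm hsa hs₁ ea e₁ (rc 1 16 (by decide +kernel))⟩, sa, by simpa using hsa, s₁, by simpa using hs₁, s₂,
      by simpa using hs₂, _, List.mem_singleton_self _, (y₂, enc (Qn y₂ D.v)),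
      ⟨by rw [htbl, ← List.map_id (List.range 64), List.map_map, List.zip_map']
          exact List.mem_map.2 ⟨y₂, List.mem_range.2 hy₂, by simp⟩,
        ⟨hweq, comm hsa hs₂ ea e₂ (rc 1 32 (by decide +kernel))⟩,
        comm hs₁ hs₂ e₁ e₂ (rc 16 32 (by decide +kernel))⟩, rfl⟩
  · simp only [Bool.and_eq_true, bne_iff_ne, ne_eq, hne, not_false_eq_true, true_and, normal, List.all_eq_true,
      List.any_eq_true, List.mem_range, beq_iff_eq]
    intro x _
    obtain ⟨y, hy, s, hs, e⟩ := hn x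
    refine ⟨y, hy, s, by simpa using hs, fun k hk => ?_⟩
    rw [← toL_ofL_range k, ← toL_Q, ← toL_map_matR, e, toL_smul, toL_Q, matR, getD_range_map _ hk]

end map

/-- a successful certificate gives a base of size two -/
theorem exists_base_of_check {G : Type*} [Group G] [Finite G] [DistribMulAction G (V 3 3)]
    (hG : ¬3 ∣ Nat.card G) (hf : ∀ g : G, (∀ x : V 3 3, g • x = x) → g = 1)
    (hnorm : ∀ (g : G) (j : Fin 2) (b c : Fin 3 → ZMod 2), b 0 = c 0 → ∃ s j' b' c', b' 0 = c' 0 ∧
      ∀ x : V 3 3, g • q2map (d := 2) j (mon 1 b c x) = q2map (d := 2) j' (mon s b' c' (g • x)))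
    {D E : Dat} (hcheck : check D E = true) : ∃ v w : V 3 3, ∀ g : G, g • v = v → g • w = w → g = 1 := by
  haveI : Fact (Nat.Prime 3) := ⟨Nat.prime_three⟩
  let ρ : G →* (V 3 3 →ₗ[ZMod 3] V 3 3) :=
    { toFun := fun g => AddMonoidHom.toZModLinearMap 3 (DistribSMul.toAddMonoidHom (V 3 3) g)
      map_one' := LinearMap.ext fun x => one_smul G x
      map_mul' := fun g g' => LinearMap.ext fun x => mul_smul g g' x }
  have hρ : ∀ g x, ρ g x = g • x := fun g x => rfl
  have hρinj : ∀ g, ρ g = 1 → g = 1 := fun g h => hf g fun x => LinearMap.congr_fun h x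
  have hcube : ∀ g : G, matR (ρ g ^ 3) = idM → g = 1 := by
    intro g h
    have h3 : g ^ 3 = 1 := hρinj _ (by rw [map_pow]; exact matR_inj (h.trans matR_one.symm))
    rcases (Nat.dvd_prime Nat.prime_three).1 (orderOf_dvd_of_pow_eq_one h3) with e | e
    · exact orderOf_eq_one_iff.1 e
    · exact absurd (e ▸ orderOf_dvd_natCard g) hG
  have hcodes : ∀ x, qb x % 2 = qc x % 2 := fun x => by unfold qb qc; omega
  have hN : ∀ (g : G) (x : ℕ), ∃ y < 64, ∃ s : ℕ, (s = 1 ∨ s = 2) ∧
      ∀ z, ρ g (Q x z) = (s : ZMod 3) • Q y (ρ g z) := by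
    intro g x
    have hx : vec 3 (qb x) 0 = vec 3 (qc x) 0 := by
      simp [vec, Nat.testBit_zero, hcodes x]
    obtain ⟨s, j', b', c', hbc, hs⟩ := hnorm g (qj x) _ _ hx
    obtain ⟨β, hβ, rfl⟩ := vec_surj b'
    obtain ⟨γ, hγ, rfl⟩ := vec_surj c'
    obtain ⟨y, hy, ey⟩ : ∃ y < 64, qj y = j' ∧ vec 3 (qb y) = vec 3 β ∧ vec 3 (qc y) = vec 3 γ := by
      have key : ∀ β < 8, ∀ γ < 8, ∀ j' : Fin 2, vec 3 β 0 = vec 3 γ 0 →
          ∃ y < 64, qj y = j' ∧ vec 3 (qb y) = vec 3 β ∧ vec 3 (qc y) = vec 3 γ := by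
        intro β hβ γ hγ j' h
        have hpar : β % 2 = γ % 2 := by
          simp only [vec, Fin.val_zero, Nat.testBit_zero] at h
          rcases Nat.mod_two_eq_zero_or_one β with e | e <;> rcases Nat.mod_two_eq_zero_or_one γ with e' | e' <;>
            simp [e, e'] at h ⊢
        refine ⟨β % 2 + 2 * (β / 2) + 8 * j'.val + 16 * (γ / 2), ?_, ?_⟩
        · omega
        have e3 : qj (β % 2 + 2 * (β / 2) + 8 * j'.val + 16 * (γ / 2)) = j' := by
          have hb : (β % 2 + 2 * (β / 2) + 8 * j'.val + 16 * (γ / 2)).testBit 3 = decide (j'.val = 1) := by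
            rw [Nat.testBit_eq_decide_div_mod_eq]
            congr 1
            apply propext
            omega
          rw [qj, hb]
          fin_cases j' <;> rfl
        have hj2 : j'.val < 2 := j'.isLt
        have h16 : (β % 2 + 2 * (β / 2) + 8 * j'.val + 16 * (γ / 2)) / 16 = γ / 2 := by omega
        have h2 : (β % 2 + 2 * (β / 2) + 8 * j'.val + 16 * (γ / 2)) % 2 = γ % 2 := by omega
        have h4 : γ / 2 % 4 = γ / 2 := by omega
        refine ⟨e3, ?_, ?_⟩
        · congr 1; simp only [qb]; omega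
        · congr 1; simp only [qc, h16, h2, h4]; omega
      exact key β hβ γ hγ j' hbc
    obtain ⟨ej, eb, ec⟩ := ey
    have hscal : ∀ z, ρ g (Q x z) = s • Q y (ρ g z) := fun z => by
      rw [hρ, hρ]
      simp only [Q, ej, eb, ec]
      rw [hs]
      funext a
      simp only [q2map]
      split <;> simp [mon] <;> ring
    have hs0 : s ≠ 0 := by
      intro e
      have h1 := hscal (ofL (unitL 0))
      rw [e, zero_smul, ← map_zero (ρ g)] at h1
      have h2 := (MulAction.injective g) (show g • Q x (ofL (unitL 0)) = g • (0 : V 3 3) from h1)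
      have h3 := congrArg toL h2
      rw [toL_Q, toL_ofL_range] at h3
      have hfin : ∀ r < 64, (Qn r (unitL 0) == (List.range 8).map fun _ => 0) = false := by decide +kernel
      have hmod : Qn x (unitL 0) = Qn (x % 64) (unitL 0) := by
        have e1 : qb (x % 64) = qb x := by unfold qb; omega
        have e2 : qc (x % 64) = qc x := by unfold qc; omega
        have e3 : (x % 64).testBit 3 = x.testBit 3 := by
          rw [show (64 : ℕ) = 2 ^ 6 from rfl, Nat.testBit_mod_two_pow]; simp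
        simp [Qn, e1, e2, e3]
      have hz : toL (0 : V 3 3) = (List.range 8).map fun _ => 0 := List.map_congr_left fun a _ => by simp
      rw [hmod, hz] at h3
      have := hfin (x % 64) (Nat.mod_lt _ (by norm_num))
      rw [h3] at this
      simp at this
    refine ⟨y, hy, s.val, ?_, fun z => by rw [hscal z, ZMod.natCast_zmod_val]⟩
    have h1 : s.val < 3 := ZMod.val_lt s
    have h2 : s.val ≠ 0 := fun e => hs0 ((ZMod.val_eq_zero s).1 e)
    omega
  by_contra hno
  push Not at hno
  simp only [check, Bool.and_eq_true, List.all_eq_true, bne_iff_ne, ne_eq, beq_iff_eq] at hcheck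
  obtain ⟨⟨hD, hE⟩, hall⟩ := hcheck
  have hget : ∀ F : Dat, F.ok = true → ∃ g : G, matR (ρ g) ∈ bads F := by
    intro F hF
    let v : V 3 3 := ofL F.v
    have hFv : toL v = F.v := by
      have hk : F.v = (List.range 8).map fun a => F.v.getD a 0 % 3 := by
        simp only [Dat.ok, Bool.and_eq_true, beq_iff_eq] at hF
        exact hF.1.1
      conv_rhs => rw [hk]
      refine List.map_congr_left fun a ha => ?_
      show (ofL F.v (vec 3 a)).val = _
      rw [ofL_apply _ (List.mem_range.1 ha), ZMod.val_natCast]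
    let w : V 3 3 := ofL F.w
    have hFw : toL w = F.w := by
      show List.map _ _ = List.map _ _
      refine List.map_congr_left fun a ha => ?_
      have ha' := List.mem_range.1 ha
      show (ofL F.w (vec 3 a)).val = _
      rw [ofL_apply _ ha', ZMod.val_natCast, Dat.w, comb, getD_range_map _ ha', Nat.mod_mod]
    obtain ⟨g, hgv, hgw, hg1⟩ := hno v w
    refine ⟨g, bad_mem (hN g) F hFv hF hFw hgv hgw fun h => hg1 (hcube g ?_)⟩
    rw [show ρ g ^ 3 = ρ g * (ρ g * ρ g) by rw [pow_succ, pow_two, mul_assoc], matR_mul, matR_mul]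
    exact h
  obtain ⟨g, hg⟩ := hget D hD
  obtain ⟨k, hk⟩ := hget E hE
  obtain ⟨h1, h2⟩ := hall _ hg _ hk
  refine h1 ?_
  have hone : (g * k) * (g * k) = 1 := hcube _ (by
    rw [show ρ ((g * k) * (g * k)) ^ 3 = ρ (g * k * (g * k)) * (ρ (g * k * (g * k)) * ρ (g * k * (g * k))) by
      rw [pow_succ, pow_two, mul_assoc]]
    simp only [map_mul, matR_mul]
    exact h2)
  rw [← matR_one, ← map_one ρ, ← hone]
  simp only [map_mul, matR_mul]

end Small.Minus

end CfsgLib.BaseCop
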