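import Mathlib

/-!
Signed permutation matrices of the symplectic 2-group on functions on `F_2^d`, as bit codes.
-/

set_option autoImplicit false

namespace CfsgLib.BaseCop

/-- the monomial map with scalar `s`, sign character `b`, translation `c` -/
def mon {p d : ℕ} (s : ZMod p) (b c : Fin d → ZMod 2) (x : (Fin d → ZMod 2) → ZMod p) :
    (Fin d → ZMod 2) → ZMod p :=
  fun a => s * (-1) ^ (∑ i, b i * a i : ZMod 2).val * x (a + c)

namespace Small

/-- the vector of the bit pattern -/
def vec (d x : ℕ) : Fin d → ZMod 2 := fun i => if x.testBit i then 1 else 0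

/-- parity of the first `d` common bits -/
def bdot : ℕ → ℕ → ℕ → Bool
  | 0, _, _ => false
  | k + 1, x, y => xor (bdot k x y) (x.testBit k && y.testBit k)

/-- sign -/
def sg (p : ℕ) (b : Bool) : ZMod p := if b then -1 else 1

theorem sg_xor (p : ℕ) (a b : Bool) : sg p (xor a b) = sg p a * sg p b := by
  cases a <;> cases b <;> simp [sg]

theorem sg_sq (p : ℕ) (a : Bool) : sg p a * sg p a = 1 := by
  cases a <;> simp [sg]

theorem sg_false (p : ℕ) : sg p false = 1 := rfl

theorem vec_xor (d x y : ℕ) : vec d (x ^^^ y) = vec d x + vec d y := by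
  funext i
  simp only [vec, Nat.testBit_xor, Pi.add_apply]
  cases x.testBit i <;> cases y.testBit i <;> decide

theorem vec_zero (d : ℕ) : vec d 0 = 0 := by
  funext i; simp [vec]

theorem vec_mod (d x : ℕ) : vec d (x % 2 ^ d) = vec d x := by
  funext i
  simp [vec, Nat.testBit_mod_two_pow, i.2]

theorem vec_inj {d x y : ℕ} (hx : x < 2 ^ d) (hy : y < 2 ^ d) (h : vec d x = vec d y) : x = y := by
  refine Nat.eq_of_testBit_eq fun i => ?_
  by_cases hi : i < d
  · have := congrFun h ⟨i, hi⟩
    revert this
    simp only [vec]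
    cases x.testBit i <;> cases y.testBit i <;> decide
  · have hle : 2 ^ d ≤ 2 ^ i := Nat.pow_le_pow_right two_pos (by omega)
    rw [Nat.testBit_lt_two_pow (lt_of_lt_of_le hx hle), Nat.testBit_lt_two_pow (lt_of_lt_of_le hy hle)]

theorem vec_surj {d : ℕ} (a : Fin d → ZMod 2) : ∃ x < 2 ^ d, vec d x = a := by
  refine ⟨∑ i : Fin d, (a i).val * 2 ^ (i : ℕ), ?_⟩
  induction d with
  | zero => exact ⟨by simp, funext fun i => i.elim0⟩
  | succ d ih =>
    obtain ⟨h1, h2⟩ := ih fun i => a i.castSucc
    rw [Fin.sum_univ_castSucc]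
    simp only [Fin.val_castSucc, Fin.val_last] at h1 h2 ⊢
    set X := ∑ i : Fin d, (a i.castSucc).val * 2 ^ (i : ℕ) with hX
    have hv : (a (Fin.last d)).val < 2 := ZMod.val_lt _
    have hcase : (a (Fin.last d)).val = 0 ∨ (a (Fin.last d)).val = 1 := by omega
    refine ⟨by rcases hcase with e | e <;> rw [e, pow_succ] <;> omega, funext fun i => ?_⟩
    refine Fin.lastCases ?_ (fun j => ?_) i
    · rcases hcase with e | e
      · have ha : a (Fin.last d) = 0 := (ZMod.val_eq_zero _).1 e
        simp [vec, ha, Nat.testBit_lt_two_pow h1]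
      · have ha : a (Fin.last d) = 1 := ZMod.val_injective 2 (by rw [e, ZMod.val_one])
        simp only [vec, Fin.val_last, ha, ZMod.val_one, one_mul]
        rw [Nat.add_comm, Nat.testBit_two_pow_add_eq, Nat.testBit_lt_two_pow h1]
        rfl
    · have h3 := congrFun h2 j
      simp only [vec] at h3 ⊢
      rcases hcase with e | e
      · simpa [e] using h3
      · rw [e, one_mul, Nat.add_comm, Fin.val_castSucc, Nat.testBit_two_pow_add_gt j.2]
        exact h3

theorem sum_vec (d x y : ℕ) :
    (∑ i : Fin d, vec d x i * vec d y i : ZMod 2) = if bdot d x y then 1 else 0 := by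
  induction d with
  | zero => simp [bdot]
  | succ d ih =>
    rw [Fin.sum_univ_castSucc]
    have : ∀ i : Fin d, vec (d + 1) x i.castSucc * vec (d + 1) y i.castSucc = vec d x i * vec d y i :=
      fun i => rfl
    rw [Finset.sum_congr rfl fun i _ => this i, ih]
    simp only [bdot, vec, Fin.val_last]
    have key : ∀ a b c : Bool, ((if a = true then 1 else 0) + (if b = true then 1 else 0) *
        (if c = true then 1 else 0) : ZMod 2) = if (xor a (b && c)) = true then 1 else 0 := by decide
    exact key _ _ _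

theorem bdot_comm : ∀ d x y, bdot d x y = bdot d y x
  | 0, _, _ => rfl
  | k + 1, x, y => by simp [bdot, bdot_comm k x y, Bool.and_comm]

theorem bdot_xor_right : ∀ d x y z, bdot d x (y ^^^ z) = xor (bdot d x y) (bdot d x z)
  | 0, _, _, _ => rfl
  | k + 1, x, y, z => by
    simp only [bdot, bdot_xor_right k, Nat.testBit_xor]
    cases bdot k x y <;> cases bdot k x z <;> cases x.testBit k <;> cases y.testBit k <;>
      cases z.testBit k <;> rfl

theorem bdot_xor_left (d x y z : ℕ) : bdot d (x ^^^ y) z = xor (bdot d x z) (bdot d y z) := by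
  rw [bdot_comm, bdot_xor_right, bdot_comm d z, bdot_comm d z]

theorem bdot_zero_right : ∀ d x, bdot d x 0 = false
  | 0, _ => rfl
  | k + 1, x => by simp [bdot, bdot_zero_right k]

theorem bdot_mod : ∀ d m x y, d ≤ m → bdot d (x % 2 ^ m) y = bdot d x y
  | 0, _, _, _, _ => rfl
  | k + 1, m, x, y, h => by
    simp [bdot, bdot_mod k m x y (by omega), Nat.testBit_mod_two_pow, show k < m by omega]

theorem bdot_stable {k x y : ℕ} (hy : y < 2 ^ k) : ∀ m, k ≤ m → bdot m x y = bdot k x y := by
  intro m hm
  induction hm with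
  | refl => rfl
  | @step m hm ih =>
    simp [bdot, ih, Nat.testBit_lt_two_pow (lt_of_lt_of_le hy (Nat.pow_le_pow_right two_pos hm))]

theorem bdot_two_pow : ∀ d x i, i < d → bdot d x (2 ^ i) = x.testBit i
  | 0, _, _, h => absurd h (by omega)
  | k + 1, x, i, h => by
    rcases eq_or_lt_of_le (Nat.lt_succ_iff.1 h) with e | e
    · subst e
      rw [bdot, Nat.testBit_two_pow_self, Bool.and_true]
      have : bdot i x (2 ^ i) = false := by
        have : ∀ j ≤ i, bdot j x (2 ^ i) = false := by
          intro j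
          induction j with
          | zero => intro _; rfl
          | succ j ih =>
            intro hj
            simp [bdot, ih (by omega), Nat.testBit_two_pow_of_ne (show i ≠ j by omega)]
        exact this i le_rfl
      simp [this]
    · simp [bdot, bdot_two_pow k x i e, Nat.testBit_two_pow_of_ne (show i ≠ k by omega)]

theorem eq_of_bdot {d x y : ℕ} (hx : x < 2 ^ d) (hy : y < 2 ^ d)
    (h : ∀ z < 2 ^ d, bdot d x z = bdot d y z) : x = y := by
  refine vec_inj hx hy (funext fun i => ?_)
  have := h (2 ^ (i : ℕ)) (Nat.pow_lt_pow_right one_lt_two i.2)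
  rw [bdot_two_pow d x i i.2, bdot_two_pow d y i i.2] at this
  simp [vec, this]

variable (p d : ℕ)

/-- the space -/
abbrev V : Type := (Fin d → ZMod 2) → ZMod p

/-- the map of a code: sign part in the low bits, translation in the high bits -/
def M (x : ℕ) (z : V p d) : V p d :=
  mon 1 (vec d x) (vec d (x >>> d)) z

variable {p d}

theorem mon_vec (s : ZMod p) (b : ℕ) (c : Fin d → ZMod 2) (z : V p d) (y : ℕ) :
    mon s (vec d b) c z (vec d y) = s * sg p (bdot d b y) * z (vec d y + c) := by
  rw [mon, sum_vec]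
  cases bdot d b y <;> simp [sg, ZMod.val_one]

theorem M_apply (x y : ℕ) (z : V p d) :
    M p d x z (vec d y) = sg p (bdot d x y) * z (vec d (y ^^^ (x >>> d))) := by
  rw [M, mon_vec, one_mul, vec_xor]

theorem ext_vec {z z' : V p d} (h : ∀ y < 2 ^ d, z (vec d y) = z' (vec d y)) : z = z' := by
  funext a
  obtain ⟨y, hy, rfl⟩ := vec_surj a
  exact h y hy

theorem M_add (x : ℕ) (z z' : V p d) : M p d x (z + z') = M p d x z + M p d x z' :=
  ext_vec fun y _ => by simp [M_apply, mul_add]

theorem M_smul (x : ℕ) (c : ZMod p) (z : V p d) : M p d x (c • z) = c • M p d x z :=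
  ext_vec fun y _ => by simp [M_apply]; ring

theorem M_zero (z : V p d) : M p d 0 z = z :=
  ext_vec fun y _ => by simp [M_apply, bdot_comm d 0, bdot_zero_right, sg]

theorem shiftRight_xor (x y k : ℕ) : (x ^^^ y) >>> k = (x >>> k) ^^^ (y >>> k) :=
  Nat.eq_of_testBit_eq fun i => by simp [Nat.testBit_shiftRight]

theorem M_mul (x y : ℕ) (z : V p d) :
    M p d x (M p d y z) = sg p (bdot d y (x >>> d)) • M p d (x ^^^ y) z := by
  refine ext_vec fun a _ => ?_
  simp only [M_apply, Pi.smul_apply, smul_eq_mul, bdot_xor_right, bdot_xor_left, sg_xor, shiftRight_xor,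
    Nat.xor_assoc]
  ring

theorem M_sq (x : ℕ) (z : V p d) : M p d x (M p d x z) = sg p (bdot d x (x >>> d)) • z := by
  rw [M_mul, Nat.xor_self, M_zero]

/-- point function -/
def del (p d c : ℕ) : V p d := fun a => if a = vec d c then 1 else 0

theorem del_apply (c : ℕ) (a : Fin d → ZMod 2) : del p d c a = if a = vec d c then 1 else 0 := rfl

theorem M_del (x c : ℕ) :
    M p d x (del p d c) = sg p (bdot d x ((x >>> d) ^^^ c)) • del p d ((x >>> d) ^^^ c) := by
  refine ext_vec fun y _ => ?_
  simp only [M_apply, Pi.smul_apply, smul_eq_mul, del_apply, vec_xor]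
  by_cases h : vec d y = vec d (x >>> d) + vec d c
  · have h' : vec d y + vec d (x >>> d) = vec d c := by
      rw [h, add_right_comm, ← vec_xor, Nat.xor_self, vec_zero, zero_add]
    rw [if_pos h, if_pos h', mul_one, mul_one]
    congr 1
    have e : vec d y = vec d ((x >>> d) ^^^ c) := by rw [vec_xor, h]
    have := sum_vec d x y
    rw [e, sum_vec] at this
    cases h1 : bdot d x ((x >>> d) ^^^ c) <;> cases h2 : bdot d x y <;> simp_all
  · have h' : vec d y + vec d (x >>> d) ≠ vec d c := fun e => h (by
      rw [← e, add_left_comm, ← vec_xor d (x >>> d), Nat.xor_self, vec_zero, add_zero])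
    rw [if_neg h, if_neg h']; simp

theorem del_ne_zero [Fact p.Prime] (c : ℕ) : del p d c ≠ 0 := fun h => by
  have := congrFun h (vec d c)
  simp [del] at this

theorem M_injective (x : ℕ) : Function.Injective (M p d x) := fun a b h => by
  have h' := congrArg (M p d x) h
  rw [M_sq, M_sq] at h'
  have := congrArg (fun t => sg p (bdot d x (x >>> d)) • t) h'
  simpa [smul_smul, sg_sq] using this

theorem sg_injective [Fact p.Prime] (hp : p ≠ 2) {a b : Bool} (h : sg p a = sg p b) : a = b := by
  have h2 : (2 : ZMod p) ≠ 0 := fun e => by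
    have := (ZMod.natCast_eq_zero_iff 2 p).1 (by exact_mod_cast e)
    exact hp ((Nat.prime_dvd_prime_iff_eq (Fact.out : p.Prime) Nat.prime_two).1 this)
  revert h
  cases a <;> cases b <;> simp only [sg, if_true, if_false, Bool.false_eq_true] <;> intro h
  · trivial
  · exact absurd (by linear_combination h) h2
  · exact absurd (by linear_combination -h) h2
  · trivial

/-- codes are determined by their maps up to scalars -/
theorem code_unique [Fact p.Prime] (hp : p ≠ 2) {x y : ℕ} (hx : x < 2 ^ (2 * d)) (hy : y < 2 ^ (2 * d))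
    {s t : ZMod p} (hs : s ≠ 0) (h : ∀ z, s • M p d x z = t • M p d y z) : x = y := by
  have hsh : ∀ {u : ℕ}, u < 2 ^ (2 * d) → u >>> d < 2 ^ d := fun {u} hu => by
    rw [Nat.shiftRight_eq_div_pow, Nat.div_lt_iff_lt_mul (Nat.two_pow_pos d), ← pow_add, ← two_mul]
    exact hu
  have key : ∀ c, s * sg p (bdot d x ((x >>> d) ^^^ c)) = t * sg p (bdot d y ((x >>> d) ^^^ c)) ∧
      vec d ((x >>> d) ^^^ c) = vec d ((y >>> d) ^^^ c) := by
    intro c
    have h1 := congrFun (h (del p d c)) (vec d ((x >>> d) ^^^ c))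
    rw [M_del, M_del] at h1
    simp only [Pi.smul_apply, smul_eq_mul, del_apply, if_true, mul_one] at h1
    by_cases e : vec d ((x >>> d) ^^^ c) = vec d ((y >>> d) ^^^ c)
    · refine ⟨?_, e⟩
      rw [if_pos e, mul_one] at h1
      rw [h1]
      congr 2
      have h3 := sum_vec d y ((x >>> d) ^^^ c)
      rw [e, sum_vec] at h3
      cases h4 : bdot d y ((y >>> d) ^^^ c) <;> cases h5 : bdot d y ((x >>> d) ^^^ c) <;> simp_all
    · rw [if_neg e] at h1
      simp only [mul_zero, mul_eq_zero] at h1
      rcases h1 with h1 | h1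
      · exact absurd h1 hs
      · have := sg_sq p (bdot d x ((x >>> d) ^^^ c))
        rw [h1] at this
        simp at this
  have hhi : x >>> d = y >>> d := by
    have := (key 0).2
    simp only [Nat.xor_zero] at this
    exact vec_inj (hsh hx) (hsh hy) this
  have hlo : x % 2 ^ d = y % 2 ^ d := by
    refine eq_of_bdot (Nat.mod_lt _ (Nat.two_pow_pos d)) (Nat.mod_lt _ (Nat.two_pow_pos d)) fun z _ => ?_
    rw [bdot_mod d d x z le_rfl, bdot_mod d d y z le_rfl]
    have h0 := (key (x >>> d)).1
    have h1 := (key ((x >>> d) ^^^ z)).1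
    simp only [Nat.xor_self, bdot_zero_right, sg_false, mul_one] at h0
    rw [← Nat.xor_assoc, Nat.xor_self, Nat.zero_xor, h0] at h1
    exact sg_injective hp (mul_left_cancel₀ (h0 ▸ hs) h1)
  rw [← Nat.mod_add_div x (2 ^ d), ← Nat.mod_add_div y (2 ^ d), hlo, ← Nat.shiftRight_eq_div_pow,
    ← Nat.shiftRight_eq_div_pow, hhi]

end Small

end CfsgLib.BaseCop
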