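import Cfsg.Agent.Lib.BaseCop.Small.Search

/-!
Certificates in parts: literal candidate lists and a tree of witnesses.
-/

set_option autoImplicit false

namespace CfsgLib.BaseCop.Small

/-- one part: admissible data with the given candidates -/
def part (p d : ℕ) (D : List ℕ × List ℕ) (J : List (List ℕ)) : Bool :=
  okData p d D && conjCand p d D == J

/-- witnesses: which word and exponent give an element of order divisible by `p`, or how to continue -/
inductive Tr : Type
  | leaf (i k : ℕ) : Tr
  | nil : Tr
  | cons (a b : Tr) : Tr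

/-- a node from its children -/
def Tr.node : List Tr → Tr
  | [] => .nil
  | a :: l => .cons a (Tr.node l)

/-- the children -/
def Tr.kids : Tr → List Tr
  | .cons a b => a :: b.kids
  | _ => []

/-- checking a witness tree -/
def chkT (p m wl : ℕ) : List (List (List ℕ)) → List (List ℕ) → List ℕ → Tr → Bool
  | [], ch, x, t =>
    match t with
    | .leaf i k => pDiv p m [k] (mulL ((subWords m ch wl).getD i (idL m)) x)
    | _ => false
  | J :: rest, ch, x, t =>
    match t with
    | .leaf i k => pDiv p m [k] (mulL ((subWords m ch wl).getD i (idL m)) x)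
    | t => t.kids.length == J.length && (List.zip J t.kids).all fun yt => chkT p m wl rest (x :: ch) yt.1 yt.2

theorem parts_spec {p d : ℕ} {data : List (List ℕ × List ℕ)} {lits : List (List (List ℕ))}
    (h : List.Forall₂ (fun D J => part p d D J = true) data lits) :
    (∀ D ∈ data, okData p d D = true) ∧ data.map (conjCand p d) = lits := by
  induction h with
  | nil => exact ⟨by simp, rfl⟩
  | @cons D J ds Js h1 _ ih =>
    simp only [part, Bool.and_eq_true, beq_iff_eq] at h1
    exact ⟨fun E hE => (List.mem_cons.1 hE).elim (fun e => e ▸ h1.1) (ih.1 E),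
      by rw [List.map_cons, h1.2, ih.2]⟩

section sound

variable {p d : ℕ} [Fact p.Prime] {G : Type*} [Group G] {ρ : G →* End p d}

theorem chkT_sound (hp : p ≠ 2) (hG : ¬p ∣ Nat.card G) (hbij : ∀ g, Function.Bijective (ρ g)) (wl : ℕ) :
    ∀ (Js : List (List (List ℕ))) (ch : List (List ℕ)) (x : List ℕ) (t : Tr),
      (∀ A ∈ ch, HasImg ρ A) → (∀ J ∈ Js, ∃ y ∈ J, HasImg ρ y) → HasImg ρ x →
      chkT p (2 * d) wl Js ch x t = false := by
  have leafCase : ∀ (ch : List (List ℕ)) (x : List ℕ) (i k : ℕ), (∀ A ∈ ch, HasImg ρ A) → HasImg ρ x →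
      pDiv p (2 * d) [k] (mulL ((subWords (2 * d) ch wl).getD i (idL (2 * d))) x) = false := by
    intro ch x i k hch hx
    refine HasImg.not_pDiv hp hG hbij [k] (HasImg.mul ?_ hx)
    by_cases hi : i < (subWords (2 * d) ch wl).length
    · rw [List.getD_eq_getElem _ _ hi]
      exact HasImg.sub hch wl _ (List.getElem_mem hi)
    · rw [List.getD_eq_default _ _ (by omega)]
      exact HasImg.one
  intro Js
  induction Js with
  | nil =>
    intro ch x t hch _ hx
    cases t with
    | leaf i k => exact leafCase ch x i k hch hx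
    | nil => rfl
    | cons a b => rfl
  | cons J rest ih =>
    intro ch x t hch hJ hx
    have key : ∀ l : List Tr,
        (l.length == J.length && (List.zip J l).all fun yt => chkT p (2 * d) wl rest (x :: ch) yt.1 yt.2) = false := by
      intro l
      by_contra hcon
      simp only [Bool.not_eq_false, Bool.and_eq_true, beq_iff_eq, List.all_eq_true] at hcon
      obtain ⟨y, hy, himg⟩ := hJ J (List.mem_cons_self ..)
      obtain ⟨n, hn, rfl⟩ := List.mem_iff_getElem.1 hy
      have hmem : (J[n], l[n]'(by omega)) ∈ List.zip J l :=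
        List.mem_iff_getElem.2 ⟨n, by simp [List.length_zip]; omega, by simp [List.getElem_zip]⟩
      have h := hcon.2 _ hmem
      rw [ih (x :: ch) _ _ (fun A hA => (List.mem_cons.1 hA).elim (fun e => e ▸ hx) (hch A))
        (fun K hK => hJ K (List.mem_cons_of_mem _ hK)) himg] at h
      exact Bool.false_ne_true h
    cases t with
    | leaf i k => exact leafCase ch x i k hch hx
    | nil => exact key _
    | cons a b => exact key (Tr.cons a b).kids

end sound

/-- a certificate in parts gives a base of size two -/
theorem exists_base_of_parts {p d : ℕ} [Fact p.Prime] (hp : p ≠ 2) {G : Type*} [Group G] [Finite G]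
    [DistribMulAction G (V p d)] (hG : ¬p ∣ Nat.card G)
    (hf : ∀ g : G, (∀ x : V p d, g • x = x) → g = 1)
    (hnorm : ∀ (g : G) b c, ∃ s b' c', ∀ x : V p d, g • mon 1 b c x = mon s b' c' (g • x))
    (data : List (List ℕ × List ℕ)) (J : List (List ℕ)) (rest : List (List (List ℕ))) (wl : ℕ)
    (hparts : List.Forall₂ (fun D J => part p d D J = true) data (J :: rest))
    (hfirst : List.Forall (fun x => ∃ t, chkT p (2 * d) wl rest [] x t = true) J) :
    ∃ v w : V p d, ∀ g : G, g • v = v → g • w = w → g = 1 := by
  obtain ⟨hdata, hmap⟩ := parts_spec hparts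
  refine exists_base_of_data hp hG hf hnorm data hdata fun ρ hbij hJ => ?_
  rw [hmap] at hJ
  obtain ⟨x, hx, himg⟩ := hJ J (List.mem_cons_self ..)
  obtain ⟨t, ht⟩ := (List.forall_iff_forall_mem.1 hfirst) x hx
  rw [chkT_sound hp hG hbij wl rest [] x t (by simp) (fun K hK => hJ K (List.mem_cons_of_mem _ hK)) himg] at ht
  exact Bool.false_ne_true ht

end CfsgLib.BaseCop.Small
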