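import Cfsg.Agent.Lib.BaseCop.Small.Frame

/-!
A finite certificate for bases of size two.
-/

set_option autoImplicit false

namespace CfsgLib.BaseCop.Small

/-- symplectic form -/
def form (d u x : ℕ) : Bool := xor (bdot d x (u >>> d)) (bdot d u (x >>> d))

/-- matrix of a transvection -/
def trL (d u : ℕ) : List ℕ := (List.range (2 * d)).map fun i => if form d u (2 ^ i) then 2 ^ i ^^^ u else 2 ^ i

/-- its scalar -/
def trC (d u : ℕ) : ℕ := if bdot d u (u >>> d) then 1 else 2

/-- admissible code -/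
def okU (p d u : ℕ) : Bool :=
  decide (u < 2 ^ (2 * d)) && (trC d u * trC d u * sgn p (bdot d u (u >>> d)) + 1) % p == 0

/-- matrix of a product of transvections -/
def trsL (d : ℕ) : List ℕ → List ℕ
  | [] => idL (2 * d)
  | u :: us => mulL (trL d u) (trsL d us)

/-- matrices of candidates of prime order -/
def cand (p d : ℕ) (w : List ℕ) : List (List ℕ) :=
  ((sols p d w d [0] [1]).map fun TE => extract p d TE.1 TE.2).filter fun L =>
    L != idL (2 * d) && [2, 3, 5, 7, 11, 13].any fun r => r != p && powL (2 * d) L r == idL (2 * d)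

/-- every listed map is the identity or has small order -/
def okSols (p d : ℕ) (w : List ℕ) : Bool :=
  (sols p d w d [0] [1]).all fun TE =>
    (TE.1 == List.range (2 ^ d) && TE.2 == (List.range (2 ^ d)).map fun _ => 1) ||
      (extract p d TE.1 TE.2 != idL (2 * d) &&
        (List.range' 1 16).any fun o => powL (2 * d) (extract p d TE.1 TE.2) o == idL (2 * d))

/-- conjugated candidates -/
def conjCand (p d : ℕ) (D : List ℕ × List ℕ) : List (List ℕ) :=
  (cand p d D.1).map fun L => mulL (trsL d D.2) (mulL L (trsL d D.2.reverse))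

/-- data are admissible -/
def okData (p d : ℕ) (D : List ℕ × List ℕ) : Bool :=
  D.2.all (okU p d) && mulL (trsL d D.2) (trsL d D.2.reverse) == idL (2 * d) && okSols p d D.1

/-- the order is divisible by `p` -/
def pDiv (p m : ℕ) (qs : List ℕ) (L : List ℕ) : Bool :=
  let y := qs.foldl (fun y q => powL m y q) L
  y != idL m && powL m y p == idL m

/-- products of short subwords -/
def subWords (m : ℕ) : List (List ℕ) → ℕ → List (List ℕ)
  | [], _ => [idL m]
  | _ :: _, 0 => [idL m]
  | a :: l, k + 1 => subWords m l (k + 1) ++ (subWords m l k).map (mulL · a)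

/-- no compatible choice exists -/
def noChoice (p m wl : ℕ) (qs : List ℕ) : List (List (List ℕ)) → List (List ℕ) → Bool
  | [], _ => false
  | J :: rest, ch =>
    J.all fun x => ((subWords m ch wl).any fun u => pDiv p m qs (mulL u x)) || noChoice p m wl qs rest (x :: ch)

/-- the certificate -/
def check (p d wl : ℕ) (qs : List ℕ) (data : List (List ℕ × List ℕ)) : Bool :=
  data.all (okData p d) && noChoice p (2 * d) wl qs (data.map (conjCand p d)) []

variable {p d : ℕ}

/-- `M` as a linear map -/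
def Mlin (p d x : ℕ) : End p d where
  toFun := M p d x
  map_add' := M_add x
  map_smul' := M_smul x

/-- transvection -/
def tr (p d u : ℕ) : End p d := 1 + (trC d u : ZMod p) • Mlin p d u

theorem tr_apply (u : ℕ) (z : V p d) : tr p d u z = z + (trC d u : ZMod p) • M p d u z := rfl

theorem okU_spec (hp : 1 ≤ p) {u : ℕ} (h : okU p d u = true) :
    u < 2 ^ (2 * d) ∧ (trC d u : ZMod p) * trC d u * sg p (bdot d u (u >>> d)) = -1 := by
  simp only [okU, Bool.and_eq_true, decide_eq_true_eq, beq_iff_eq] at h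
  refine ⟨h.1, eq_neg_of_add_eq_zero_left ?_⟩
  have h2 := congrArg (Nat.cast : ℕ → ZMod p) h.2
  rw [ZMod.natCast_mod] at h2
  push_cast at h2
  rwa [sgn_cast hp] at h2

theorem tr_injective [Fact p.Prime] (hp : p ≠ 2) {u : ℕ} (h : okU p d u = true) :
    Function.Injective (tr p d u) := by
  obtain ⟨-, hc⟩ := okU_spec (Fact.out : p.Prime).one_le h
  refine (injective_iff_map_eq_zero _).2 fun z hz => ?_
  rw [tr_apply] at hz
  have h1 := congrArg (fun t => (trC d u : ZMod p) • M p d u t) hz
  simp only [M_add, M_smul, M_sq, smul_add, smul_smul, ← mul_assoc, hc] at h1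
  have h00 : M p d u (0 : V p d) = 0 := ext_vec fun a _ => by simp [M_apply]
  rw [h00, smul_zero] at h1
  have h3 : (2 : ZMod p) • z = 0 := by
    rw [show (2 : ZMod p) • z = (z + (trC d u : ZMod p) • M p d u z) -
      ((trC d u : ZMod p) • M p d u z + (-1 : ZMod p) • z) by module, hz, h1, sub_zero]
  refine (smul_eq_zero.1 h3).resolve_left fun e => hp ?_
  exact (Nat.prime_dvd_prime_iff_eq (Fact.out : p.Prime) Nat.prime_two).1
    ((ZMod.natCast_eq_zero_iff 2 p).1 (by exact_mod_cast e))

theorem tr_img [Fact p.Prime] {u : ℕ} (h : okU p d u = true) :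
    Valid (2 * d) (trL d u) ∧ Img (tr p d u) (trL d u) := by
  obtain ⟨hu, hc⟩ := okU_spec (Fact.out : p.Prime).one_le h
  have happ : ∀ x < 2 ^ (2 * d), app (trL d u) x = if form d u x then x ^^^ u else x := fun x hx => by
    refine app_map_pow (2 * d) (fun x => if form d u x then x ^^^ u else x) (fun a b _ _ => ?_) x hx
    simp only [form, bdot_xor_left, shiftRight_xor, bdot_xor_right]
    have key : ∀ p q r s : Bool, (if xor (xor p q) (xor r s) = true then a ^^^ b ^^^ u else a ^^^ b) =
        (if xor p r = true then a ^^^ u else a) ^^^ (if xor q s = true then b ^^^ u else b) := by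
      intro p q r s
      cases p <;> cases q <;> cases r <;> cases s <;> simp [Nat.xor_comm, Nat.xor_left_comm]
    exact key _ _ _ _
  refine ⟨⟨by simp [trL], fun a ha => ?_⟩, fun x hx => ?_⟩
  · obtain ⟨i, hi, rfl⟩ := List.mem_map.1 ha
    have := Nat.pow_lt_pow_right (a := 2) one_lt_two (List.mem_range.1 hi)
    split
    · exact Nat.xor_lt_two_pow this hu
    · exact this
  rw [happ x hx]
  by_cases hf : form d u x = true
  · refine ⟨(trC d u : ZMod p) * sg p (bdot d x (u >>> d)), fun z => ?_⟩
    have hanti : sg p (bdot d u (x >>> d)) = -sg p (bdot d x (u >>> d)) := by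
      simp only [form] at hf
      cases ha : bdot d x (u >>> d) <;> cases hb : bdot d u (x >>> d) <;> simp_all [sg]
    have hf' := hf
    simp only [form] at hf'
    rw [if_pos hf, tr_apply, tr_apply, M_add, M_smul, M_mul, M_mul, Nat.xor_comm u x, shiftRight_xor,
      bdot_xor_right, sg_xor, hanti, Nat.xor_assoc, Nat.xor_self, Nat.xor_zero]
    have hsq := sg_sq p (bdot d x (u >>> d))
    match_scalars
    · linear_combination (sg p (bdot d x (u >>> d)) * sg p (bdot d x (u >>> d))) * hc - hsq
    · ring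
  · refine ⟨1, fun z => ?_⟩
    rw [if_neg hf, one_smul, tr_apply, tr_apply, M_add, M_smul, M_mul, M_mul, Nat.xor_comm u x]
    congr 3
    simp only [form, Bool.not_eq_true] at hf
    cases ha : bdot d x (u >>> d) <;> cases hb : bdot d u (x >>> d) <;> simp_all

/-- product of transvections -/
def trs (p d : ℕ) : List ℕ → End p d
  | [] => 1
  | u :: us => tr p d u * trs p d us

theorem trs_spec [Fact p.Prime] (hp : p ≠ 2) : ∀ us : List ℕ, us.all (okU p d) = true →
    Function.Injective (trs p d us) ∧ Valid (2 * d) (trsL d us) ∧ Img (trs p d us) (trsL d us)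
  | [], _ => ⟨fun _ _ h => h, valid_idL _, Img.one⟩
  | u :: us, h => by
    simp only [List.all_cons, Bool.and_eq_true] at h
    obtain ⟨h1, h2, h3⟩ := trs_spec hp us h.2
    exact ⟨(tr_injective hp h.1).comp h1, (tr_img h.1).1.mul h2, (tr_img h.1).2.mul h3 h2⟩

section group

variable {G : Type*} [Group G] (ρ : G →* End p d)

/-- `L` is the matrix of a group element -/
def HasImg (L : List ℕ) : Prop := ∃ g, Valid (2 * d) L ∧ Img (ρ g) L

variable {ρ}

theorem HasImg.one : HasImg ρ (idL (2 * d)) := ⟨1, valid_idL _, by rw [map_one]; exact Img.one⟩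

theorem HasImg.mul {A B : List ℕ} (hA : HasImg ρ A) (hB : HasImg ρ B) : HasImg ρ (mulL A B) := by
  obtain ⟨g, hv, hi⟩ := hA
  obtain ⟨g', hv', hi'⟩ := hB
  exact ⟨g * g', hv.mul hv', by rw [map_mul]; exact hi.mul hi' hv'⟩

theorem HasImg.powL {A : List ℕ} (hA : HasImg ρ A) (n : ℕ) : HasImg ρ (powL (2 * d) A n) := by
  obtain ⟨g, hv, hi⟩ := hA
  exact ⟨g ^ n, (hi.pow hv n).2, by rw [map_pow]; exact (hi.pow hv n).1⟩

theorem HasImg.sub {ch : List (List ℕ)} (hch : ∀ A ∈ ch, HasImg ρ A) :
    ∀ k, ∀ u ∈ subWords (2 * d) ch k, HasImg ρ u := by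
  induction ch with
  | nil => intro k u hu; simp only [subWords, List.mem_singleton] at hu; subst hu; exact HasImg.one
  | cons a l ih =>
    intro k u hu
    have ih' := ih fun A hA => hch A (List.mem_cons_of_mem _ hA)
    cases k with
    | zero => simp only [subWords, List.mem_singleton] at hu; subst hu; exact HasImg.one
    | succ k =>
      simp only [subWords, List.mem_append, List.mem_map] at hu
      rcases hu with hu | ⟨v, hv, rfl⟩
      · exact ih' _ u hu
      · exact (ih' _ v hv).mul (hch a (List.mem_cons_self ..))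

variable [Fact p.Prime] [Finite G]

omit [Finite G] in
theorem HasImg.not_pDiv (hp2 : p ≠ 2) (hG : ¬p ∣ Nat.card G) (hbij : ∀ g, Function.Bijective (ρ g))
    {L : List ℕ} (qs : List ℕ) (hL : HasImg ρ L) : pDiv p (2 * d) qs L = false := by
  by_contra h
  simp only [Bool.not_eq_false, pDiv, Bool.and_eq_true, bne_iff_ne, ne_eq, beq_iff_eq] at h
  obtain ⟨h1, h2⟩ := h
  obtain ⟨y, hy⟩ : ∃ y, y = qs.foldl (fun y q => Small.powL (2 * d) y q) L := ⟨_, rfl⟩
  rw [← hy] at h1 h2
  have hY : HasImg ρ y := by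
    rw [hy]; clear hy h1 h2
    induction qs generalizing L with
    | nil => exact hL
    | cons q qs ih => exact ih (hL.powL q)
  obtain ⟨g, hv, hi⟩ := hY
  have hco : Nat.Coprime p (orderOf g) := (Fact.out : p.Prime).coprime_iff_not_dvd.2 fun e =>
    hG (e.trans (orderOf_dvd_natCard g))
  have hp1 : Img (ρ (g ^ p)) (idL (2 * d)) := by
    rw [map_pow, ← h2]; exact (hi.pow hv p).1
  obtain ⟨j, hj⟩ := exists_pow_eq_self_of_coprime hco
  refine h1 (Img.unique hp2 (hbij g) hv (valid_idL _) hi ?_)
  rw [← hj, map_pow]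
  have : ∀ n, Small.powL (2 * d) (idL (2 * d)) n = idL (2 * d) := by
    intro n
    induction n with
    | zero => rfl
    | succ n ih =>
      show mulL (Small.powL (2 * d) (idL (2 * d)) n) (idL (2 * d)) = _
      rw [ih]
      exact ((valid_idL _).mul (valid_idL _)).ext (valid_idL _) fun x hx => by
        rw [app_mulL, app_idL hx, app_idL hx]
  rw [← this j]
  exact (hp1.pow (valid_idL _) j).1

omit [Finite G] in
theorem noChoice_sound (hp2 : p ≠ 2) (hG : ¬p ∣ Nat.card G) (hbij : ∀ g, Function.Bijective (ρ g))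
    (wl : ℕ) (qs : List ℕ) : ∀ (Js : List (List (List ℕ))) (ch : List (List ℕ)),
      (∀ A ∈ ch, HasImg ρ A) → (∀ J ∈ Js, ∃ x ∈ J, HasImg ρ x) → noChoice p (2 * d) wl qs Js ch = false
  | [], _, _, _ => rfl
  | J :: rest, ch, hch, hJ => by
    obtain ⟨x, hx, himg⟩ := hJ J (List.mem_cons_self ..)
    rw [noChoice, List.all_eq_false]
    refine ⟨x, hx, ?_⟩
    have h1 : ((subWords (2 * d) ch wl).any fun u => pDiv p (2 * d) qs (mulL u x)) = false :=
      List.any_eq_false.2 fun u hu => by
        rw [HasImg.not_pDiv hp2 hG hbij qs ((HasImg.sub hch wl u hu).mul himg)]; simp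
    rw [h1, noChoice_sound hp2 hG hbij wl qs rest (x :: ch)
      (fun A hA => by
        rcases List.mem_cons.1 hA with rfl | hA
        · exact himg
        · exact hch A hA)
      fun K hK => hJ K (List.mem_cons_of_mem _ hK)]
    simp

end group

/-- a map fixing the pair and moving something has a conjugated candidate as matrix, after a power -/
theorem exists_cand [Fact p.Prime] (hp : p ≠ 2) {w : List ℕ} (hw : okSols p d w = true) {f : End p d}
    {L : List ℕ} (hL : Valid (2 * d) L) (hI : Img f L) (hinj : Function.Injective f)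
    (h0 : f (del p d 0) = del p d 0) (h1 : f (wf p d w) = wf p d w) {q : ℕ} (hq : q.Prime) (hqp : q ≠ p)
    (hf : f ≠ 1) (hpow : f ^ q = 1) : L ∈ cand p d w := by
  have htriv : ∀ {f : End p d} {L : List ℕ}, Valid (2 * d) L → Img f L → Function.Injective f →
      f (del p d 0) = del p d 0 → f (wf p d w) = wf p d w →
      f = 1 ∨ (L ≠ idL (2 * d) ∧ ∃ o, 1 ≤ o ∧ o ≤ 16 ∧ powL (2 * d) L o = idL (2 * d)) := by
    intro f L hL hI hinj h0 h1
    obtain ⟨TE, hTE, hext, hdel⟩ := img_mem hp w hinj hL hI h0 h1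
    have hk := (List.all_eq_true.1 hw) TE hTE
    simp only [Bool.or_eq_true, Bool.and_eq_true, beq_iff_eq, bne_iff_ne, ne_eq, List.any_eq_true,
      List.mem_range'_1] at hk
    rcases hk with ⟨hT, hE⟩ | ⟨hne, o, ho, hpo⟩
    · left
      refine LinearMap.ext fun z => ?_
      have hz : z = ∑ a ∈ Finset.range (2 ^ d), z (vec d a) • del p d a := ext_vec fun b hb => by
        rw [Finset.sum_apply, Finset.sum_eq_single b]
        · simp [del_vec hb hb]
        · intro a ha hne
          simp [del_vec (Finset.mem_range.1 ha) hb, Ne.symm hne]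
        · simp [hb]
      rw [hz, Module.End.one_apply, map_sum]
      refine Finset.sum_congr rfl fun a ha => ?_
      have ha' := Finset.mem_range.1 ha
      rw [map_smul, hdel a ha', hT, hE, getD_map_range _ ha', Nat.cast_one, one_smul]
      simp [List.getD_eq_getElem?_getD, ha']
    · exact Or.inr ⟨by rw [hext]; exact hne, o, ho.1, by omega, by rw [hext]; exact hpo⟩
  rcases htriv hL hI hinj h0 h1 with h | ⟨hLne, o, ho1, ho2, hLo⟩
  · exact absurd h hf
  have hfo : f ^ o = 1 := by
    have hfix : ∀ (z : V p d), f z = z → ∀ n, (f ^ n) z = z := fun z hz n => by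
      induction n with
      | zero => rfl
      | succ n ih => rw [pow_succ, Module.End.mul_apply, hz, ih]
    have hinjo : Function.Injective ⇑(f ^ o) := by
      rw [Module.End.coe_pow]; exact hinj.iterate o
    rcases htriv (valid_idL _) (hLo ▸ (hI.pow hL o).1) hinjo (hfix _ h0 o) (hfix _ h1 o) with h | ⟨h, -⟩
    · exact h
    · exact absurd rfl h
  have hord : orderOf f = q := by
    haveI := Fact.mk hq
    exact orderOf_eq_prime hpow hf
  have hqo : q ∣ o := hord ▸ orderOf_dvd_of_pow_eq_one hfo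
  refine List.mem_filter.2 ⟨?_, ?_⟩
  · obtain ⟨TE, hTE, hext, -⟩ := img_mem hp w hinj hL hI h0 h1
    exact List.mem_map.2 ⟨TE, hTE, hext.symm⟩
  · rw [Bool.and_eq_true, List.any_eq_true]
    refine ⟨by simpa using hLne, q, ?_, ?_⟩
    · have hq16 : q ≤ 16 := (Nat.le_of_dvd (by omega) hqo).trans ho2
      have hq2 := hq.two_le
      interval_cases q <;> first | decide | exact absurd hq (by norm_num)
    · have hLq : powL (2 * d) L q = idL (2 * d) :=
        Img.unique hp (f := 1) ⟨fun _ _ h => h, fun x => ⟨x, rfl⟩⟩ (hI.pow hL q).2 (valid_idL _)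
          (hpow ▸ (hI.pow hL q).1) Img.one
      simp [hqp, hLq]

/-- admissible data whose candidates admit no choice give a base of size two -/
theorem exists_base_of_data [Fact p.Prime] (hp : p ≠ 2) {G : Type*} [Group G] [Finite G]
    [DistribMulAction G (V p d)] (hG : ¬p ∣ Nat.card G)
    (hf : ∀ g : G, (∀ x : V p d, g • x = x) → g = 1)
    (hnorm : ∀ (g : G) b c, ∃ s b' c', ∀ x : V p d, g • mon 1 b c x = mon s b' c' (g • x))
    (data : List (List ℕ × List ℕ)) (hdata : ∀ D ∈ data, okData p d D = true)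
    (hchoice : ∀ ρ : G →* End p d, (∀ g, Function.Bijective (ρ g)) →
      (∀ J ∈ data.map (conjCand p d), ∃ x ∈ J, HasImg ρ x) → False) :
    ∃ v w : V p d, ∀ g : G, g • v = v → g • w = w → g = 1 := by
  haveI : NeZero p := ⟨(Fact.out : p.Prime).ne_zero⟩
  let ρ : G →* End p d :=
    { toFun := fun g => AddMonoidHom.toZModLinearMap p (DistribSMul.toAddMonoidHom (V p d) g)
      map_one' := LinearMap.ext fun x => one_smul G x
      map_mul' := fun g g' => LinearMap.ext fun x => mul_smul g g' x }
  have hρ : ∀ g x, ρ g x = g • x := fun g x => rfl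
  have hbij : ∀ g, Function.Bijective (ρ g) := fun g => MulAction.bijective g
  have hρinj : ∀ g, ρ g = 1 → g = 1 := fun g h => hf g fun x => LinearMap.congr_fun h x
  by_contra hno
  push Not at hno
  refine hchoice ρ hbij ?_
  intro J hJ
  obtain ⟨D, hD, rfl⟩ := List.mem_map.1 hJ
  have hok := hdata D hD
  simp only [okData, Bool.and_eq_true, beq_iff_eq] at hok
  obtain ⟨⟨hus, hinv⟩, hsols⟩ := hok
  obtain ⟨hHinj, hHv, hHi⟩ := trs_spec hp D.2 hus
  obtain ⟨g, hgv, hgw, hg1⟩ := hno (trs p d D.2 (del p d 0)) (trs p d D.2 (wf p d D.1))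
  -- a power of prime order
  obtain ⟨q, hq, hqdvd⟩ := Nat.exists_prime_and_dvd (fun e => hg1 (orderOf_eq_one_iff.1 e))
  have hqp : q ≠ p := fun e => hG (e ▸ hqdvd.trans (orderOf_dvd_natCard g))
  obtain ⟨k, hk⟩ : ∃ k, g ^ (orderOf g / q) = k := ⟨_, rfl⟩
  have hkq : k ^ q = 1 := by rw [← hk, ← pow_mul, Nat.div_mul_cancel hqdvd, pow_orderOf_eq_one]
  have hk1 : k ≠ 1 := by
    rw [← hk]
    refine fun e => ?_
    have h := Nat.le_of_dvd (Nat.div_pos (Nat.le_of_dvd (orderOf_pos g) hqdvd) hq.pos)
      (orderOf_dvd_of_pow_eq_one e)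
    exact absurd h (not_le.2 (Nat.div_lt_self (orderOf_pos g) hq.one_lt))
  have hfixk : ∀ x : V p d, g • x = x → k • x = x := fun x hx => by
    rw [← hk]
    generalize orderOf g / q = n
    induction n with
    | zero => rw [pow_zero, one_smul]
    | succ n ih => rw [pow_succ, mul_smul, hx, ih]
  set H := trs p d D.2 with hH
  have hHbij : Function.Bijective H := Finite.injective_iff_bijective.1 hHinj
  let e := LinearEquiv.ofBijective H hHbij
  obtain ⟨Hi, hHidef⟩ : ∃ Hi : End p d, Hi = e.symm.toLinearMap := ⟨_, rfl⟩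
  have hh1 : H * Hi = 1 := LinearMap.ext fun x => by subst hHidef; exact e.apply_symm_apply x
  have hh2 : Hi * H = 1 := LinearMap.ext fun x => by subst hHidef; exact e.symm_apply_apply x
  obtain ⟨hHiv⟩ : Nonempty (Valid (2 * d) (trsL d D.2.reverse)) :=
    ⟨(trs_spec hp D.2.reverse (by rwa [List.all_reverse])).2.1⟩
  have hHii : Img Hi (trsL d D.2.reverse) := Img.symm hh1 hh2 hHi hHiv hinv
  obtain ⟨L, hLv, hLi⟩ := exists_img hp (ρ k) (hbij k) fun b c => by
    obtain ⟨s, b', c', hs⟩ := hnorm k b c
    exact ⟨s, b', c', fun x => by rw [hρ, hρ]; exact hs x⟩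
  set f := Hi * (ρ k * H) with hfdef
  have hfeq : ρ k = H * (f * Hi) := by
    rw [hfdef, mul_assoc Hi, mul_assoc (ρ k), hh1, mul_one, ← mul_assoc, hh1, one_mul]
  have hfI : Img f (mulL (trsL d D.2.reverse) (mulL L (trsL d D.2))) :=
    hHii.mul (hLi.mul hHi hHv) (hLv.mul hHv)
  have hfv : Valid (2 * d) (mulL (trsL d D.2.reverse) (mulL L (trsL d D.2))) := hHiv.mul (hLv.mul hHv)
  have hfix : ∀ z, g • H z = H z → f z = z := fun z hz => by
    rw [hfdef, Module.End.mul_apply, Module.End.mul_apply, hρ, hfixk _ hz]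
    exact LinearMap.congr_fun hh2 z
  have hfne : f ≠ 1 := fun h => hk1 (hρinj k (by rw [hfeq, h, one_mul, hh1]))
  have hfq : f ^ q = 1 := by
    have hpw : ∀ n, f ^ n = Hi * (ρ k ^ n * H) := fun n => by
      induction n with
      | zero => rw [pow_zero, pow_zero, one_mul, hh2]
      | succ n ih =>
        rw [pow_succ, pow_succ, ih, hfdef]
        simp only [mul_assoc]
        rw [← mul_assoc H Hi, hh1, one_mul]
    rw [hpw, ← map_pow, hkq, map_one, one_mul, hh2]
  have hfinj : Function.Injective f := by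
    intro a b hab
    simp only [hfdef, Module.End.mul_apply] at hab
    exact hHinj ((hbij k).1 (by
      have := congrArg H hab
      simpa only [← Module.End.mul_apply H Hi, hh1, Module.End.one_apply] using this))
  have hmem := exists_cand hp hsols hfv hfI hfinj (hfix _ hgv) (hfix _ hgw) hq hqp hfne hfq
  refine ⟨mulL (trsL d D.2) (mulL (mulL (trsL d D.2.reverse) (mulL L (trsL d D.2))) (trsL d D.2.reverse)),
    List.mem_map.2 ⟨_, hmem, rfl⟩, k, hHv.mul (hfv.mul hHiv), ?_⟩
  rw [hfeq]
  exact hHi.mul (hfI.mul hHii hHiv) (hfv.mul hHiv)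

/-- a successful certificate gives a base of size two -/
theorem exists_base_of_check [Fact p.Prime] (hp : p ≠ 2) {G : Type*} [Group G] [Finite G]
    [DistribMulAction G (V p d)] (hG : ¬p ∣ Nat.card G)
    (hf : ∀ g : G, (∀ x : V p d, g • x = x) → g = 1)
    (hnorm : ∀ (g : G) b c, ∃ s b' c', ∀ x : V p d, g • mon 1 b c x = mon s b' c' (g • x))
    (wl : ℕ) (qs : List ℕ) (data : List (List ℕ × List ℕ)) (hcheck : check p d wl qs data = true) :
    ∃ v w : V p d, ∀ g : G, g • v = v → g • w = w → g = 1 := by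
  simp only [check, Bool.and_eq_true, List.all_eq_true] at hcheck
  refine exists_base_of_data hp hG hf hnorm data hcheck.1 fun ρ hbij hJ => ?_
  have h := noChoice_sound (ρ := ρ) hp hG hbij wl qs (data.map (conjCand p d)) [] (by simp) hJ
  rw [h] at hcheck
  exact absurd hcheck.2 (by simp)

end CfsgLib.BaseCop.Small
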